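import Cfsg.Prelude.Def_LocalEven
import Cfsg.Prelude.Def_PLocal
import Cfsg.Agent.Lib.Coprime.Basic
import Mathlib

/-!
# Hypercentral gaps and natural chief factors

* `commutator_le_iff_map`, `sup_commutator_le`, `commutator_sup_le`
* `exists_iter_le`: `[N, X] ≤ V` with `G = X Q`, `Q` nilpotent: `G` is hypercentral on `N / V`
* `IsLayer F L N`: a natural `SL₂(F)`-layer; `IsLayer.ofEquiv`
* `Reaches`, `reaches_of_iter`, `natural_of_reaches`: noncentral chief factors below a chain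
-/

set_option autoImplicit false

namespace Cfsg.Agent.PushingUp

open Subgroup Matrix
open scoped commutatorElement MatrixGroups

universe u

variable {G : Type u} [Group G]

theorem commutator_le_iff_map {N : Subgroup G} [N.Normal] {X Y : Subgroup G} :
    ⁅X, Y⁆ ≤ N ↔ X.map (QuotientGroup.mk' N) ≤ centralizer (Y.map (QuotientGroup.mk' N) : Set (G ⧸ N)) := by
  rw [← commutator_eq_bot_iff_le_centralizer, ← Subgroup.map_commutator, Subgroup.map_eq_bot_iff,
    QuotientGroup.ker_mk']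

theorem sup_commutator_le {N : Subgroup G} [N.Normal] {X X' Y : Subgroup G} (h : ⁅X, Y⁆ ≤ N)
    (h' : ⁅X', Y⁆ ≤ N) : ⁅X ⊔ X', Y⁆ ≤ N := by
  rw [commutator_le_iff_map] at h h' ⊢
  rw [Subgroup.map_sup]
  exact sup_le h h'

theorem commutator_sup_le {N : Subgroup G} [N.Normal] {X Y Y' : Subgroup G} (h : ⁅X, Y⁆ ≤ N)
    (h' : ⁅X, Y'⁆ ≤ N) : ⁅X, Y ⊔ Y'⁆ ≤ N := by
  rw [commutator_comm] at h h' ⊢
  exact sup_commutator_le h h'

theorem iter_normal {N : Subgroup G} [hN : N.Normal] {X : Subgroup G} [X.Normal] :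
    ∀ k, (iterCommutator N X k).Normal
  | 0 => hN
  | k + 1 => by
    have := iter_normal (N := N) (X := X) k
    exact Subgroup.commutator_normal _ _

theorem iter_le {N : Subgroup G} [hN : N.Normal] {X : Subgroup G} [X.Normal] :
    ∀ k, iterCommutator N X k ≤ N
  | 0 => le_rfl
  | k + 1 => (commutator_mono (iter_le k) le_rfl).trans (Subgroup.commutator_le_left N X)

/-- `G` acts hypercentrally on `N / V` when generators outside `Q` centralise it. -/
theorem exists_iter_le {N V Q X : Subgroup G} [N.Normal] [V.Normal] [Q.Normal] (hXQ : X ⊔ Q = ⊤)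
    (hNX : ⁅N, X⁆ ≤ V) (hNQ : N ≤ Q) (hQ : Group.IsNilpotent ↥Q) :
    ∃ k, iterCommutator N ⊤ k ≤ V := by
  obtain ⟨k, hk⟩ := (Subgroup.isNilpotent_iff_lowerCentralSeries (S := Q)).mp hQ
  have hlc : ∀ j, iterCommutator N Q j ≤ Q.lowerCentralSeries j := by
    intro j
    induction j with
    | zero => exact hNQ
    | succ j ih => exact commutator_mono ih le_rfl
  have key : ∀ j, iterCommutator N ⊤ j ≤ V ⊔ iterCommutator N Q j := by
    intro j
    induction j with
    | zero => exact le_sup_right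
    | succ j ih =>
      have := iter_normal (N := N) (X := Q) j
      have : (V ⊔ iterCommutator N Q (j + 1)).Normal := by
        have := iter_normal (N := N) (X := Q) (j + 1)
        infer_instance
      refine (commutator_mono ih le_rfl).trans (sup_commutator_le ?_ ?_)
      · exact (Subgroup.commutator_le_left V ⊤).trans le_sup_left
      · rw [← hXQ]
        exact commutator_sup_le (((commutator_mono (iter_le j) le_rfl).trans hNX).trans le_sup_left)
          le_sup_right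
  exact ⟨k, (key k).trans (sup_le le_rfl ((le_bot_iff.mp (hk ▸ hlc k)).le.trans bot_le))⟩

/-- `U = W (U ∩ N)`. -/
def Reaches (U W N : Subgroup G) : Prop := U ≤ W ⊔ (U ⊓ N)

theorem reaches_of_le {U W N : Subgroup G} (h : U ≤ N) : Reaches U W N :=
  (le_inf le_rfl h).trans le_sup_right

/-- A noncentral chief factor does not stop in a hypercentral gap. -/
theorem reaches_of_iter {U W N L : Subgroup G} [N.Normal] (hch : IsChiefFactor U W)
    (hnc : ¬ ⁅U, (⊤ : Subgroup G)⁆ ≤ W) (h : Reaches U W N) {k : ℕ}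
    (hk : iterCommutator N ⊤ k ≤ L) : Reaches U W L := by
  obtain ⟨hlt, hU, hW, hmax⟩ := hch
  have htop : U ≤ W ⊔ ⁅U, (⊤ : Subgroup G)⁆ := by
    rcases hmax (W ⊔ ⁅U, (⊤ : Subgroup G)⁆) inferInstance le_sup_left
      (sup_le hlt.le (Subgroup.commutator_le_left U ⊤)) with e | e
    · exact absurd (le_sup_right.trans e.le) hnc
    · exact e.ge
  have key : ∀ j, U ≤ W ⊔ (U ⊓ iterCommutator N ⊤ j) := by
    intro j
    induction j with
    | zero => exact h
    | succ j ih =>
      have := iter_normal (N := N) (X := (⊤ : Subgroup G)) j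
      have : (U ⊓ iterCommutator N ⊤ (j + 1)).Normal := by
        have := iter_normal (N := N) (X := (⊤ : Subgroup G)) (j + 1)
        infer_instance
      refine htop.trans (sup_le le_sup_left ((commutator_mono ih le_rfl).trans (sup_commutator_le
        ((Subgroup.commutator_le_left W ⊤).trans le_sup_left) (le_trans (le_inf ?_ ?_) le_sup_right))))
      · exact (commutator_mono inf_le_left le_rfl).trans (Subgroup.commutator_le_left U ⊤)
      · exact commutator_mono inf_le_right le_rfl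
  exact (key k).trans (sup_le_sup_left (inf_le_inf_left U hk) W)

/-- `N / L` is a natural `SL₂(F)`-module for `G`. -/
def IsLayer (F : Type*) [Field F] (L N : Subgroup G) : Prop :=
  ∃ (ρ : G →* SL(2, F)) (ψ : ↥N →* Multiplicative (Fin 2 → F)), Function.Surjective ρ ∧
    Function.Surjective ψ ∧ (∀ u : ↥N, ψ u = 1 ↔ (u : G) ∈ L) ∧
    ∀ (g : G) (u : ↥N), ∃ w : ↥N, (w : G) = g * u * g⁻¹ ∧
      Multiplicative.toAdd (ψ w) = ((ρ g : SL(2, F)) : Matrix (Fin 2) (Fin 2) F).mulVec
        (Multiplicative.toAdd (ψ u))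

theorem IsLayer.ofEquiv {F F' : Type*} [Field F] [Field F'] (e : F ≃+* F') {L N : Subgroup G}
    (h : IsLayer F L N) : IsLayer F' L N := by
  obtain ⟨ρ, ψ, hρ, hψ, hker, hact⟩ := h
  let m : SL(2, F) →* SL(2, F') := Matrix.SpecialLinearGroup.map e.toRingHom
  let v : (Fin 2 → F) ≃+ (Fin 2 → F') := AddEquiv.piCongrRight fun _ => e.toAddEquiv
  have hm : Function.Surjective m := fun A => ⟨Matrix.SpecialLinearGroup.map e.symm.toRingHom A,
    Matrix.SpecialLinearGroup.ext _ _ fun i j => by simp [m]⟩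
  refine ⟨m.comp ρ, (AddMonoidHom.toMultiplicative v.toAddMonoidHom).comp ψ, hm.comp hρ, ?_, ?_, ?_⟩
  · intro x
    obtain ⟨u, hu⟩ := hψ (Multiplicative.ofAdd (v.symm (Multiplicative.toAdd x)))
    exact ⟨u, by simp [hu]⟩
  · intro u
    rw [← hker u]
    show Multiplicative.ofAdd (v (Multiplicative.toAdd (ψ u))) = 1 ↔ _
    rw [ofAdd_eq_one, map_eq_zero_iff _ v.injective, toAdd_eq_zero]
  · intro g u
    obtain ⟨w, hw, hwe⟩ := hact g u
    refine ⟨w, hw, ?_⟩
    show v (Multiplicative.toAdd (ψ w)) = _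
    rw [hwe]
    ext i
    fin_cases i <;> simp [m, v, Matrix.mulVec, dotProduct, Fin.sum_univ_two]

/-- A noncentral chief factor that does not get past a natural layer is natural. -/
theorem natural_of_reaches {F : Type*} [Field F] {U W N L : Subgroup G} [W.Normal] [hNn : N.Normal]
    [hLn : L.Normal] (hch : IsChiefFactor U W) (hNL : IsChiefFactor N L) (hlay : IsLayer F L N)
    (h : Reaches U W N) (hL : ¬ Reaches U W L) :
    IsNaturalSL2Module F (U.map (QuotientGroup.mk' W)) (⊤ : Subgroup (G ⧸ W)) := by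
  obtain ⟨hlt, hU, -, hmax⟩ := hch
  obtain ⟨hLN, -, -, hmaxN⟩ := hNL
  obtain ⟨ρ, ψ, hρ, hψ, hker, hact⟩ := hlay
  have hUL : U ⊓ L ≤ W := by
    rcases hmax (W ⊔ (U ⊓ L)) inferInstance le_sup_left (sup_le hlt.le inf_le_left) with e | e
    · exact le_sup_right.trans e.le
    · exact absurd e.ge hL
  have hLU : L ⊔ (U ⊓ N) = N := by
    rcases hmaxN (L ⊔ (U ⊓ N)) inferInstance le_sup_left (sup_le hLN.le inf_le_right) with e | e
    · refine absurd ?_ hL
      exact h.trans (sup_le_sup_left (le_inf inf_le_left (le_sup_right.trans e.le)) W)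
    · exact e
  have hWN : W ⊓ N ≤ L := by
    rcases hmaxN (L ⊔ (W ⊓ N)) inferInstance le_sup_left (sup_le hLN.le inf_le_right) with e | e
    · exact le_sup_right.trans e.le
    · refine absurd ?_ hlt.not_ge
      refine h.trans (sup_le le_rfl fun u hu => ?_)
      obtain ⟨l, hl, w, hw, rfl⟩ := Subgroup.mem_sup_of_normal_left.mp (e.ge hu.2)
      refine mul_mem (hUL ⟨?_, hl⟩) hw.1
      have := U.mul_mem hu.1 (U.inv_mem (hlt.le hw.1))
      rwa [mul_inv_cancel_right] at this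
  set π := QuotientGroup.mk' W
  let θ : ↥(U ⊓ N) →* ↥(U.map π) :=
    (π.comp (U ⊓ N).subtype).codRestrict _ fun x => mem_map_of_mem π x.2.1
  have hθ : Function.Surjective θ := by
    rintro ⟨_, u, hu, rfl⟩
    obtain ⟨w, hw, x, hx, rfl⟩ := Subgroup.mem_sup_of_normal_left.mp (h hu)
    refine ⟨⟨x, hx⟩, Subtype.ext ?_⟩
    show π x = π (w * x)
    rw [map_mul, show π w = 1 from (QuotientGroup.eq_one_iff w).mpr hw, one_mul]
  let η : ↥(U ⊓ N) →* Multiplicative (Fin 2 → F) := ψ.comp (Subgroup.inclusion inf_le_right)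
  have hθker : ∀ x : ↥(U ⊓ N), θ x = 1 ↔ (x : G) ∈ W := fun x =>
    Subtype.ext_iff.trans (QuotientGroup.eq_one_iff (x : G))
  have hηker : ∀ x : ↥(U ⊓ N), η x = 1 ↔ θ x = 1 := fun x => by
    rw [hθker]
    exact (hker _).trans ⟨fun hl => hUL ⟨x.2.1, hl⟩, fun hw => hWN ⟨hw, x.2.2⟩⟩
  have hηs : Function.Surjective η := fun y => by
    obtain ⟨⟨n, hn⟩, rfl⟩ := hψ y
    obtain ⟨l, hl, x, hx, rfl⟩ := Subgroup.mem_sup_of_normal_left.mp (hLU.ge hn)
    refine ⟨⟨x, hx⟩, ?_⟩
    rw [show (⟨l * x, hn⟩ : ↥N) = ⟨l, hLN.le hl⟩ * ⟨x, hx.2⟩ from rfl, map_mul,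
      (hker ⟨l, hLN.le hl⟩).mpr hl, one_mul]
    rfl
  have hk : θ.ker = η.ker := by ext x; exact (hηker x).symm
  let e : Additive ↥(U.map π) ≃+ (Fin 2 → F) :=
    MulEquiv.toAdditiveLeft (((QuotientGroup.quotientKerEquivOfSurjective θ hθ).symm.trans
      (QuotientGroup.quotientMulEquivOfEq hk)).trans (QuotientGroup.quotientKerEquivOfSurjective η hηs))
  have he : ∀ x, e (Additive.ofMul (θ x)) = Multiplicative.toAdd (η x) := fun x => by
    show Multiplicative.toAdd ((QuotientGroup.quotientKerEquivOfSurjective η hηs)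
      ((QuotientGroup.quotientMulEquivOfEq hk)
        ((QuotientGroup.quotientKerEquivOfSurjective θ hθ).symm (θ x)))) = _
    rw [show (QuotientGroup.quotientKerEquivOfSurjective θ hθ).symm (θ x) =
      (QuotientGroup.mk x : ↥(U ⊓ N) ⧸ θ.ker) from (MulEquiv.symm_apply_eq _).mpr rfl]
    rfl
  have hfix : ∀ g : G, (∀ x : ↥(U ⊓ N), g * x * g⁻¹ * (x : G)⁻¹ ∈ W) ↔ ρ g = 1 := by
    intro g
    constructor
    · intro hg
      refine Matrix.SpecialLinearGroup.ext _ _ fun i j => ?_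
      obtain ⟨⟨x, hx⟩, hxe⟩ := hηs (Multiplicative.ofAdd (Pi.single j (1 : F)))
      obtain ⟨w, hw, hwe⟩ := hact g ⟨x, hx.2⟩
      have hxe' : ψ ⟨x, hx.2⟩ = Multiplicative.ofAdd (Pi.single j (1 : F)) := hxe
      have e1 : ψ w = ψ ⟨x, hx.2⟩ := by
        refine mul_inv_eq_one.mp ?_
        rw [← map_inv, ← map_mul]
        refine (hker _).mpr (hWN ⟨?_, SetLike.coe_mem _⟩)
        show (w : G) * x⁻¹ ∈ W
        rw [hw]
        exact hg ⟨x, hx⟩
      rw [e1, hxe', toAdd_ofAdd, Matrix.mulVec_single_one] at hwe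
      have := congrFun hwe i
      rw [Matrix.SpecialLinearGroup.coe_one, Matrix.one_apply]
      simpa [Pi.single_apply] using this.symm
    · rintro hg ⟨x, hx⟩
      obtain ⟨w, hw, hwe⟩ := hact g ⟨x, hx.2⟩
      rw [hg, Matrix.SpecialLinearGroup.coe_one, Matrix.one_mulVec] at hwe
      have hxU : g * x * g⁻¹ * x⁻¹ ∈ U := mul_mem (hU.conj_mem x hx.1 g) (inv_mem hx.1)
      refine hUL ⟨hxU, ?_⟩
      have h1 : ψ (w * (⟨x, hx.2⟩ : ↥N)⁻¹) = 1 := by
        rw [map_mul, map_inv, Multiplicative.toAdd.injective hwe, mul_inv_cancel]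
      have := (hker _).mp h1
      rwa [Subgroup.coe_mul, Subgroup.coe_inv, hw] at this
  have hW1 : ∀ w ∈ W, ρ w = 1 := fun w hw => (hfix w).mp fun x => by
    have := mul_mem hw ((inferInstance : W.Normal).conj_mem w⁻¹ (inv_mem hw) (x : G))
    rwa [← mul_assoc, ← mul_assoc] at this
  let ρ' : G ⧸ W →* SL(2, F) := QuotientGroup.lift W ρ hW1
  refine ⟨le_top.trans (normalizer_eq_top_iff.mpr (hU.map π (QuotientGroup.mk'_surjective W))).ge,
    ρ'.comp (⊤ : Subgroup (G ⧸ W)).subtype, e, fun A => ?_, ?_, ?_⟩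
  · obtain ⟨g, rfl⟩ := hρ A
    exact ⟨⟨π g, mem_top _⟩, rfl⟩
  · ext ⟨y, hy⟩
    obtain ⟨g, rfl⟩ := QuotientGroup.mk'_surjective W y
    rw [MonoidHom.mem_ker, mem_subgroupOf]
    show ρ g = 1 ↔ π g ∈ centralizer (U.map π : Set (G ⧸ W))
    rw [← hfix, mem_centralizer_iff]
    refine ⟨fun hg v hv => ?_, fun hg x => ?_⟩
    · obtain ⟨x, hx⟩ := hθ ⟨v, hv⟩
      obtain rfl : π x = v := congrArg Subtype.val hx
      have := (QuotientGroup.eq_one_iff (N := W) _).mpr (hg x)
      change π (g * x * g⁻¹ * (x : G)⁻¹) = 1 at this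
      rw [map_mul, map_mul, map_mul, map_inv, map_inv, mul_inv_eq_one, mul_inv_eq_iff_eq_mul] at this
      exact this.symm
    · refine (QuotientGroup.eq_one_iff (N := W) _).mp ?_
      show π (g * x * g⁻¹ * (x : G)⁻¹) = 1
      rw [map_mul, map_mul, map_mul, map_inv, map_inv, ← hg _ (mem_map_of_mem π x.2.1),
        mul_inv_cancel_right, mul_inv_cancel]
  · rintro ⟨y, hy⟩ v
    obtain ⟨g, rfl⟩ := QuotientGroup.mk'_surjective W y
    obtain ⟨⟨x, hx⟩, rfl⟩ := hθ v
    obtain ⟨w, hw, hwe⟩ := hact g ⟨x, hx.2⟩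
    have hwU : (w : G) ∈ U ⊓ N := ⟨hw ▸ hU.conj_mem x hx.1 g, w.2⟩
    refine ⟨θ ⟨w, hwU⟩, ?_, ?_⟩
    · show π w = π g * π x * (π g)⁻¹
      rw [hw, map_mul, map_mul, map_inv]
    · rw [he, he]
      exact hwe

end Cfsg.Agent.PushingUp
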