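import Cfsg.Agent.Lib.PushingUp.Ambient
import Cfsg.Agent.Lib.PushingUp.Series
import Cfsg.Agent.Lib.Coprime.Stabilize

/-!
# Facts common to both pushing-up configurations

* `IsLayer.chief`, `IsLayer.noncentral`; `Act.layer`: `V / C_V(G)` is a natural layer
* `mem_of_coprime`: elements of order prime to `p` lie in `K` when `G = K Q`
* `mem_centralizer_of_translate`, `isPGroup_of_coprime`
* `pow_qa`: powers of a product with central commutator
* `lcs_characteristic`, `pc_characteristic`: characteristic subgroups of `S`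
-/

set_option autoImplicit false

namespace Cfsg.Agent.PushingUp

open Subgroup Matrix
open scoped commutatorElement MatrixGroups

universe u

variable {G : Type u} [Group G] {p : ℕ}

theorem exists_sl2_map {F : Type*} [Field F] {x : Fin 2 → F} (hx : x ≠ 0) :
    ∃ A : SL(2, F), (A : Matrix (Fin 2) (Fin 2) F).mulVec ![1, 0] = x := by
  by_cases h0 : x 0 = 0
  · have h1 : x 1 ≠ 0 := fun h1 => hx (funext fun i => by fin_cases i <;> simp [h0, h1])
    refine ⟨⟨!![0, -(x 1)⁻¹; x 1, 0], by simp [Matrix.det_fin_two, h1]⟩, ?_⟩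
    ext i
    fin_cases i <;> simp [h0]
  · refine ⟨⟨!![x 0, 0; x 1, (x 0)⁻¹], by simp [Matrix.det_fin_two, h0]⟩, ?_⟩
    ext i
    fin_cases i <;> simp

theorem IsLayer.noncentral {F : Type*} [Field F] {L N : Subgroup G} (h : IsLayer F L N) :
    ¬ ⁅N, (⊤ : Subgroup G)⁆ ≤ L := by
  intro hc
  obtain ⟨ρ, ψ, hρ, hψ, hker, hact⟩ := h
  obtain ⟨g, hg⟩ := hρ ⟨!![1, 1; 0, 1], by simp [Matrix.det_fin_two]⟩
  obtain ⟨u, hu⟩ := hψ (Multiplicative.ofAdd ![0, 1])
  obtain ⟨w, hw, hwe⟩ := hact g u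
  have h1 : ψ (u * w⁻¹) = 1 := by
    refine (hker _).mpr ?_
    rw [Subgroup.coe_mul, Subgroup.coe_inv, hw]
    have := hc (commutator_mem_commutator u.2 (mem_top g))
    rwa [commutatorElement_def, show (u : G) * g * (u : G)⁻¹ * g⁻¹ = (u : G) * (g * u * g⁻¹)⁻¹ by group] at this
  rw [map_mul, map_inv, mul_inv_eq_one] at h1
  rw [← h1, hu, hg, toAdd_ofAdd] at hwe
  simpa using congrFun hwe 0

theorem IsLayer.chief {F : Type*} [Field F] {L N : Subgroup G} [hNn : N.Normal] [hLn : L.Normal]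
    (hle : L ≤ N) (h : IsLayer F L N) : IsChiefFactor N L := by
  refine ⟨lt_of_le_of_ne hle fun e => h.noncentral ?_, hNn, hLn, fun X hX hLX hXN => ?_⟩
  · rw [← e]; exact Subgroup.commutator_le_left L ⊤
  obtain ⟨ρ, ψ, hρ, hψ, hker, hact⟩ := h
  by_cases hXL : X ≤ L
  · exact Or.inl (le_antisymm hXL hLX)
  refine Or.inr (le_antisymm hXN fun n hn => ?_)
  obtain ⟨u, hu, huL⟩ := SetLike.not_le_iff_exists.mp hXL
  set x := Multiplicative.toAdd (ψ ⟨u, hXN hu⟩)
  have hx : x ≠ 0 := fun e => huL ((hker ⟨u, hXN hu⟩).mp (toAdd_eq_zero.mp e))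
  have hall : ∀ y : Fin 2 → F, y ≠ 0 → ∃ m : ↥N, (m : G) ∈ X ∧ Multiplicative.toAdd (ψ m) = y := by
    intro y hy
    obtain ⟨A, hA⟩ := exists_sl2_map hx
    obtain ⟨B, hB⟩ := exists_sl2_map hy
    obtain ⟨g, hg⟩ := hρ (B * A⁻¹)
    obtain ⟨w, hw, hwe⟩ := hact g ⟨u, hXN hu⟩
    refine ⟨w, hw ▸ hX.conj_mem u hu g, ?_⟩
    rw [hwe, hg, Matrix.SpecialLinearGroup.coe_mul]
    show ((B : Matrix (Fin 2) (Fin 2) F) * ((A⁻¹ : SL(2, F)) : Matrix (Fin 2) (Fin 2) F)).mulVec x = y
    rw [← Matrix.mulVec_mulVec, ← hA, Matrix.mulVec_mulVec, Matrix.mulVec_mulVec, mul_assoc,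
      ← Matrix.SpecialLinearGroup.coe_mul, inv_mul_cancel, Matrix.SpecialLinearGroup.coe_one, mul_one, hB]
  by_cases h0 : Multiplicative.toAdd (ψ ⟨n, hn⟩) = 0
  · exact hLX ((hker _).mp (toAdd_eq_zero.mp h0))
  obtain ⟨m, hm, he⟩ := hall _ h0
  have h1 : ψ (m⁻¹ * ⟨n, hn⟩) = 1 := by
    rw [map_mul, map_inv, Multiplicative.toAdd.injective he, inv_mul_cancel]
  have := X.mul_mem hm (hLX ((hker _).mp h1))
  rwa [Subgroup.coe_mul, Subgroup.coe_inv, mul_inv_cancel_left] at this

theorem pow_qa {q a z : G} (h1 : a * q * a⁻¹ = z * q) (hq : q * z = z * q) (ha : a * z = z * a) :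
    ∀ n : ℕ, (q * a) ^ n = q ^ n * a ^ n * z ^ n.choose 2 := by
  intro n
  induction n with
  | zero => simp
  | succ n ih =>
    have h3 : a ^ n * q = z ^ n * q * a ^ n :=
      mul_inv_eq_iff_eq_mul.mp (Coprime.conj_pow_eq_translate h1 ha n)
    have hzq : Commute z q := hq.symm
    have hza : Commute z a := ha.symm
    rw [pow_succ, ih, Nat.choose_succ_succ, Nat.choose_one_right, pow_succ, pow_succ, pow_add]
    calc q ^ n * a ^ n * z ^ n.choose 2 * (q * a)
        = q ^ n * (a ^ n * (z ^ n.choose 2 * q)) * a := by group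
      _ = q ^ n * ((a ^ n * q) * z ^ n.choose 2) * a := by
        rw [(hzq.pow_left _).eq]; group
      _ = q ^ n * (z ^ n * q) * a ^ n * (z ^ n.choose 2 * a) := by rw [h3]; group
      _ = q ^ n * (q * z ^ n) * (a ^ n * a) * z ^ n.choose 2 := by
        rw [(hza.pow_left _).eq, (hzq.pow_left n).eq]; group
      _ = q ^ n * q * ((z ^ n) * (a ^ n * a)) * z ^ n.choose 2 := by group
      _ = q ^ n * q * ((a ^ n * a) * z ^ n) * z ^ n.choose 2 := by
        rw [(((hza.pow_left n).pow_right n).mul_right (hza.pow_left n)).eq]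
      _ = _ := by rw [← mul_assoc (q ^ n * q)]; simp only [mul_assoc]

theorem lcs_characteristic (S : Subgroup G) (k : ℕ) :
    ((S.lowerCentralSeries k).subgroupOf S).Characteristic := by
  rw [← Subgroup.top_subtype_lowerCentralSeries, Subgroup.subgroupOf,
    comap_map_eq_self_of_injective S.subtype_injective]
  infer_instance

theorem pc_characteristic (S : Subgroup G) (k : ℕ) :
    ((powerClosure p k S).subgroupOf S).Characteristic := by
  rw [show powerClosure p k S = (powerClosure p k (⊤ : Subgroup ↥S)).map S.subtype by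
      rw [PGroup.map_powerClosure, ← MonoidHom.range_eq_map, Subgroup.range_subtype],
    Subgroup.subgroupOf, comap_map_eq_self_of_injective S.subtype_injective]
  exact Subgroup.characteristic_iff_map_eq.mpr fun α => by
    rw [PGroup.map_powerClosure, map_top_of_surjective _ α.surjective]

variable [Finite G] [Fact p.Prime]

omit [Finite G] [Fact p.Prime] in
/-- An element of order prime to `p` lies in a normal `K` with `G = K Q`, `Q` a `p`-group. -/
theorem mem_of_coprime {K Q : Subgroup G} [K.Normal] (hQ : IsPGroup p ↥Q) (hKQ : K ⊔ Q = ⊤) {y : G}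
    (hy : (orderOf y).Coprime p) : y ∈ K := by
  set π := QuotientGroup.mk' K
  have htop : Q.map π = ⊤ := by
    have := congrArg (Subgroup.map π) hKQ
    rwa [Subgroup.map_sup, (Subgroup.map_eq_bot_iff K).mpr (QuotientGroup.ker_mk' K).ge, bot_sup_eq,
      map_top_of_surjective π (QuotientGroup.mk'_surjective K)] at this
  obtain ⟨k, hk⟩ := (hQ.map π) ⟨π y, htop ▸ mem_top _⟩
  have hk' : π y ^ p ^ k = 1 := congrArg Subtype.val hk
  have h1 : orderOf (π y) ∣ 1 := by
    rw [← Nat.Coprime.pow_right k hy]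
    exact Nat.dvd_gcd (orderOf_map_dvd π y) (orderOf_dvd_of_pow_eq_one hk')
  rw [Nat.dvd_one, orderOf_eq_one_iff] at h1
  exact (QuotientGroup.eq_one_iff y).mp h1

omit [Finite G] [Fact p.Prime] in
/-- A coprime element translating `h` by a fixed element of a `p`-group fixes `h`. -/
theorem commute_of_translate' {y h z : G} (hy : (orderOf y).Coprime p) {k : ℕ} (hz : z ^ p ^ k = 1)
    (h1 : y * h * y⁻¹ = z * h) (h2 : y * z = z * y) : y * h = h * y :=
  Coprime.commute_of_translate h1 h2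
    ((hy.pow_right k).coprime_dvd_right (orderOf_dvd_of_pow_eq_one hz))

/-- A subgroup without nontrivial elements of order prime to `p` is a `p`-group. -/
theorem isPGroup_of_coprime {N : Subgroup G} (h : ∀ y ∈ N, (orderOf y).Coprime p → y = 1) :
    IsPGroup p ↥N := by
  rintro ⟨y, hy⟩
  refine ⟨(orderOf y).factorization p, Subtype.ext ?_⟩
  show y ^ p ^ (orderOf y).factorization p = 1
  refine h _ (pow_mem hy _) ?_
  rw [orderOf_pow_of_dvd (pow_ne_zero _ (Nat.Prime.ne_zero Fact.out)) (Nat.ordProj_dvd _ _)]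
  exact (Nat.coprime_ordCompl Fact.out (orderOf_pos y).ne').symm

variable {S : Sylow p G} {M V : Subgroup G} [V.Normal]

/-- `V / C_V(G)` is a natural layer. -/
theorem Act.layer (h : Act p S M V) : ∃ (F : Type) (_ : Field F) (_ : Fintype F),
    Fintype.card F * Nat.card ↥((S : Subgroup G) ⊓ centralizer (V : Set G)) = Nat.card (S : Subgroup G) ∧
    IsLayer F (V ⊓ Subgroup.center G) V ∧
    Nonempty (G ⧸ centralizer (V : Set G) ≃* SL(2, F)) := by
  obtain ⟨F, hF, hFt, ρ, ψ, hcard, hρ, hker, hψ, hψk, hact⟩ := h.exists_natural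
  exact ⟨F, hF, hFt, hcard, ⟨ρ, ψ, hρ, hψ, hψk, hact⟩,
    ⟨(QuotientGroup.quotientMulEquivOfEq hker.symm).trans
      (QuotientGroup.quotientKerEquivOfSurjective ρ hρ)⟩⟩

end Cfsg.Agent.PushingUp
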