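import Cfsg.Agent.Lib.PushingUp.Offender

/-!
# Baumann's lemmas on `Z(J(S))`

* `baumann_cases`: `Z(S)` is central, or `C_S(Z(J(S)))` is normal, or all conjugates `J(S)^x`, `x ∉ M`,
  generate with `S` and split `Z(J(S))`
* `exists_sylow_normalClosure`: a subgroup `T = S ∩ N`, `N` normal, is Sylow in its normal closure
* `thompson_centralizer_sylow`, `commutator_case`, `not_elementary_case`
-/

set_option autoImplicit false

namespace Cfsg.Agent.PushingUp

open Subgroup
open scoped commutatorElement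

universe u

variable {G : Type u} [Group G] {p : ℕ}

theorem normal_of_le_center {H : Subgroup G} (h : H ≤ Subgroup.center G) : H.Normal :=
  ⟨fun n hn g => by rwa [Subgroup.mem_center_iff.mp (h hn) g, mul_inv_cancel_right]⟩

variable [Finite G] [Fact p.Prime]

/-- If `T = S ∩ N` for a normal `N`, then `T` is Sylow in its normal closure. -/
theorem exists_sylow_normalClosure (S : Sylow p G) {T N : Subgroup G} [hN : N.Normal]
    (hT : (S : Subgroup G) ⊓ N = T) :
    ∃ P : Sylow p ↥(normalClosure (T : Set G)),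
      (P : Subgroup ↥(normalClosure (T : Set G))) = T.subgroupOf (normalClosure (T : Set G)) := by
  have hTN : normalClosure (T : Set G) ≤ N := normalClosure_le_normal (hT ▸ inf_le_right)
  obtain ⟨P, hP⟩ := Offender.exists_sylow_eq_inf S (normalClosure (T : Set G))
  have e : (S : Subgroup G) ⊓ normalClosure (T : Set G) = T :=
    le_antisymm ((inf_le_inf_left _ hTN).trans hT.le) (le_inf (hT ▸ inf_le_left) le_normalClosure)
  rw [e] at hP
  refine ⟨P, map_injective (normalClosure (T : Set G)).subtype_injective ?_⟩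
  rw [hP, map_subgroupOf_eq_of_le le_normalClosure]

namespace Hyp

variable {S : Sylow p G} {M : Subgroup G} (h : Hyp p S M)
include h

omit [Fact p.Prime] h in
theorem center_le_centerThompson :
    (S : Subgroup G) ⊓ centralizer ((S : Subgroup G) : Set G) ≤ centerThompsonAOf (S : Subgroup G) := by
  obtain ⟨A, hA⟩ := PGroup.exists_isMaxAb (S : Subgroup G)
  intro z hz
  refine ⟨(le_trans (inf_le_inf_left _ (centralizer_le (PGroup.thompsonSubgroupAOf_le _)))
    (PGroup.centralizer_thompsonA_le _)) hz, fun j hj => hz.2 j (PGroup.thompsonSubgroupAOf_le _ hj)⟩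

/-- The case `J(S) ≤ O_p(G)`. -/
theorem of_thompson_le (hJ : thompsonSubgroupAOf (S : Subgroup G) ≤ pCore p G) :
    (S : Subgroup G) ⊓ centralizer ((S : Subgroup G) : Set G) ≤ Subgroup.center G ∨
      ((S : Subgroup G) ⊓ centralizer (centerThompsonAOf (S : Subgroup G) : Set G)).Normal := by
  set J := thompsonSubgroupAOf (S : Subgroup G)
  have hJn : J.Normal := by
    have e := PGroup.thompsonSubgroupAOf_eq_of_le hJ (PCore.pCore_le_sylow S)
    refine normalizer_eq_top_iff.mp (top_le_iff.mp ?_)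
    have h1 := PGroup.normalizer_le_normalizer_thompsonAOf (pCore p G)
    rw [e] at h1
    exact (normalizer_eq_top_iff.mpr PCore.pCore_normal).ge.trans h1
  have hWn : (centerThompsonAOf (S : Subgroup G)).Normal :=
    Subgroup.normal_inf_normal J (centralizer (J : Set G))
  by_cases hC : centralizer (centerThompsonAOf (S : Subgroup G) : Set G) ≤ M
  · exact Or.inr (h.inf_normal hC)
  refine Or.inl fun z hz => Subgroup.mem_center_iff.mpr fun g => ?_
  have hle : centralizer (centerThompsonAOf (S : Subgroup G) : Set G) ⊔ (S : Subgroup G) ≤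
      centralizer ({z} : Set G) :=
    sup_le (centralizer_le (Set.singleton_subset_iff.mpr (center_le_centerThompson hz)))
      fun s hs => by
        rw [mem_centralizer_iff]; rintro _ rfl; exact (hz.2 s hs).symm
  exact (hle ((h.sup_eq_top hC).ge (mem_top g)) z rfl).symm

/-- The main configuration. -/
structure Main (p : ℕ) (S : Sylow p G) (M : Subgroup G) : Prop where
  sup_pCore : thompsonSubgroupAOf (S : Subgroup G) ⊔ pCore p G = (S : Subgroup G)
  le_normalizer : (S : Subgroup G) ≤ normalizer (centerThompsonAOf (S : Subgroup G) : Set G)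
  le_pCore : centerThompsonAOf (S : Subgroup G) ≤ pCore p G
  normal : (vQ p G ⊔ centerThompsonAOf (S : Subgroup G)).Normal
  comm : IsMulCommutative ↥(vQ p G ⊔ centerThompsonAOf (S : Subgroup G))
  gen : ∀ x ∉ M, thompsonSubgroupAOf (S : Subgroup G) ⊔
    (thompsonSubgroupAOf (S : Subgroup G)).map (MulAut.conj x).toMonoidHom ⊔ pCore p G = ⊤
  split : ∀ x ∉ M, ∀ v ∈ vQ p G, ∃ a ∈ vQ p G ⊓ centralizer ((S : Subgroup G) : Set G),
    ∃ b ∈ vQ p G ⊓ centralizer (((S : Subgroup G).map (MulAut.conj x).toMonoidHom : Subgroup G) : Set G),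
      a * b = v

theorem main (hV : centralizer (vQ p G : Set G) ≤ M)
    (hJ : ¬ thompsonSubgroupAOf (S : Subgroup G) ≤ pCore p G) : Main p S M := by
  set J := thompsonSubgroupAOf (S : Subgroup G)
  set W := centerThompsonAOf (S : Subgroup G)
  set Q := pCore p G
  set V := vQ p G
  obtain ⟨A₁, hA₁, hne⟩ : ∃ A, PGroup.IsMaxAb (S : Subgroup G) A ∧ ¬ A ≤ Q := by
    by_contra hc
    push Not at hc
    exact hJ (by rw [show J = _ from PGroup.thompsonSubgroupAOf_eq _]; exact sSup_le hc)
  obtain ⟨hcard, hsplit⟩ := h.pair hV hA₁ hne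
  have hQS : Q ≤ (S : Subgroup G) := PCore.pCore_le_sylow S
  have hself : ∀ {A : Subgroup G}, PGroup.IsMaxAb (S : Subgroup G) A →
      ∀ {x : G}, x ∈ (S : Subgroup G) → (∀ a ∈ A, a * x = x * a) → x ∈ A := fun hA x hx hc =>
    (PGroup.inf_centralizer_eq_of_isMaxAb hA).le ⟨hx, hc⟩
  have hrepl : ∀ {A : Subgroup G}, PGroup.IsMaxAb (S : Subgroup G) A →
      PGroup.IsMaxAb (S : Subgroup G) ((A ⊓ Q) ⊔ V) := by
    intro A hA
    have hcom : IsMulCommutative ↥((A ⊓ Q) ⊔ V) := by
      have h1 : (A ⊓ Q) ⊔ V ≤ centralizer (((A ⊓ Q) ⊔ V : Subgroup G) : Set G) := by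
        refine sup_le ?_ ?_ <;> rw [le_centralizer_iff] <;> refine sup_le ?_ ?_ <;>
          rw [← le_centralizer_iff]
        · exact inf_le_left.trans ((PGroup.le_centralizer_of_isMulCommutative hA.2.1).trans
            (centralizer_le inf_le_left))
        · exact inf_le_right.trans pCore_le_centralizer_vQ
        · exact (PGroup.omegaOne_le _).trans (centralizer_le inf_le_right)
        · exact h.vQ_le_pCore.trans pCore_le_centralizer_vQ
      exact PGroup.isMulCommutative_of_forall fun a ha b hb => h1 hb a ha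
    refine ⟨sup_le (inf_le_left.trans hA.1) h.vQ_le_sylow, hcom, fun B hB hBc =>
      (hA.2.2 B hB hBc).trans ?_⟩
    have hc := PGV.card_inf_mul_card_sup hcom (le_sup_left : A ⊓ Q ≤ _) (le_sup_right : V ≤ _)
    refine Nat.le_of_mul_le_mul_right ?_ (Nat.card_pos (α := ↥((A ⊓ Q) ⊓ V)))
    rw [hc, mul_comm (Nat.card ↥(A ⊓ Q))]
    refine le_trans (Nat.mul_le_mul_left _ (card_le_of_le ?_)) (hcard A hA)
    exact fun x hx => ⟨hx.2, PGroup.le_centralizer_of_isMulCommutative hA.2.1 hx.1.1⟩
  have hA' : ∀ {A : Subgroup G}, (A ⊓ Q) ⊔ V ≤ Q :=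
    fun {_} => sup_le inf_le_right h.vQ_le_pCore
  have hmaxQ : ∀ {B : Subgroup G}, PGroup.IsMaxAb Q B → PGroup.IsMaxAb (S : Subgroup G) B := fun hB =>
    ⟨hB.1.trans hQS, hB.2.1, fun C hC hCc => ((hrepl hA₁).2.2 C hC hCc).trans
      (hB.2.2 _ hA' (hrepl hA₁).2.1)⟩
  have hWS : W ≤ (S : Subgroup G) := inf_le_left.trans (PGroup.thompsonSubgroupAOf_le _)
  have hWA : ∀ {A : Subgroup G}, PGroup.IsMaxAb (S : Subgroup G) A → W ≤ A := fun hA w hw =>
    hself hA (hWS hw) fun a ha => hw.2 a (PGroup.le_thompsonSubgroupAOf hA ha)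
  have hWQ : W ≤ Q := (hWA (hrepl hA₁)).trans hA'
  set U := centerThompsonAOf Q
  have hJQJ : thompsonSubgroupAOf Q ≤ J := by
    rw [PGroup.thompsonSubgroupAOf_eq Q]
    exact sSup_le fun B hB => PGroup.le_thompsonSubgroupAOf (hmaxQ hB)
  obtain ⟨B₀, hB₀⟩ := PGroup.exists_isMaxAb Q
  have hWU : W ≤ U := le_inf ((hWA (hmaxQ hB₀)).trans (PGroup.le_thompsonSubgroupAOf hB₀))
    (inf_le_right.trans (centralizer_le hJQJ))
  have hVU : V ≤ U := by
    refine le_inf (fun v hv => PGroup.le_thompsonSubgroupAOf hB₀ (hself (hmaxQ hB₀) (h.vQ_le_sylow hv)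
      fun a ha => (PGroup.omegaOne_le _ hv) a (hB₀.1 ha))) ?_
    exact (PGroup.omegaOne_le _).trans (centralizer_le (PGroup.thompsonSubgroupAOf_le Q))
  have hUc : IsMulCommutative ↥U :=
    PGroup.isMulCommutative_of_forall fun a ha b hb => hb.2 a ha.1
  have hUn : ∀ g : G, ∀ u ∈ U, g * u * g⁻¹ ∈ U := by
    have hn : (thompsonSubgroupAOf Q).Normal := by
      refine normalizer_eq_top_iff.mp (top_le_iff.mp ?_)
      exact (normalizer_eq_top_iff.mpr PCore.pCore_normal).ge.trans
        (PGroup.normalizer_le_normalizer_thompsonAOf Q)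
    have : U.Normal := Subgroup.normal_inf_normal _ _
    exact fun g u hu => this.conj_mem u hu g
  have hUA : ∀ {A : Subgroup G}, PGroup.IsMaxAb (S : Subgroup G) A → U ≤ (A ⊓ Q) ⊔ V := fun hA u hu =>
    hself (hrepl hA) (hQS (PGroup.thompsonSubgroupAOf_le Q hu.1)) fun a ha => hu.2 a
      (PGroup.le_thompsonSubgroupAOf
        (show PGroup.IsMaxAb Q _ from ⟨hA', (hrepl hA).2.1,
          fun C hC hCc => (hrepl hA).2.2 C (hC.trans hQS) hCc⟩) ha)
  -- conjugates of `A` normalise what lies between `V` and `U`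
  have hnorm : ∀ {A : Subgroup G}, PGroup.IsMaxAb (S : Subgroup G) A → ∀ g : G, ∀ a ∈ A,
      ∀ u ∈ U, ⁅g * a * g⁻¹, u⁆ ∈ V := by
    intro A hA g a ha u hu
    obtain ⟨c, hc, v, hv, e⟩ := (Coprime.mem_sup_iff_of_le_normalizer (H := A ⊓ Q) (N := V)
      (le_top.trans (normalizer_eq_top_iff.mpr vQ_normal).ge)).mp (hUA hA (hUn g⁻¹ u hu))
    have h1 : a * c = c * a := Offender.commute_mem hA.2.1 ha hc.1
    rw [show u = g * (c * v) * g⁻¹ by rw [e]; group,
      show ⁅g * a * g⁻¹, g * (c * v) * g⁻¹⁆ = g * (c * (a * v * a⁻¹ * v⁻¹) * c⁻¹) * g⁻¹ by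
        rw [commutatorElement_def]
        calc g * a * g⁻¹ * (g * (c * v) * g⁻¹) * (g * a * g⁻¹)⁻¹ * (g * (c * v) * g⁻¹)⁻¹
            = g * ((a * c) * v * a⁻¹ * v⁻¹ * c⁻¹) * g⁻¹ := by group
          _ = _ := by rw [h1]; group]
    exact vQ_normal.conj_mem _ (vQ_normal.conj_mem _
      (mul_mem (vQ_normal.conj_mem v hv a) (inv_mem hv)) c) g
  have hSJ : normalizer ((S : Subgroup G) : Set G) ≤ normalizer (J : Set G) :=
    PGroup.normalizer_le_normalizer_thompsonAOf _
  have hSW : (S : Subgroup G) ≤ normalizer (W : Set G) := by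
    intro s hs
    refine PGroup.mem_normalizer_of_map_conj_eq ?_
    have e := PGroup.map_conj_eq_of_mem_normalizer (hSJ (Subgroup.le_normalizer hs))
    show (J ⊓ centralizer (J : Set G)).map _ = J ⊓ centralizer (J : Set G)
    rw [Subgroup.map_inf _ _ _ (MulAut.conj s).injective, Offender.map_centralizer_equiv, e]
  have hsup : J ⊔ Q = (S : Subgroup G) := by
    refine (h.irred (J ⊔ Q) le_sup_right (sup_le (PGroup.thompsonSubgroupAOf_le _) hQS) ?_).resolve_left
      fun e => hJ (le_sup_left.trans e.le)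
    intro g hg
    refine PGroup.mem_normalizer_of_map_conj_eq ?_
    rw [Subgroup.map_sup, PGroup.map_conj_eq_of_mem_normalizer (hSJ hg),
      PGroup.map_conj_eq_of_mem_normalizer ((normalizer_eq_top_iff.mpr PCore.pCore_normal).ge (mem_top g))]
  have hgen : ∀ x ∉ M, J ⊔ J.map (MulAut.conj x).toMonoidHom ⊔ Q = ⊤ := by
    intro x hx
    refine top_le_iff.mp ((h.gen hx).ge.trans (sup_le ?_ ?_))
    · exact hsup.ge.trans (sup_le (le_sup_left.trans le_sup_left) le_sup_right)
    · rw [← hsup, Subgroup.map_sup,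
        PGroup.map_conj_eq_of_mem_normalizer ((normalizer_eq_top_iff.mpr PCore.pCore_normal).ge (mem_top x))]
      exact sup_le (le_sup_right.trans le_sup_left) le_sup_right
  have hU' : V ⊔ W ≤ U := sup_le hVU hWU
  have hn : (V ⊔ W).Normal := by
    obtain ⟨x, hx⟩ : ∃ x : G, x ∉ M := by
      by_contra hc'
      push Not at hc'
      exact h.ne_top (eq_top_iff' M |>.mpr hc')
    refine normalizer_eq_top_iff.mp (top_le_iff.mp ?_)
    have key : ∀ g : G, J.map (MulAut.conj g).toMonoidHom ≤ normalizer ((V ⊔ W : Subgroup G) : Set G) := by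
      intro g
      rw [show J = _ from PGroup.thompsonSubgroupAOf_eq _, map_le_iff_le_comap]
      refine sSup_le fun A hA a ha => ?_
      refine PGroup.mem_normalizer_of_map_conj_eq (eq_of_le_of_card_ge ?_
        (card_map_of_injective (MulAut.conj _).injective).ge)
      rintro _ ⟨u, hu, rfl⟩
      show g * a * g⁻¹ * u * (g * a * g⁻¹)⁻¹ ∈ V ⊔ W
      have := mul_mem (mem_sup_left (T := W) (hnorm hA g a ha u (hU' hu))) hu
      rwa [commutatorElement_def, inv_mul_cancel_right] at this
    have hS : (S : Subgroup G) ≤ normalizer ((V ⊔ W : Subgroup G) : Set G) := fun s hs =>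
      PGroup.mem_normalizer_of_map_conj_eq (by
        rw [Subgroup.map_sup, PGroup.map_conj_eq_of_mem_normalizer (hSW hs),
          PGroup.map_conj_eq_of_mem_normalizer ((normalizer_eq_top_iff.mpr vQ_normal).ge (mem_top s))])
    exact (hgen x hx).ge.trans (sup_le (sup_le ((PGroup.thompsonSubgroupAOf_le _).trans hS) (key x))
      (hQS.trans hS))
  exact ⟨hsup, hSW, hWQ, hn, PGroup.isMulCommutative_of_forall fun a ha b hb =>
    PGroup.mul_comm_of_isMulCommutative hUc (hU' ha) (hU' hb), hgen, hsplit⟩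

/-- The three cases. -/
theorem cases' : (S : Subgroup G) ⊓ centralizer ((S : Subgroup G) : Set G) ≤ Subgroup.center G ∨
    ((S : Subgroup G) ⊓ centralizer (centerThompsonAOf (S : Subgroup G) : Set G)).Normal ∨
      Main p S M := by
  by_cases hV : centralizer (vQ p G : Set G) ≤ M
  · by_cases hJ : thompsonSubgroupAOf (S : Subgroup G) ≤ pCore p G
    · exact (h.of_thompson_le hJ).imp id Or.inl
    · exact Or.inr (Or.inr (h.main hV hJ))
  · exact Or.inl (h.mem_center_of_not_le hV)

omit [Finite G] [Fact p.Prime] in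
theorem exists_not_mem : ∃ x : G, x ∉ M := by
  by_contra hc'
  push Not at hc'
  exact h.ne_top (eq_top_iff' M |>.mpr hc')

omit [Fact p.Prime] h in
/-- An element of `Z(J(S)) ∩ Z(J(S))^x` centralised by `S` is central. -/
theorem Main.mem_center (m : Main p S M) {x : G} (hx : x ∉ M) {z : G}
    (hS : ∀ s ∈ (S : Subgroup G), s * z = z * s)
    (hz : z ∈ (centerThompsonAOf (S : Subgroup G)).map (MulAut.conj x).toMonoidHom) :
    z ∈ Subgroup.center G := by
  have hle : thompsonSubgroupAOf (S : Subgroup G) ⊔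
      (thompsonSubgroupAOf (S : Subgroup G)).map (MulAut.conj x).toMonoidHom ⊔ pCore p G ≤
      centralizer ({z} : Set G) := by
    refine sup_le (sup_le ?_ ?_) ?_
    · exact fun j hj => by
        rw [mem_centralizer_iff]; rintro _ rfl; exact (hS j (PGroup.thompsonSubgroupAOf_le _ hj)).symm
    · rintro _ ⟨j, hj, rfl⟩
      rw [mem_centralizer_iff]
      rintro _ rfl
      obtain ⟨w, hw, rfl⟩ := hz
      exact ((show Commute w j from (hw.2 j hj).symm).map (MulAut.conj x).toMonoidHom).eq
    · exact fun q hq => by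
        rw [mem_centralizer_iff]; rintro _ rfl; exact (hS q (PCore.pCore_le_sylow S hq)).symm
  exact Subgroup.mem_center_iff.mpr fun g => (hle ((m.gen x hx).ge (mem_top g)) z rfl).symm

theorem commutator_case :
    (⁅centerThompsonAOf (S : Subgroup G), (S : Subgroup G)⁆ ⊓
      ((S : Subgroup G) ⊓ centralizer ((S : Subgroup G) : Set G))).Normal ∨
    ((S : Subgroup G) ⊓ centralizer (centerThompsonAOf (S : Subgroup G) : Set G)).Normal := by
  rcases h.cases' with hz | hn | m
  · exact Or.inl (normal_of_le_center (inf_le_right.trans hz))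
  · exact Or.inr hn
  left
  set J := thompsonSubgroupAOf (S : Subgroup G)
  set W := centerThompsonAOf (S : Subgroup G)
  set V := vQ p G
  obtain ⟨x, hx⟩ := h.exists_not_mem
  have hE : ⁅W, (S : Subgroup G)⁆ = ⁅V ⊔ W, pCore p G⁆ := by
    refine le_antisymm (commutator_le.mpr fun w hw s hs => ?_) (commutator_le.mpr fun y hy q hq => ?_)
    · obtain ⟨j, hj, q, hq, rfl⟩ := (Coprime.mem_sup_iff_of_le_normalizer
        (le_top.trans (normalizer_eq_top_iff.mpr PCore.pCore_normal).ge)).mp (m.sup_pCore.ge hs)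
      have h1 : ⁅w, q⁆ ∈ W := Offender.commutator_le_left m.le_normalizer
        (commutator_mem_commutator hw (PCore.pCore_le_sylow S hq))
      have h2 : w * j = j * w := (hw.2 j hj).symm
      have h3 : j * ⁅w, q⁆ = ⁅w, q⁆ * j := h1.2 j hj
      have h4 : ⁅w, j * q⁆ = ⁅w, q⁆ := by
        calc ⁅w, j * q⁆ = (w * j) * q * w⁻¹ * q⁻¹ * j⁻¹ := by rw [commutatorElement_def]; group
          _ = j * ⁅w, q⁆ * j⁻¹ := by rw [h2, commutatorElement_def]; group
          _ = ⁅w, q⁆ := by rw [h3, mul_inv_cancel_right]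
      rw [h4]
      exact commutator_mem_commutator (mem_sup_right hw) hq
    · obtain ⟨v, hv, w, hw, rfl⟩ := (Coprime.mem_sup_iff_of_le_normalizer (H := V) (N := W)
        (h.vQ_le_sylow.trans m.le_normalizer)).mp hy
      have h1 : ⁅w, q⁆ ∈ W := Offender.commutator_le_left m.le_normalizer
        (commutator_mem_commutator hw (PCore.pCore_le_sylow S hq))
      have h2 : v * q = q * v := (pCore_le_centralizer_vQ hq v hv)
      have h3 : v * ⁅w, q⁆ = ⁅w, q⁆ * v :=
        PGroup.mul_comm_of_isMulCommutative m.comm (mem_sup_left hv) (mem_sup_right h1)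
      have h4 : ⁅v * w, q⁆ = ⁅w, q⁆ := by
        calc ⁅v * w, q⁆ = v * ⁅w, q⁆ * v⁻¹ * ((v * q) * v⁻¹ * q⁻¹) := by
              simp only [commutatorElement_def]; group
          _ = v * ⁅w, q⁆ * v⁻¹ := by rw [h2]; group
          _ = ⁅w, q⁆ := by rw [h3, mul_inv_cancel_right]
      rw [h4]
      exact commutator_mem_commutator hw (PCore.pCore_le_sylow S hq)
  have := m.normal
  have hEn : ⁅W, (S : Subgroup G)⁆.Normal := hE ▸ Subgroup.commutator_normal _ _
  refine normal_of_le_center fun z hz => m.mem_center hx (fun s hs => hz.2.2 s hs) ?_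
  refine ⟨x⁻¹ * z * x, ?_, by simp [mul_assoc]⟩
  exact Offender.commutator_le_left m.le_normalizer (by simpa using hEn.conj_mem z hz.1 x⁻¹)

theorem not_elementary_case :
    (powerClosure p 1 ((S : Subgroup G) ⊓ centralizer ((S : Subgroup G) : Set G))).Normal ∨
    ((S : Subgroup G) ⊓ centralizer (centerThompsonAOf (S : Subgroup G) : Set G)).Normal := by
  rcases h.cases' with hz | hn | m
  · exact Or.inl (normal_of_le_center ((PGroup.powerClosure_le _ _).trans hz))
  · exact Or.inr hn
  left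
  set W := centerThompsonAOf (S : Subgroup G)
  obtain ⟨x, hx⟩ := h.exists_not_mem
  refine normal_of_le_center (PGroup.powerClosure_le_iff.mpr fun z hz => ?_)
  rw [pow_one]
  have hzU := m.normal.conj_mem z (mem_sup_right (center_le_centerThompson hz)) x⁻¹
  obtain ⟨v, hv, w, hw, e⟩ := (Coprime.mem_sup_iff_of_le_normalizer (H := vQ p G) (N := W)
    (h.vQ_le_sylow.trans m.le_normalizer)).mp hzU
  have e' : z = x * v * x⁻¹ * (x * w * x⁻¹) := by
    rw [show x * v * x⁻¹ * (x * w * x⁻¹) = x * (v * w) * x⁻¹ by group, e]; group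
  have hpow : z ^ p = x * w ^ p * x⁻¹ := by
    have hc : Commute (x * v * x⁻¹) (x * w * x⁻¹) :=
      (show Commute v w from
        PGroup.mul_comm_of_isMulCommutative m.comm (mem_sup_left hv) (mem_sup_right hw)).map
        (MulAut.conj x).toMonoidHom
    rw [e', hc.mul_pow, conj_pow, conj_pow, h.isElementaryAbelian_vQ.2 v hv]
    group
  refine m.mem_center hx (fun s hs => ?_) ⟨w ^ p, pow_mem hw p, hpow.symm⟩
  exact ((show Commute s z from hz.2 s hs).pow_right p).eq

theorem thompson_centralizer_sylow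
    (hZ : ¬ ((S : Subgroup G) ⊓ centralizer ((S : Subgroup G) : Set G)).Normal) {T : Subgroup G}
    (hT : (S : Subgroup G) ⊓ centralizer (centerThompsonAOf (S : Subgroup G) : Set G) = T) :
    ∃ P : Sylow p ↥(normalClosure (T : Set G)),
      (P : Subgroup ↥(normalClosure (T : Set G))) = T.subgroupOf (normalClosure (T : Set G)) := by
  rcases h.cases' with hz | hn | m
  · exact absurd (normal_of_le_center hz) hZ
  · rw [hT] at hn
    exact exists_sylow_normalClosure S (hN := hn) (inf_eq_right.mpr (hT ▸ inf_le_left))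
  set J := thompsonSubgroupAOf (S : Subgroup G)
  set W := centerThompsonAOf (S : Subgroup G)
  set V := vQ p G
  set Q := pCore p G
  obtain ⟨x, hx⟩ := h.exists_not_mem
  have := m.normal
  have hD : Q ⊓ centralizer (W : Set G) = Q ⊓ centralizer ((V ⊔ W : Subgroup G) : Set G) := by
    rw [Offender.centralizer_sup_eq, ← inf_assoc,
      inf_eq_left.mpr (pCore_le_centralizer_vQ : Q ≤ centralizer (V : Set G))]
  set P := J ⊔ J.map (MulAut.conj x).toMonoidHom
  set N := P ⊔ (Q ⊓ centralizer (W : Set G))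
  have hQP : Q ≤ normalizer (P : Set G) := fun q hq => by
    have hq1 := PGroup.normalizer_le_normalizer_thompsonAOf (S : Subgroup G)
      (Subgroup.le_normalizer (PCore.pCore_le_sylow S hq))
    have hq2 := PGroup.normalizer_le_normalizer_thompsonAOf (S : Subgroup G)
      (Subgroup.le_normalizer (PCore.pCore_le_sylow S (PCore.pCore_normal.conj_mem q hq x⁻¹)))
    have e : (J.map (MulAut.conj x).toMonoidHom).map (MulAut.conj q).toMonoidHom =
        (J.map (MulAut.conj (x⁻¹ * q * x⁻¹⁻¹)).toMonoidHom).map (MulAut.conj x).toMonoidHom := by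
      rw [map_map, map_map]
      congr 1
      exact MonoidHom.ext fun g => by simp [mul_assoc]
    refine PGroup.mem_normalizer_of_map_conj_eq ?_
    rw [Subgroup.map_sup, PGroup.map_conj_eq_of_mem_normalizer hq1, e,
      PGroup.map_conj_eq_of_mem_normalizer hq2]
  have hNn : N.Normal := by
    refine normalizer_eq_top_iff.mp (top_le_iff.mp ((m.gen x hx).ge.trans (sup_le ?_ ?_)))
    · exact le_sup_left.trans Subgroup.le_normalizer
    · intro q hq
      refine PGroup.mem_normalizer_of_map_conj_eq ?_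
      have hn : (Q ⊓ centralizer (W : Set G)).Normal := hD ▸ inferInstance
      rw [Subgroup.map_sup, PGroup.map_conj_eq_of_mem_normalizer (hQP hq),
        PGroup.map_conj_eq_of_mem_normalizer ((normalizer_eq_top_iff.mpr hn).ge (mem_top q))]
  have hJW : J ≤ centralizer (W : Set G) := le_centralizer_iff.mp inf_le_right
  subst hT
  refine exists_sylow_normalClosure S (T := (S : Subgroup G) ⊓ centralizer (W : Set G)) (N := N)
    (le_antisymm (fun k hk => mem_inf.mpr ⟨hk.1, ?_⟩) fun k hk => mem_inf.mpr ⟨hk.1, ?_⟩)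
  · obtain ⟨j, hj, q, hq, rfl⟩ := (Coprime.mem_sup_iff_of_le_normalizer
      (le_top.trans (normalizer_eq_top_iff.mpr PCore.pCore_normal).ge)).mp (m.sup_pCore.ge hk.1)
    refine mul_mem (hJW hj) ?_
    have hqN : q ∈ N := by
      have := mul_mem (inv_mem (mem_sup_left (mem_sup_left hj) : j ∈ N)) hk.2
      rwa [inv_mul_cancel_left] at this
    obtain ⟨y, hy, d, hd, rfl⟩ := (Coprime.mem_sup_iff_of_le_normalizer (H := P)
      (le_top.trans (normalizer_eq_top_iff.mpr (hD ▸ inferInstance)).ge)).mp hqN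
    refine mul_mem (fun w hw => ?_) hd.2
    have hyQ : y ∈ Q := by
      have := mul_mem hq (inv_mem hd.1)
      rwa [mul_inv_cancel_right] at this
    obtain ⟨v, hv, w', hw', e⟩ := (Coprime.mem_sup_iff_of_le_normalizer (H := V) (N := W)
      (h.vQ_le_sylow.trans m.le_normalizer)).mp (m.normal.conj_mem w (mem_sup_right hw) x⁻¹)
    have hv' : x * v * x⁻¹ ∈ V := vQ_normal.conj_mem v hv x
    obtain ⟨a, ha, b, hb, eab⟩ := m.split x hx _ hv'
    have haW : a ∈ W := center_le_centerThompson ⟨h.vQ_le_sylow ha.1, ha.2⟩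
    have hbW : x⁻¹ * b * x ∈ W := by
      refine center_le_centerThompson ⟨h.vQ_le_sylow (by simpa using vQ_normal.conj_mem b hb.1 x⁻¹), ?_⟩
      intro s hs
      have h1 := hb.2 _ ⟨s, hs, rfl⟩
      calc s * (x⁻¹ * b * x) = x⁻¹ * (x * s * x⁻¹ * b) * x := by group
        _ = x⁻¹ * b * x * s := by
          rw [show x * s * x⁻¹ * b = b * (x * s * x⁻¹) from h1]; group
    have hc : ∀ g ∈ P, g * (a⁻¹ * w) = (a⁻¹ * w) * g := by
      have hle : P ≤ centralizer ({a⁻¹ * w} : Set G) := by
        refine sup_le (fun j hj' => ?_) ?_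
        · rw [mem_centralizer_iff]; rintro _ rfl
          exact hJW hj' _ (mul_mem (inv_mem haW) hw)
        · rintro _ ⟨j, hj', rfl⟩
          rw [mem_centralizer_iff]; rintro _ rfl
          have e2 : a⁻¹ * w = x * (x⁻¹ * b * x * w') * x⁻¹ := by
            rw [show w = x * (v * w') * x⁻¹ by rw [e]; group,
              show x * (v * w') * x⁻¹ = (x * v * x⁻¹) * (x * w' * x⁻¹) by group, ← eab]
            group
          rw [e2]
          exact ((show Commute (x⁻¹ * b * x * w') j from hJW hj' _ (mul_mem hbW hw')).map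
            (MulAut.conj x).toMonoidHom).eq
      exact fun g hg => ((hle hg) _ rfl).symm
    have h1 := hc y hy
    have h2 : y * a = a * y := (pCore_le_centralizer_vQ hyQ a ha.1).symm
    calc w * y = a * ((a⁻¹ * w) * y) := by group
      _ = a * y * (a⁻¹ * w) := by rw [← h1]; group
      _ = y * w := by rw [← h2]; group
  · obtain ⟨j, hj, q, hq, rfl⟩ := (Coprime.mem_sup_iff_of_le_normalizer
      (le_top.trans (normalizer_eq_top_iff.mpr PCore.pCore_normal).ge)).mp (m.sup_pCore.ge hk.1)
    refine mul_mem (mem_sup_left (mem_sup_left hj)) (mem_sup_right ⟨hq, ?_⟩)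
    have := mul_mem (inv_mem (hJW hj)) hk.2
    rwa [inv_mul_cancel_left] at this

end Hyp

end Cfsg.Agent.PushingUp
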