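import Cfsg.Agent.Lib.PushingUp.Vertex
import Cfsg.Agent.Lib.PushingUp.Baumann

/-!
# Configurations from pushing-up hypotheses

* `base_map`: `Hyp`, no nontrivial characteristic subgroup of `S` normal, and an embedding `f` give a `Base`
* `base_perm`: the embedding in `Equiv.Perm G` works
* `card_sylow`: `|S : O_p(G)| = |F|`
-/

set_option autoImplicit false

namespace Cfsg.Agent.PushingUp

open Subgroup
open FFPair (cj mem_cj cj_cj)
open scoped commutatorElement

universe u v

variable {G : Type u} [Group G] {Γ : Type v} [Group Γ] {p : ℕ}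

theorem map_inf_centralizer (f : G →* Γ) (hf : Function.Injective f) (A B : Subgroup G) :
    (A ⊓ centralizer (B : Set G)).map f = A.map f ⊓ centralizer (B.map f : Set Γ) := by
  refine le_antisymm ?_ ?_
  · rintro _ ⟨a, ha, rfl⟩
    refine ⟨mem_map_of_mem f ha.1, ?_⟩
    rintro _ ⟨b, hb, rfl⟩
    rw [← map_mul, ha.2 b hb, map_mul]
  · rintro _ ⟨⟨a, ha, rfl⟩, hc⟩
    exact ⟨a, ⟨ha, fun b hb => hf (by rw [map_mul, map_mul]; exact hc _ (mem_map_of_mem f hb))⟩, rfl⟩

theorem map_cj (f : G →* Γ) (x : G) (H : Subgroup G) : (cj x H).map f = cj (f x) (H.map f) := by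
  rw [FFPair.cj, FFPair.cj, map_map, map_map]
  congr 1
  exact MonoidHom.ext fun g => by simp

/-- The configuration of `S` inside `Γ` along `f`. -/
def cfg [Finite G] (p : ℕ) (S : Sylow p G) (f : G →* Γ) : Cfg Γ where
  G := (⊤ : Subgroup G).map f
  S := (S : Subgroup G).map f
  Q := (pCore p G).map f
  V := (vQ p G).map f
  Zs := ((S : Subgroup G) ⊓ centralizer ((S : Subgroup G) : Set G)).map f
  Z := (vQ p G ⊓ centralizer ((⊤ : Subgroup G) : Set G)).map f

variable [Finite G] [Fact p.Prime]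

theorem Hyp.center_ne_bot {S : Sylow p G} {M : Subgroup G} (h : Hyp p S M) :
    (S : Subgroup G) ⊓ centralizer ((S : Subgroup G) : Set G) ≠ ⊥ := by
  intro hc
  have : Nontrivial ↥(S : Subgroup G) := (Subgroup.nontrivial_iff_ne_bot _).mpr fun e =>
    h.not_le (e ▸ bot_le)
  have := S.2.center_nontrivial
  obtain ⟨⟨z, hz⟩, hz1⟩ := exists_ne (1 : ↥(Subgroup.center ↥(S : Subgroup G)))
  refine hz1 (Subtype.ext (Subtype.ext (mem_bot.mp (hc.le ⟨z.2, fun s hs => ?_⟩))))
  exact congrArg Subtype.val (Subgroup.mem_center_iff.mp hz ⟨s, hs⟩)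

variable {S : Sylow p G} {M : Subgroup G}

/-- What the pushing-up hypotheses give at the vertex: the action on `V`, `Z(S) ≤ V` and `C(V) ≤ M`. -/
def Basics (p : ℕ) (S : Sylow p G) (M : Subgroup G) [Finite G] [Fact p.Prime] : Prop :=
  ∃ _ : Act p S M (vQ p G),
    (S : Subgroup G) ⊓ centralizer ((S : Subgroup G) : Set G) ≤ vQ p G ∧
    centralizer (vQ p G : Set G) ≤ M

variable (h : Hyp p S M)
  (hd : ∀ T : Subgroup ↥(S : Subgroup G), T ≠ ⊥ → T.Characteristic →
    ¬ (T.map (S : Subgroup G).subtype).Normal)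
include h hd

omit [Finite G] [Fact p.Prime] h in
theorem eq_bot_of_normal {T : Subgroup G} (hT : T ≤ (S : Subgroup G))
    (hchar : (T.subgroupOf (S : Subgroup G)).Characteristic) (hn : T.Normal) : T = ⊥ := by
  by_contra hne
  refine hd _ (fun e => hne ?_) hchar ?_
  · rw [← map_subgroupOf_eq_of_le hT, e, Subgroup.map_bot]
  · rwa [map_subgroupOf_eq_of_le hT]

/-- `Z(S)` is not central, elementary abelian, and there is an offender on `Ω₁(Z(Q))`. -/
theorem Hyp.basics : Basics p S M := by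
  set Zs := (S : Subgroup G) ⊓ centralizer ((S : Subgroup G) : Set G)
  have hZc : (Zs.subgroupOf (S : Subgroup G)).Characteristic := by
    rw [show Zs.subgroupOf (S : Subgroup G) = Subgroup.center ↥(S : Subgroup G) by
      ext z
      rw [mem_subgroupOf, Subgroup.mem_center_iff]
      exact ⟨fun hz s => Subtype.ext (hz.2 s s.2),
        fun hz => ⟨z.2, fun s hs => congrArg Subtype.val (hz ⟨s, hs⟩)⟩⟩]
    infer_instance
  have hZn : ¬ Zs.Normal := fun hn => h.center_ne_bot (eq_bot_of_normal hd inf_le_left hZc hn)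
  set W := centerThompsonAOf (S : Subgroup G)
  have hWn : ¬ ((S : Subgroup G) ⊓ centralizer (W : Set G)).Normal := by
    intro hn
    refine h.center_ne_bot (le_bot_iff.mp ?_)
    refine le_trans ?_ (eq_bot_of_normal hd inf_le_left ?_ hn).le
    · exact inf_le_inf_left _ (centralizer_le (inf_le_left.trans (PGroup.thompsonSubgroupAOf_le _)))
    · rw [show ((S : Subgroup G) ⊓ centralizer (W : Set G)).subgroupOf (S : Subgroup G) =
          centralizer ((thompsonSubgroupA ↥(S : Subgroup G) ⊓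
            centralizer (thompsonSubgroupA ↥(S : Subgroup G) : Set ↥(S : Subgroup G)) :
              Subgroup ↥(S : Subgroup G)) : Set ↥(S : Subgroup G)) by
        have e : ((thompsonSubgroupA ↥(S : Subgroup G) ⊓
            centralizer (thompsonSubgroupA ↥(S : Subgroup G) : Set ↥(S : Subgroup G))).map
            (S : Subgroup G).subtype) = W := by
          rw [map_inf_centralizer _ (S : Subgroup G).subtype_injective]; rfl
        refine map_injective (S : Subgroup G).subtype_injective ?_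
        rw [map_subgroupOf_eq_of_le inf_le_left]
        conv_rhs => rw [← top_inf_eq (centralizer _),
          map_inf_centralizer _ (S : Subgroup G).subtype_injective, e, ← MonoidHom.range_eq_map,
          Subgroup.range_subtype]]
      have := PGroup.thompsonSubgroupA_characteristic (G := ↥(S : Subgroup G))
      exact inferInstance
  have hV : centralizer (vQ p G : Set G) ≤ M :=
    by_contra fun hc => hZn (normal_of_le_center (h.mem_center_of_not_le hc))
  have hJ : ¬ thompsonSubgroupAOf (S : Subgroup G) ≤ pCore p G := fun hJ =>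
    (h.of_thompson_le hJ).elim (fun hz => hZn (normal_of_le_center hz)) hWn
  obtain ⟨A₁, hA₁, hne⟩ : ∃ A, PGroup.IsMaxAb (S : Subgroup G) A ∧ ¬ A ≤ pCore p G := by
    by_contra hc
    push Not at hc
    exact hJ (by rw [PGroup.thompsonSubgroupAOf_eq]; exact sSup_le hc)
  refine ⟨h.act hV hA₁ hne, fun z hz => ?_, hV⟩
  have hpc : powerClosure p 1 Zs = ⊥ := by
    rcases h.not_elementary_case with hn | hn
    · refine eq_bot_of_normal hd ((PGroup.powerClosure_le _ _).trans inf_le_left) ?_ hn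
      refine Subgroup.characteristic_iff_map_eq.mpr fun α => map_injective
        (S : Subgroup G).subtype_injective ?_
      have e : (powerClosure p 1 Zs).subgroupOf (S : Subgroup G) =
          powerClosure p 1 (Zs.subgroupOf (S : Subgroup G)) := map_injective
        (S : Subgroup G).subtype_injective (by
          rw [PGroup.map_powerClosure, map_subgroupOf_eq_of_le inf_le_left,
            map_subgroupOf_eq_of_le ((PGroup.powerClosure_le _ _).trans inf_le_left)])
      rw [e, PGroup.map_powerClosure, Subgroup.characteristic_iff_map_eq.mp hZc]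
    · exact absurd hn hWn
  refine PGroup.mem_omegaOne_of_pow_eq_one (Hyp.center_le_cQ hz) ?_
  have := PGroup.pow_mem_powerClosure (p := p) hz 1
  rwa [hpc, mem_bot, pow_one] at this

omit hd in
/-- The configuration attached to an embedding. -/
theorem base_map (hB : Basics p S M) (f : G →* Γ) (hf : Function.Injective f) :
    Base p (cfg p S f) := by
  obtain ⟨hA, hZsV, hV⟩ := hB
  set Zs := (S : Subgroup G) ⊓ centralizer ((S : Subgroup G) : Set G)
  set V := vQ p G
  set Q := pCore p G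
  set Z := V ⊓ centralizer ((⊤ : Subgroup G) : Set G)
  have hQS : Q ≤ (S : Subgroup G) := PCore.pCore_le_sylow S
  have hfix : V ⊓ centralizer ((S : Subgroup G) : Set G) = Zs :=
    le_antisymm (inf_le_inf_right _ h.vQ_le_sylow) (le_inf hZsV inf_le_right)
  have hZ : Z = V ⊓ Subgroup.center G := by simp only [Z, coe_top, centralizer_univ]
  have hSC : (S : Subgroup G) ⊓ centralizer (V : Set G) = Q := h.inf_centralizer_vQ hV
  have hZle : Z ≤ Zs := le_inf (inf_le_left.trans h.vQ_le_sylow)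
    (inf_le_right.trans (centralizer_le (Set.subset_univ _ |>.trans coe_top.ge)))
  have hVc : ∀ a ∈ V, ∀ b ∈ V, a * b = b * a := fun a ha b hb =>
    PGroup.mul_comm_of_isMulCommutative hA.elem.1 ha hb
  have hcent : ∀ z ∈ Zs, ∀ a ∈ (S : Subgroup G), a * z * a⁻¹ = z := fun z hz a ha => by
    rw [hz.2 a ha, mul_inv_cancel_right]
  have hquad : ∀ a ∈ (S : Subgroup G), ∀ v ∈ V, a * v * a⁻¹ * v⁻¹ ∈ Zs := fun a ha v hv =>
    hfix.le (hA.quad ha hv)
  have hsharp : ∀ a ∈ (S : Subgroup G), a ∉ Q → ∀ v ∈ V, a * v * a⁻¹ * v⁻¹ ∈ Z → v ∈ Zs :=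
    fun a ha haQ v hv hc => hfix.le (hA.sharp ha (fun haC => haQ (hSC.le ⟨ha, haC⟩)) hv (hZ.le hc))
  have hcardV : Nat.card ↥V * Nat.card ↥Q = Nat.card (S : Subgroup G) * Nat.card ↥Zs := by
    rw [← hfix, ← hSC]; exact hA.card_eq
  have hcardZs : Nat.card ↥Zs * Nat.card ↥Q = Nat.card (S : Subgroup G) * Nat.card ↥Z := by
    rw [← hfix, ← hSC, hZ]; exact hA.card_fixed_eq
  have hpair : ∀ x ∉ M, (S : Subgroup G) ⊔ cj x (S : Subgroup G) = ⊤ ∧ Zs ⊔ cj x Zs = V ∧
      Zs ⊓ cj x Zs = Z := by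
    intro x hx
    have hxV : cj x Zs ≤ V := by
      rintro _ ⟨z, hz, rfl⟩; exact vQ_normal.conj_mem z (hZsV hz) x
    refine ⟨h.gen hx, le_antisymm (sup_le hZsV hxV) fun v hv => ?_,
      le_antisymm (fun z hz => ⟨hZsV hz.1, fun g _ => ?central⟩) (le_inf hZle fun z hz => ?mem)⟩
    · obtain ⟨a, ha, b, hb, rfl⟩ := hA.split hx hv
      refine mul_mem_sup (hfix.le ha) (mem_cj.mpr (hfix.le ⟨?_, fun s hs => ?_⟩))
      · simpa using vQ_normal.conj_mem b hb.1 x⁻¹
      · calc s * (x⁻¹ * b * x) = x⁻¹ * (x * s * x⁻¹ * b) * x := by group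
          _ = x⁻¹ * b * x * s := by
            rw [show x * s * x⁻¹ * b = b * (x * s * x⁻¹) from hb.2 _ ⟨s, hs, rfl⟩]; group
    case central =>
      have hle : (S : Subgroup G) ⊔ cj x (S : Subgroup G) ≤ centralizer ({z} : Set G) := by
        refine sup_le (fun s hs => ?_) ?_
        · rw [mem_centralizer_iff]; rintro _ rfl; exact (hz.1.2 s hs).symm
        · rintro _ ⟨s, hs, rfl⟩
          rw [mem_centralizer_iff]; rintro _ rfl
          obtain ⟨w, hw, rfl⟩ := hz.2
          exact ((show Commute w s from (hw.2 s hs).symm).map (MulAut.conj x).toMonoidHom).eq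
      exact (hle ((h.gen hx).ge (mem_top g)) z rfl).symm
    case mem =>
      refine mem_cj.mpr ?_
      rw [show x⁻¹ * z * x = z by
        rw [show x⁻¹ * z = z * x⁻¹ from hz.2 _ (mem_top _), inv_mul_cancel_right]]
      exact hZle hz
  obtain ⟨y, hy⟩ := h.exists_not_mem
  have hmov : ∀ x ∉ M, cj x Zs ≠ Zs := by
    intro x hx he
    obtain ⟨-, -, h3⟩ := hpair x hx
    rw [he, inf_idem] at h3
    refine h.not_le (eq_of_le_of_card_ge hQS (Nat.le_of_eq ?_)).ge
    refine Nat.eq_of_mul_eq_mul_right (Nat.card_pos (α := ↥Zs)) ?_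
    rw [mul_comm (Nat.card ↥Q), hcardZs, ← h3]
  have hfixM : ∀ x ∈ M, cj x Zs = Zs := by
    intro x hxM
    refine eq_of_le_of_card_ge (fun w hw => ?_) (card_cj x Zs).ge
    by_contra hwZ
    obtain ⟨-, h2, -⟩ := hpair y hy
    have hwV : w ∈ V := by
      obtain ⟨z, hz, rfl⟩ := hw; exact vQ_normal.conj_mem z (hZsV hz) x
    have hyn : Zs ≤ normalizer (cj y Zs : Set G) := fun z hz => centralizer_le_normalizer _ fun z' hz' =>
      hVc _ (h2.le (mem_sup_right hz')) _ (hZsV hz)
    obtain ⟨z, hz, z', hz', rfl⟩ := (Coprime.mem_sup_iff_of_le_normalizer hyn).mp (h2.ge hwV)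
    have hz'Zs : z' ∉ Zs := fun hc => hwZ (mul_mem hz hc)
    obtain ⟨a, ha, hr⟩ := elem_cover_aux hQS hZle hZsV hVc Hyp.pCore_le_centralizer_vQ hcent hquad hsharp
      hcardZs (h2.le (mem_sup_right hz')) hz'Zs hz
    have hb : x⁻¹ * (a * y) ∉ M := fun hm => hy (by
      have := mul_mem (mul_mem (inv_mem (h.SM ha)) hxM) hm
      rwa [show a⁻¹ * x * (x⁻¹ * (a * y)) = y by group] at this)
    obtain ⟨h2', -, h3⟩ := hpair _ hb
    set r := (a * z' * a⁻¹ * z'⁻¹)⁻¹ * z
    have e : z * z' = a * z' * a⁻¹ * r := by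
      simp only [r]
      have hz'V := h2.le (mem_sup_right hz')
      have hc := hVc _ (hZsV (hquad a ha z' hz'V)) _ hz'V
      calc z * z' = z' * z := hVc _ (hZsV hz) _ hz'V
        _ = z' * (a * z' * a⁻¹ * z'⁻¹) * ((a * z' * a⁻¹ * z'⁻¹)⁻¹ * z) := by group
        _ = a * z' * a⁻¹ * ((a * z' * a⁻¹ * z'⁻¹)⁻¹ * z) := by rw [← hc]; group
    have h1 : x⁻¹ * (z * z') * x ∈ Zs ⊓ cj (x⁻¹ * (a * y)) Zs := by
      refine ⟨mem_cj.mp hw, mem_cj.mpr ?_⟩
      rw [e, show (x⁻¹ * (a * y))⁻¹ * (x⁻¹ * (a * z' * a⁻¹ * r) * x) * (x⁻¹ * (a * y)) =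
        (y⁻¹ * z' * y) * (y⁻¹ * a⁻¹ * r * (a * y)) by group]
      refine mul_mem (mem_cj.mp hz') ?_
      rw [show y⁻¹ * a⁻¹ * r * (a * y) = r by
        rw [show y⁻¹ * a⁻¹ * r = r * (y⁻¹ * a⁻¹) from hr.2 _ (mem_top _)]; group]
      exact hZle hr
    refine hwZ (hZle ?_)
    have h4 := h3.le h1
    rwa [show x⁻¹ * (z * z') * x = z * z' from
      mul_right_cancel (b := x) ((h4.2 x (mem_top x)).symm.trans (by group))] at h4
  have hmap : ∀ {A B : Subgroup G}, A.map f ≤ B.map f ↔ A ≤ B := fun {_ _} =>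
    map_le_map_iff_of_injective hf
  have hmem : ∀ {A : Subgroup G} {x : G}, f x ∈ A.map f ↔ x ∈ A := fun {_ _} =>
    Subgroup.mem_map_iff_mem hf
  have hcm : ∀ a v : G, f a * f v * (f a)⁻¹ * (f v)⁻¹ = f (a * v * a⁻¹ * v⁻¹) := fun a v => by simp
  exact
  { SG := map_mono le_top
    QS := map_mono hQS
    VQ := map_mono h.vQ_le_pCore
    GQ := (map_mono (normalizer_eq_top_iff.mpr PCore.pCore_normal).ge).trans (le_normalizer_map f)
    GV := (map_mono (normalizer_eq_top_iff.mpr vQ_normal).ge).trans (le_normalizer_map f)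
    elem := PGroup.isElementaryAbelian_map hA.elem f
    QV := by
      rintro _ ⟨q, hq, rfl⟩ _ ⟨v, hv, rfl⟩
      rw [← map_mul, Hyp.pCore_le_centralizer_vQ hq v hv, map_mul]
    centV := by
      show (S : Subgroup G).map f ⊓ centralizer (V.map f : Set Γ) ≤ Q.map f
      rw [← map_inf_centralizer f hf, hSC]
    Zs_eq := map_inf_centralizer f hf _ _
    ZsV := map_mono hZsV
    Z_eq := map_inf_centralizer f hf _ _
    cardV := by simp only [cfg, card_map_of_injective hf]; exact hcardV
    cardZs := by simp only [cfg, card_map_of_injective hf]; exact hcardZs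
    ne := fun hc => h.not_le (hmap.mp hc)
    quad := by
      rintro _ ⟨a, ha, rfl⟩ _ ⟨v, hv, rfl⟩
      rw [hcm]; exact mem_map_of_mem f (hquad a ha v hv)
    sharp := by
      rintro _ ⟨a, ha, rfl⟩ haQ _ ⟨v, hv, rfl⟩ hc
      rw [hcm] at hc
      exact mem_map_of_mem f (hsharp a ha (fun hq => haQ (mem_map_of_mem f hq)) v hv (hmem.mp hc))
    comm := by
      rintro _ ⟨a, ha, rfl⟩ _ ⟨b, hb, rfl⟩
      rw [← map_commutatorElement]
      exact mem_map_of_mem f (h.comm a ha b hb)
    pow := by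
      rintro _ ⟨a, ha, rfl⟩
      rw [← map_pow]
      exact mem_map_of_mem f (h.pow a ha)
    dich := by
      rintro _ ⟨x, -, rfl⟩
      simp only [cfg, ← map_cj, ← Subgroup.map_sup, ← Subgroup.map_inf _ _ f hf]
      by_cases hx : x ∈ M
      · exact Or.inl (congrArg _ (hfixM x hx))
      · obtain ⟨h1, h2, h3⟩ := hpair x hx
        exact Or.inr ⟨congrArg _ h1, congrArg _ h2, congrArg _ h3⟩
    moving := ⟨f y, mem_map_of_mem f (mem_top y), fun e => hmov y hy (map_injective hf (by
      rw [map_cj]; exact e))⟩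
    pgroup := S.2.map f
    index := by
      show ¬ p ∣ ((S : Subgroup G).map f).relIndex ((⊤ : Subgroup G).map f)
      rw [relIndex_map_map_of_injective _ _ hf, relIndex_top_right]
      exact S.not_dvd_index
    self := by
      show (⊤ : Subgroup G).map f ⊓ centralizer (Q.map f : Set Γ) ≤ Q.map f
      rw [← map_inf_centralizer f hf, top_inf_eq]
      exact map_mono h.cent
    omega := by
      rintro _ ⟨y, -, rfl⟩ hyQ hyp
      refine mem_map_of_mem f (PGroup.mem_omegaOne_of_pow_eq_one ?_ ?_)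
      · exact fun q hq => hf (by rw [map_mul, map_mul]; exact hyQ _ (mem_map_of_mem f hq))
      · exact hf (by rw [map_pow, map_one]; exact hyp)
  }

omit [Fact p.Prime] h in
/-- No nontrivial subgroup of `S` is normalised by `G` and `N(S)` inside `Perm G`. -/
theorem noCommon_perm (T : Subgroup (Equiv.Perm G))
    (hT : T ≤ (S : Subgroup G).map (MulAction.toPermHom G G))
    (hG : (⊤ : Subgroup G).map (MulAction.toPermHom G G) ≤ normalizer (T : Set (Equiv.Perm G)))
    (hN : normalizer ((S : Subgroup G).map (MulAction.toPermHom G G) : Set (Equiv.Perm G)) ≤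
      normalizer (T : Set (Equiv.Perm G))) : T = ⊥ := by
  set f := MulAction.toPermHom G G
  have hf : Function.Injective f := MulAction.toPerm_injective
  have hT' : T.comap f ≤ (S : Subgroup G) := (comap_mono hT).trans
    (comap_map_eq_self_of_injective hf _).le
  have hn : (T.comap f).Normal := ⟨fun t ht g => by
    rw [mem_comap, map_mul, map_mul, map_inv]
    exact (mem_normalizer_iff.mp (hG (mem_map_of_mem f (mem_top g))) _).mp ht⟩
  have hc : ((T.comap f).subgroupOf (S : Subgroup G)).Characteristic := by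
    refine Subgroup.characteristic_iff_comap_le.mpr fun α t ht => ?_
    let r : G → G := fun x => (QuotientGroup.mk x⁻¹ : G ⧸ (S : Subgroup G)).out
    have hr : ∀ x, x * r x ∈ (S : Subgroup G) := fun x => by
      have := QuotientGroup.eq.mp (QuotientGroup.out_eq' (QuotientGroup.mk x⁻¹ : G ⧸ (S : Subgroup G)))
      have h2 := inv_mem this
      rwa [mul_inv_rev, inv_inv, inv_inv] at h2
    have hrs : ∀ s ∈ (S : Subgroup G), ∀ x, r (s * x) = r x := fun s hs x => by
      simp only [r, mul_inv_rev]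
      rw [QuotientGroup.mk_mul_of_mem x⁻¹ (inv_mem hs)]
    let σf : (↥(S : Subgroup G) ≃* ↥(S : Subgroup G)) → G → G := fun β x => (β ⟨_, hr x⟩ : G) * (r x)⁻¹
    have hσr : ∀ β x, r (σf β x) = r x := fun β x => by
      show r ((β ⟨_, hr x⟩ : G) * (r x)⁻¹) = r x
      rw [hrs _ (β _).2, show (r x)⁻¹ = (x * r x)⁻¹ * x by group, hrs _ (inv_mem (hr x))]
    have hinv : ∀ β x, σf β.symm (σf β x) = x := fun β x => by
      have e : (⟨σf β x * r (σf β x), hr _⟩ : ↥(S : Subgroup G)) = β ⟨_, hr x⟩ :=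
        Subtype.ext (by
          show σf β x * r (σf β x) = ((β ⟨_, hr x⟩ : ↥(S : Subgroup G)) : G)
          rw [hσr]; simp [σf])
      show (β.symm ⟨_, hr (σf β x)⟩ : G) * (r (σf β x))⁻¹ = x
      rw [e, β.symm_apply_apply, hσr, mul_inv_cancel_right]
    let σ : Equiv.Perm G := ⟨σf α, σf α.symm, hinv α, fun x => by simpa using hinv α.symm x⟩
    have hσ : ∀ s : ↥(S : Subgroup G), σ * f s * σ⁻¹ = f (α s) := fun s => by
      rw [mul_inv_eq_iff_eq_mul]
      refine Equiv.ext fun x => ?_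
      show σf α ((s : G) * x) = (α s : G) * σf α x
      have e : (⟨(s : G) * x * r ((s : G) * x), hr _⟩ : ↥(S : Subgroup G)) = s * ⟨_, hr x⟩ :=
        Subtype.ext (show (s : G) * x * r ((s : G) * x) = (s : G) * (x * r x) by rw [hrs _ s.2, mul_assoc])
      show (α ⟨_, hr ((s : G) * x)⟩ : G) * (r ((s : G) * x))⁻¹ = _
      rw [e, map_mul, hrs _ s.2, Subgroup.coe_mul, mul_assoc]
    have hσN : σ ∈ normalizer ((S : Subgroup G).map f : Set (Equiv.Perm G)) := by
      refine PGroup.mem_normalizer_of_map_conj_eq (eq_of_le_of_card_ge ?_ (card_cj σ _).ge)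
      rintro _ ⟨_, ⟨s, hs, rfl⟩, rfl⟩
      exact ⟨_, (α ⟨s, hs⟩).2, (hσ ⟨s, hs⟩).symm⟩
    have h1 := (mem_normalizer_iff.mp (hN hσN) (f (t : G))).mpr
    rw [mem_comap, mem_subgroupOf, mem_comap] at ht
    rw [mem_subgroupOf, mem_comap]
    exact h1 (hσ t ▸ ht)
  refine le_bot_iff.mp fun x hx => ?_
  obtain ⟨s, -, rfl⟩ := hT hx
  have : s ∈ (⊥ : Subgroup G) := eq_bot_of_normal hd hT' hc hn ▸ hx
  rw [mem_bot.mp this, map_one]
  exact one_mem _

/-- The configuration in `Equiv.Perm G`. -/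
theorem base_perm : Base p (cfg p S (MulAction.toPermHom G G)) :=
  base_map h (h.basics hd) _ MulAction.toPerm_injective

omit hd in
/-- `|S : O_p(G)| = |F|`. -/
theorem card_sylow {F : Type*} [Field F] [Fintype F] {n : ℕ} (K : Subgroup G) [K.Normal]
    (hF : Fintype.card F = p ^ n)
    (hE₃ : Nonempty (G ⧸ K ≃* Matrix.ProjectiveSpecialLinearGroup (Fin 2) F)) :
    Fintype.card F * Nat.card ↥(pCore p G) = Nat.card (S : Subgroup G) := by
  obtain ⟨e⟩ := hE₃
  obtain ⟨θ, hθ, hker, hSθ⟩ := exists_adapted hF S (e.toMonoidHom.comp (QuotientGroup.mk' K))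
    (e.surjective.comp (QuotientGroup.mk'_surjective K))
  have hkerK : θ.ker = K := by
    rw [hker]
    ext x
    rw [MonoidHom.mem_ker, MonoidHom.comp_apply]
    exact (map_eq_one_iff _ e.injective).trans (QuotientGroup.eq_one_iff x)
  have hKM : K ≤ M := by
    by_contra hc
    have h' := congrArg (Subgroup.map θ) (h.sup_eq_top hc)
    rw [Subgroup.map_sup, hSθ, (Subgroup.map_eq_bot_iff K).mpr hkerK.ge, bot_sup_eq,
      map_top_of_surjective θ hθ] at h'
    refine not_normal_uniP (F := F) ?_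
    rw [h']
    infer_instance
  have hQK : pCore p G ≤ K := by
    have hn : ((pCore p G).map θ).Normal := PCore.pCore_normal.map θ hθ
    rcases uniP_eq_bot_or (hSθ ▸ map_mono (PCore.pCore_le_sylow S))
      (le_top.trans (normalizer_eq_top_iff.mpr hn).ge) with h' | h'
    · rw [Subgroup.map_eq_bot_iff, hkerK] at h'
      exact h'
    · exact absurd (h' ▸ hn) not_normal_uniP
  have hK : (S : Subgroup G) ⊓ θ.ker = pCore p G :=
    le_antisymm (hkerK ▸ h.inf_le_pCore hKM) (le_inf (PCore.pCore_le_sylow S) (hkerK ▸ hQK))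
  have h1 := (θ.comp (S : Subgroup G).subtype).ker.card_mul_index
  rw [index_ker] at h1
  rw [← h1, mul_comm]
  congr 1
  · rw [show (θ.comp (S : Subgroup G).subtype).ker = (pCore p G).subgroupOf (S : Subgroup G) by
      rw [← hK]; ext x; simp [mem_subgroupOf]]
    exact (Nat.card_congr (subgroupOfEquivOfLe (PCore.pCore_le_sylow S)).toEquiv).symm
  · rw [MonoidHom.range_comp, Subgroup.range_subtype, hSθ, uniP]
    rw [← NaturalSL2.card_upperUni (F := F)]
    refine (Nat.card_congr (Equiv.ofBijective (fun a : ↥(NaturalSL2.upperUni F) =>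
      (⟨proj F a, mem_map_of_mem _ a.2⟩ : ↥((NaturalSL2.upperUni F).map (proj F)))) ⟨?_, ?_⟩))
    · intro a b hab
      obtain ⟨z, hz, e'⟩ := (QuotientGroup.mk'_eq_mk' _).mp (congrArg Subtype.val hab)
      obtain ⟨r, -, hr⟩ := Matrix.SpecialLinearGroup.mem_center_iff.mp hz
      have hz' : z ∈ NaturalSL2.upperUni F := by
        rw [eq_inv_mul_of_mul_eq e']
        exact mul_mem (inv_mem a.2) b.2
      have h2 : r = 1 := by
        have := hz'.1
        rwa [← hr, Matrix.scalar_apply, Matrix.diagonal_apply_eq] at this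
      have hz1 : z = 1 := Subtype.ext (by rw [← hr, h2, map_one]; rfl)
      exact Subtype.ext (by rw [hz1, mul_one] at e'; exact e')
    · rintro ⟨_, a, ha, rfl⟩
      exact ⟨⟨a, ha⟩, rfl⟩

end Cfsg.Agent.PushingUp
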