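import Cfsg.Agent.Lib.PushingUp.TwoThree

/-!
# Rank-one pushing up

* `main`: `C_G(V) ≤ O_p(G)` and the two configurations
* `natural_chief`: noncentral chief factors in `O_p(G)` are natural
-/

set_option autoImplicit false
set_option linter.unusedSectionVars false

namespace Cfsg.Agent.PushingUp

open Subgroup
open FFPair (cj mem_cj cj_cj)
open scoped commutatorElement MatrixGroups

universe u v

variable {G : Type u} [Group G] [Finite G] {p : ℕ} [Fact p.Prime] {S : Sylow p G} {M : Subgroup G}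

/-- A natural `Q / E` layer above `V`, with `p = 3`. -/
structure TwoLayers (p : ℕ) (S : Sylow p G) (E : Subgroup G) : Prop where
  eq_three : p = 3
  normal : E.Normal
  le : vQ p G ≤ E
  le' : E ≤ pCore p G
  hyper : ∃ k, iterCommutator E ⊤ k ≤ vQ p G
  layer : ∃ (F : Type) (_ : Field F) (_ : Fintype F),
    Fintype.card F * Nat.card ↥(pCore p G) = Nat.card (S : Subgroup G) ∧ IsLayer F E (pCore p G)
  lcs : (S : Subgroup G).lowerCentralSeries 3 = ⊥
  lcs_ne : (S : Subgroup G).lowerCentralSeries 2 ≠ ⊥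
  exponent : Monoid.exponent ↥(S : Subgroup G) = 9

variable {Γ : Type v} [Group Γ] [Finite Γ] (h : Hyp p S M)
  (hd : ∀ T : Subgroup ↥(S : Subgroup G), T ≠ ⊥ → T.Characteristic →
    ¬ (T.map (S : Subgroup G).subtype).Normal)
include h hd

theorem main_of_base (f : G →* Γ) (hf : Function.Injective f) (hb : Base p (cfg p S f))
    (hnc : NoCommon (cfg p S f)) :
    centralizer (vQ p G : Set G) ≤ pCore p G ∧
      ((∃ A, One p S A) ∨ ∃ E, TwoLayers p S E) := by
  obtain ⟨m, e, hm, hg, hc⟩ := hb.exists_small hnc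
  rcases Nat.le_one_iff_eq_zero_or_eq_one.mp hm with rfl | rfl
  · obtain ⟨n, hn, hne, hAS, hsup, -, hcomm⟩ := hb.zero_data hc
    set c := cfg p S f
    have eA : ((cj n c.V).comap f).map f = cj n c.V :=
      map_comap_eq_self (hAS.trans (map_le_range f _))
    have o : One p S ((cj n c.V).comap f) :=
    { le := (map_le_map_iff_of_injective hf).mp (eA.le.trans hAS)
      elem := (PGroup.isElementaryAbelian_map_iff hf).mp (by rw [eA]; exact (hb.conj n).elem)
      sup := map_injective hf (by rw [Subgroup.map_sup, eA]; exact hsup)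
      comm := fun a ha q hq => by
        have := hcomm (f a) ha (f q) (mem_map_of_mem f hq)
        rw [← map_inv, ← map_inv, ← map_mul, ← map_mul, ← map_mul] at this
        exact (Subgroup.mem_map_iff_mem hf).mp this
      moves := fun hc' => hne (by
        rw [← eA]
        rintro _ ⟨a, ha, rfl⟩ _ ⟨v, hv, rfl⟩
        rw [← map_mul, hc' ha v hv, map_mul]) }
    exact ⟨o.cent h hd, Or.inl ⟨_, o⟩⟩
  · obtain ⟨V', Q', A, E₀, g, d, hsh⟩ := exists_dat h (h.basics hd) f hf hb hnc hg hc
    have hp := Dat.p_eq_three h (h.basics hd) d hsh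
    exact ⟨Dat.cent h (h.basics hd) d hsh, Or.inr ⟨Dat.E p Q' g,
      { eq_three := hp
        normal := Dat.E_normal h (h.basics hd) d
        le := Dat.vQ_le_E h d
        le' := inf_le_left.trans inf_le_left
        hyper := Dat.hyper h hd d hsh
        layer := (Dat.bar h (h.basics hd) d).2.2.2
        lcs := Dat.lcs_eq_bot h hd d hsh
        lcs_ne := Dat.lcs_two_ne h hd d hsh
        exponent := Dat.exponent_eq h hd d hsh hp }⟩⟩

theorem main : centralizer (vQ p G : Set G) ≤ pCore p G ∧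
    ((∃ A, One p S A) ∨ ∃ E, TwoLayers p S E) :=
  main_of_base h hd _ MulAction.toPerm_injective (base_perm h hd) (noCommon_perm hd)

/-- `V / C_V(G)`. -/
theorem exists_layer_V : ∃ (F : Type) (_ : Field F) (_ : Fintype F),
    Fintype.card F * Nat.card ↥(pCore p G) = Nat.card (S : Subgroup G) ∧
    IsLayer F (vQ p G ⊓ Subgroup.center G) (vQ p G) ∧
    Nonempty (G ⧸ pCore p G ≃* SL(2, F)) := by
  obtain ⟨hA, -, hV⟩ := h.basics hd
  obtain ⟨F, hF, hFt, hcard, hlay, ⟨e⟩⟩ := hA.layer
  rw [h.inf_centralizer_vQ hV] at hcard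
  have heq : centralizer (vQ p G : Set G) = pCore p G :=
    le_antisymm (main h hd).1 Hyp.pCore_le_centralizer_vQ
  exact ⟨F, hF, hFt, hcard, hlay, ⟨(QuotientGroup.quotientMulEquivOfEq heq.symm).trans e⟩⟩

theorem iter_center : iterCommutator (vQ p G ⊓ Subgroup.center G) ⊤ 1 = ⊥ :=
  commutator_eq_bot_iff_le_centralizer.mpr fun _ hz => fun x _ =>
    (Subgroup.mem_center_iff.mp hz.2 x)

/-- Noncentral chief factors inside `O_p(G)` are natural. -/
theorem natural_chief {F : Type} [Field F] [Fintype F]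
    (hF : Fintype.card F * Nat.card ↥(pCore p G) = Nat.card (S : Subgroup G)) {U W : Subgroup G}
    [W.Normal] (hU : U ≤ pCore p G) (hch : IsChiefFactor U W)
    (hnc : ¬ ⁅U, (⊤ : Subgroup G)⁆ ≤ W) :
    IsNaturalSL2Module F (U.map (QuotientGroup.mk' W)) (⊤ : Subgroup (G ⧸ W)) := by
  have key : ∀ {L N : Subgroup G} [N.Normal] [L.Normal], L ≤ N →
      (∃ (F' : Type) (_ : Field F') (_ : Fintype F'),
        Fintype.card F' * Nat.card ↥(pCore p G) = Nat.card (S : Subgroup G) ∧ IsLayer F' L N) →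
      Reaches U W N → ¬ Reaches U W L →
      IsNaturalSL2Module F (U.map (QuotientGroup.mk' W)) (⊤ : Subgroup (G ⧸ W)) := by
    rintro L N _ _ hle ⟨F', _, _, hc, hlay⟩ hN hL
    have hlay' := hlay.ofEquiv (FiniteField.ringEquivOfCardEq (K := F') (K' := F)
      (Nat.eq_of_mul_eq_mul_right Nat.card_pos (hc.trans hF.symm)))
    exact natural_of_reaches hch (hlay'.chief hle) hlay' hN hL
  obtain ⟨F', _, _, hcard, hlay, -⟩ := exists_layer_V h hd
  have hQ : Reaches U W (pCore p G) := reaches_of_le hU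
  have hV : Reaches U W (vQ p G) → IsNaturalSL2Module F (U.map (QuotientGroup.mk' W))
      (⊤ : Subgroup (G ⧸ W)) := by
    intro hV
    refine key (inf_le_left : vQ p G ⊓ Subgroup.center G ≤ _) ⟨F', _, _, hcard, hlay⟩ hV fun hc => ?_
    have h0 := reaches_of_iter hch hnc hc (iter_center h hd).le
    exact hch.1.not_ge (h0.trans (sup_le le_rfl (inf_le_right.trans bot_le)))
  rcases (main h hd).2 with ⟨A, o⟩ | ⟨E, t⟩
  · obtain ⟨k, hk⟩ := o.hyper h hd
    exact hV (reaches_of_iter hch hnc hQ hk)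
  · have := t.normal
    by_cases hE : Reaches U W E
    · obtain ⟨k, hk⟩ := t.hyper
      exact hV (reaches_of_iter hch hnc hE hk)
    · exact key t.le' t.layer hQ hE

end Cfsg.Agent.PushingUp
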