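import Cfsg.Agent.Lib.PushingUp.RankOne
import Cfsg.Agent.Lib.Offender.Factorization
import Cfsg.Agent.Lib.Coprime.Commutator

/-!
# The setting for pushing up in rank one

`Hyp p S M`: `C(O_p(G)) ≤ O_p(G)`, `S` lies only in the maximal subgroup `M`, `S / O_p(G)` is elementary
abelian and `N(S)` acts irreducibly on it.

* `exists_hyp`: this holds when `G / K ≅ PSL₂(p^n)`
* `sup_eq_top`, `inf_le_pCore`, `normalizer_le`, `gen`, `mem_center_of_centralized`
-/

set_option autoImplicit false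

namespace Cfsg.Agent.PushingUp

open Subgroup
open scoped commutatorElement

variable {G : Type*} [Group G] {p : ℕ}

/-- The hypotheses. -/
structure Hyp (p : ℕ) (S : Sylow p G) (M : Subgroup G) : Prop where
  cent : centralizer (pCore p G : Set G) ≤ pCore p G
  ne_top : M ≠ ⊤
  SM : (S : Subgroup G) ≤ M
  uniq : ∀ X : Subgroup G, (S : Subgroup G) ≤ X → X ≠ ⊤ → X ≤ M
  comm : ∀ a ∈ (S : Subgroup G), ∀ b ∈ (S : Subgroup G), ⁅a, b⁆ ∈ pCore p G
  pow : ∀ s ∈ (S : Subgroup G), s ^ p ∈ pCore p G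
  irred : ∀ B : Subgroup G, pCore p G ≤ B → B ≤ (S : Subgroup G) →
    normalizer ((S : Subgroup G) : Set G) ≤ normalizer (B : Set G) →
    B = pCore p G ∨ B = (S : Subgroup G)
  not_le : ¬ (S : Subgroup G) ≤ pCore p G

variable [Finite G] [Fact p.Prime]

/-- A normal subgroup inside the only maximal subgroup over `S` meets `S` in `O_p(G)`. -/
theorem inf_le_pCore_of_uniq {S : Sylow p G} {M : Subgroup G} (hne : M ≠ ⊤)
    (huniq : ∀ X : Subgroup G, (S : Subgroup G) ≤ X → X ≠ ⊤ → X ≤ M)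
    {N : Subgroup G} [hN : N.Normal] (hNM : N ≤ M) : (S : Subgroup G) ⊓ N ≤ pCore p G := by
  obtain ⟨P, hP⟩ := Offender.exists_sylow_eq_inf S N
  have hfr := Sylow.normalizer_sup_eq_top P
  rw [hP] at hfr
  have hSn : (S : Subgroup G) ≤ normalizer (((S : Subgroup G) ⊓ N : Subgroup G) : Set G) := by
    refine fun s hs => mem_normalizer_iff.mpr fun x => ⟨fun hx => ?_, fun hx => ?_⟩
    · exact mem_inf.mpr ⟨mul_mem (mul_mem hs hx.1) (inv_mem hs), hN.conj_mem x hx.2 s⟩
    · have h1 : s⁻¹ * (s * x * s⁻¹) * s⁻¹⁻¹ ∈ (S : Subgroup G) ⊓ N :=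
        mem_inf.mpr ⟨mul_mem (mul_mem (inv_mem hs) hx.1) (inv_mem (inv_mem hs)), hN.conj_mem _ hx.2 s⁻¹⟩
      rwa [show s⁻¹ * (s * x * s⁻¹) * s⁻¹⁻¹ = x by group] at h1
  have htop : normalizer (((S : Subgroup G) ⊓ N : Subgroup G) : Set G) = ⊤ := by
    by_contra hc
    exact hne (top_le_iff.mp (hfr.ge.trans (sup_le (huniq _ hSn hc) hNM)))
  exact PCore.le_pCore (hN := normalizer_eq_top_iff.mp htop) (S.2.to_le inf_le_left)

/-- The hypotheses hold when `G / K ≅ PSL₂(p^n)`. -/
theorem exists_hyp {F : Type*} [Field F] [Fintype F] {n : ℕ} (S : Sylow p G)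
    (hE₁ : centralizer (pCore p G : Set G) ≤ pCore p G)
    (hE₂ : ∃! M : Subgroup G, IsCoatom M ∧ (S : Subgroup G) ≤ M) (K : Subgroup G) [K.Normal]
    (hF : Fintype.card F = p ^ n)
    (hE₃ : Nonempty (G ⧸ K ≃* Matrix.ProjectiveSpecialLinearGroup (Fin 2) F)) :
    ∃ M : Subgroup G, Hyp p S M := by
  obtain ⟨e⟩ := hE₃
  obtain ⟨M, ⟨hM, hSM⟩, hu⟩ := hE₂
  have : CharP F p := charP_of_card_eq_prime_pow hF
  obtain ⟨θ, hθ, hker, hSθ⟩ := exists_adapted hF S (e.toMonoidHom.comp (QuotientGroup.mk' K))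
    (e.surjective.comp (QuotientGroup.mk'_surjective K))
  have hkerK : θ.ker = K := by
    rw [hker]
    ext x
    rw [MonoidHom.mem_ker, MonoidHom.comp_apply]
    exact (map_eq_one_iff _ e.injective).trans (QuotientGroup.eq_one_iff x)
  have huniq : ∀ X : Subgroup G, (S : Subgroup G) ≤ X → X ≠ ⊤ → X ≤ M := fun X hX hne => by
    obtain ⟨C, hC, hXC⟩ := (eq_top_or_exists_le_coatom X).resolve_left hne
    exact (hu C ⟨hC, hX.trans hXC⟩) ▸ hXC
  have hQK : pCore p G ≤ K := by
    have hn : ((pCore p G).map θ).Normal := PCore.pCore_normal.map θ hθ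
    rcases uniP_eq_bot_or (hSθ ▸ map_mono (PCore.pCore_le_sylow S))
      (le_top.trans (normalizer_eq_top_iff.mpr hn).ge) with h | h
    · rw [Subgroup.map_eq_bot_iff, hkerK] at h
      exact h
    · exact absurd (h ▸ hn) not_normal_uniP
  have hKM : K ≤ M := by
    by_contra hc
    have htop : K ⊔ (S : Subgroup G) = ⊤ := by
      by_contra hne
      exact hc (le_sup_left.trans (huniq _ le_sup_right hne))
    have h := congrArg (Subgroup.map θ) htop
    rw [Subgroup.map_sup, hSθ, (Subgroup.map_eq_bot_iff K).mpr hkerK.ge, bot_sup_eq,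
      map_top_of_surjective θ hθ] at h
    refine not_normal_uniP (F := F) ?_
    rw [h]
    infer_instance
  have hSK : ∀ s ∈ (S : Subgroup G), θ s = 1 → s ∈ pCore p G := fun s hs h1 =>
    inf_le_pCore_of_uniq hM.1 huniq hKM ⟨hs, hkerK.le (MonoidHom.mem_ker.mpr h1)⟩
  have hmem : ∀ s ∈ (S : Subgroup G), θ s ∈ uniP F := fun s hs => hSθ ▸ mem_map_of_mem θ hs
  refine ⟨M, hE₁, hM.1, hSM, huniq, fun a ha b hb => ?_, fun s hs => ?_, fun B hQB hBS hB => ?_,
    fun hc => ?_⟩
  · refine hSK _ (mul_mem (mul_mem (mul_mem ha hb) (inv_mem ha)) (inv_mem hb)) ?_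
    rw [map_commutatorElement]
    exact commutatorElement_eq_one_iff_mul_comm.mpr (comm_uniP (hmem a ha) (hmem b hb))
  · exact hSK _ (pow_mem hs p) (by rw [map_pow]; exact pow_uniP (hmem s hs))
  · have hle : B.map θ ≤ uniP F := hSθ ▸ map_mono hBS
    have hn : normalizer (uniP F : Set (Matrix.ProjectiveSpecialLinearGroup (Fin 2) F)) ≤
        normalizer (B.map θ : Set (Matrix.ProjectiveSpecialLinearGroup (Fin 2) F)) := by
      intro y hy
      rw [← hSθ] at hy
      obtain ⟨x, hx, rfl⟩ := exists_normalizer_lift hθ S hy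
      exact le_normalizer_map θ ⟨x, hB hx, rfl⟩
    rcases uniP_eq_bot_or hle hn with h | h
    · left
      rw [Subgroup.map_eq_bot_iff] at h
      exact le_antisymm (fun b hb => hSK b (hBS hb) (MonoidHom.mem_ker.mp (h hb))) hQB
    · right
      refine le_antisymm hBS fun s hs => ?_
      obtain ⟨b, hb, e'⟩ : θ s ∈ B.map θ := h ▸ hmem s hs
      have h1 := hSK (b⁻¹ * s) (mul_mem (inv_mem (hBS hb)) hs)
        (by rw [map_mul, map_inv, e', inv_mul_cancel])
      have h2 := mul_mem hb (hQB h1)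
      rwa [mul_inv_cancel_left] at h2
  · refine not_normal_uniP (F := F) ?_
    rw [← hSθ, (Subgroup.map_eq_bot_iff _).mpr ((hc.trans hQK).trans hkerK.ge)]
    infer_instance

namespace Hyp

variable {S : Sylow p G} {M : Subgroup G} (h : Hyp p S M)
include h

omit [Finite G] [Fact p.Prime] in
theorem sup_eq_top {N : Subgroup G} (hN : ¬ N ≤ M) : N ⊔ (S : Subgroup G) = ⊤ := by
  by_contra hne
  exact hN (le_sup_left.trans (h.uniq _ le_sup_right hne))

theorem inf_le_pCore {N : Subgroup G} [N.Normal] (hNM : N ≤ M) :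
    (S : Subgroup G) ⊓ N ≤ pCore p G := inf_le_pCore_of_uniq h.ne_top h.uniq hNM

theorem inf_eq_inf_pCore {N : Subgroup G} [N.Normal] (hNM : N ≤ M) :
    (S : Subgroup G) ⊓ N = pCore p G ⊓ N :=
  le_antisymm (le_inf (h.inf_le_pCore hNM) inf_le_right) (inf_le_inf_right _ (PCore.pCore_le_sylow S))

theorem inf_normal {N : Subgroup G} [N.Normal] (hNM : N ≤ M) : ((S : Subgroup G) ⊓ N).Normal := by
  rw [h.inf_eq_inf_pCore hNM]
  infer_instance

omit [Finite G] [Fact p.Prime] in
theorem not_normal : ¬ (S : Subgroup G).Normal := fun hn =>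
  h.not_le (PCore.le_pCore (hN := hn) S.2)

omit [Finite G] [Fact p.Prime] in
theorem normalizer_le : normalizer ((S : Subgroup G) : Set G) ≤ M :=
  h.uniq _ le_normalizer fun e => h.not_normal (normalizer_eq_top_iff.mp e)

theorem gen {x : G} (hx : x ∉ M) :
    (S : Subgroup G) ⊔ (S : Subgroup G).map (MulAut.conj x).toMonoidHom = ⊤ := by
  by_contra hne
  have hle := h.uniq _ le_sup_left hne
  have hxS : ((x • S : Sylow p G) : Subgroup G) ≤ M := le_sup_right.trans hle
  obtain ⟨m, hm⟩ := MulAction.exists_smul_eq ↥M (S.subtype h.SM) ((x • S).subtype hxS)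
  rw [Sylow.smul_subtype] at hm
  have e : (m : G) • S = x • S := Sylow.subtype_injective hm
  have hn : (m : G)⁻¹ * x ∈ normalizer ((S : Subgroup G) : Set G) :=
    Sylow.smul_eq_iff_mem_normalizer.mp (by rw [mul_smul, ← e, inv_smul_smul])
  have := mul_mem m.2 (h.normalizer_le hn)
  rw [mul_inv_cancel_left] at this
  exact hx this

/-- An element centralised by `S` and by the `p'`-elements of a normal `C ≰ M` is central. -/
theorem mem_center_of_centralized {C : Subgroup G} [C.Normal] (hC : ¬ C ≤ M) {z : G}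
    (hS : ∀ s ∈ (S : Subgroup G), s * z = z * s)
    (hz : ∀ x ∈ C, (orderOf x).Coprime p → x * z = z * x) : z ∈ Subgroup.center G := by
  have hmem : ∀ g : G, g ∈ centralizer ({z} : Set G) ↔ z * g = g * z := fun g => by
    rw [mem_centralizer_iff]; simp
  have hSZ : (S : Subgroup G) ≤ centralizer ({z} : Set G) := fun s hs =>
    (hmem s).mpr (hS s hs).symm
  have hCZ : C ≤ centralizer ({z} : Set G) := by
    set D := C ⊓ centralizer ({z} : Set G) with hD
    suffices e : D = C from e.ge.trans inf_le_right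
    refine eq_of_le_of_card_ge inf_le_left (Nat.le_of_dvd Nat.card_pos ?_)
    refine (Nat.dvd_iff_prime_pow_dvd_dvd _ _).mpr fun r k hr hrk => ?_
    have := Fact.mk hr
    by_cases hrp : r = p
    · subst hrp
      obtain ⟨P, hP⟩ := Offender.exists_sylow_eq_inf S C
      have h1 : Nat.card ↥((P : Subgroup C).map C.subtype) ∣ Nat.card ↥D :=
        card_dvd_of_le (hP ▸ le_inf inf_le_right (inf_le_left.trans hSZ))
      rw [card_map_of_injective C.subtype_injective, P.card_eq_multiplicity] at h1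
      exact (pow_dvd_pow r ((Nat.Prime.pow_dvd_iff_le_factorization hr Nat.card_pos.ne').mp hrk)).trans h1
    · obtain ⟨R, hR⟩ := Sylow.exists_subgroup_card_pow_prime r hrk
      have hle : R.map C.subtype ≤ D := by
        rintro _ ⟨x, hx, rfl⟩
        refine ⟨x.2, (hmem _).mpr (hz x x.2 ?_).symm⟩
        rw [orderOf_coe]
        refine Nat.Coprime.coprime_dvd_left ?_ (Nat.Coprime.pow_left k ((Nat.coprime_primes hr Fact.out).mpr hrp))
        rw [← hR]
        exact Subgroup.orderOf_dvd_natCard R hx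
      have := card_dvd_of_le hle
      rwa [card_map_of_injective C.subtype_injective, hR] at this
  refine Subgroup.mem_center_iff.mpr fun g => ((hmem g).mp ?_).symm
  exact sup_le hCZ hSZ ((h.sup_eq_top hC).ge (mem_top g))

end Hyp

end Cfsg.Agent.PushingUp
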