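import Cfsg.Agent.Lib.CLarge.Basic
import Cfsg.Agent.Lib.PGroup.Frattini
import Cfsg.Agent.Lib.PGroup.ElementaryAbelian
import Cfsg.Agent.S3007

/-!
# Transporting centrally large subgroups along injective homomorphisms

* `phiSub H`: `Φ(H)` in the ambient group, with `phiSub_le`, `phiSub_map`, `phiSub_sup`
* `isCentrallyLarge_map`, `isMinimalCentrallyLarge_map`, `card_omegaOneCenter_map`
-/

set_option autoImplicit false

namespace Cfsg.Agent.PushingUp

open Subgroup
open scoped commutatorElement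

variable {K P : Type*} [Group K] [Group P] {p : ℕ}

/-- `Φ(H)` inside the ambient group. -/
def phiSub (H : Subgroup P) : Subgroup P := (frattini ↥H).map H.subtype

theorem commutator_mem_phiSub [Finite P] [Fact p.Prime] {H : Subgroup P} (hH : IsPGroup p ↥H)
    {a b : P} (ha : a ∈ H) (hb : b ∈ H) : ⁅a, b⁆ ∈ phiSub H :=
  ⟨⁅(⟨a, ha⟩ : ↥H), (⟨b, hb⟩ : ↥H)⁆, PGroup.commutator_le_frattini hH
    (commutator_mem_commutator (mem_top _) (mem_top _)), rfl⟩

theorem pow_mem_phiSub [Finite P] [Fact p.Prime] {H : Subgroup P} (hH : IsPGroup p ↥H)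
    {a : P} (ha : a ∈ H) : a ^ p ∈ phiSub H :=
  ⟨(⟨a, ha⟩ : ↥H) ^ p, PGroup.pow_mem_frattini hH _, rfl⟩

theorem phiSub_le [Finite P] [Fact p.Prime] {H N : Subgroup P}
    (hc : ∀ a ∈ H, ∀ b ∈ H, ⁅a, b⁆ ∈ N) (hp : ∀ a ∈ H, a ^ p ∈ N) : phiSub H ≤ N := by
  refine map_le_iff_le_comap.mpr (PGroup.frattini_le (p := p) ?_ fun a => hp a a.2)
  exact commutator_le.mpr fun a _ b _ => hc a a.2 b b.2

theorem phiSub_map [Finite K] [Finite P] [Fact p.Prime] {f : K →* P} {H : Subgroup K} (hH : IsPGroup p ↥H) :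
    phiSub (H.map f) = (phiSub H).map f := by
  refine le_antisymm (phiSub_le (p := p) ?_ ?_) (map_le_iff_le_comap.mpr (phiSub_le (p := p)
    (fun a ha b hb => ?_) fun a ha => ?_))
  · rintro _ ⟨a, ha, rfl⟩ _ ⟨b, hb, rfl⟩
    rw [← map_commutatorElement]
    exact mem_map_of_mem f (commutator_mem_phiSub hH ha hb)
  · rintro _ ⟨a, ha, rfl⟩
    rw [← map_pow]
    exact mem_map_of_mem f (pow_mem_phiSub hH ha)
  · rw [mem_comap, map_commutatorElement]
    exact commutator_mem_phiSub (hH.map f) (mem_map_of_mem f ha) (mem_map_of_mem f hb)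
  · rw [mem_comap, map_pow]
    exact pow_mem_phiSub (hH.map f) (mem_map_of_mem f ha)

/-- `Φ(H O) = Φ(H)` for `O` elementary abelian centralising `H`. -/
theorem phiSub_sup [Finite P] [Fact p.Prime] {H O : Subgroup P} (hHO : IsPGroup p ↥(H ⊔ O : Subgroup P))
    (hO : IsElementaryAbelian p O) (hc : O ≤ centralizer (H : Set P)) : phiSub (H ⊔ O) = phiSub H := by
  have hH : IsPGroup p ↥H := hHO.to_le le_sup_left
  refine le_antisymm (phiSub_le (p := p) ?_ ?_) (phiSub_le (p := p)
    (fun a ha b hb => commutator_mem_phiSub hHO (mem_sup_left ha) (mem_sup_left hb))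
    fun a ha => pow_mem_phiSub hHO (mem_sup_left ha))
  · intro x hx y hy
    obtain ⟨a, ha, o, ho, rfl⟩ := CLarge.exists_mul_of_commute hc hx
    obtain ⟨b, hb, o', ho', rfl⟩ := CLarge.exists_mul_of_commute hc hy
    have h1 : b * o = o * b := hc ho b hb
    have h2 : a * o' = o' * a := hc ho' a ha
    have h3 : o * o' = o' * o := PGroup.mul_comm_of_elementaryAbelian hO ho ho'
    have h4 : o' * (a⁻¹ * b⁻¹) = a⁻¹ * b⁻¹ * o' := (hc ho' _ (mul_mem (inv_mem ha) (inv_mem hb))).symm
    have e : ⁅a * o, b * o'⁆ = ⁅a, b⁆ := by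
      calc ⁅a * o, b * o'⁆ = a * (o * b) * o' * o⁻¹ * a⁻¹ * o'⁻¹ * b⁻¹ := by rw [commutatorElement_def]; group
        _ = a * b * (o * o') * o⁻¹ * a⁻¹ * o'⁻¹ * b⁻¹ := by rw [← h1]; group
        _ = a * b * o' * a⁻¹ * o'⁻¹ * b⁻¹ := by rw [h3]; group
        _ = a * b * o' * (a⁻¹ * o'⁻¹) * b⁻¹ := by group
        _ = a * b * o' * (o'⁻¹ * a⁻¹) * b⁻¹ := by rw [← mul_inv_rev, ← h2, mul_inv_rev]
        _ = ⁅a, b⁆ := by rw [commutatorElement_def]; group
    rw [e]
    exact commutator_mem_phiSub hH ha hb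
  · intro x hx
    obtain ⟨a, ha, o, ho, rfl⟩ := CLarge.exists_mul_of_commute hc hx
    rw [(show Commute a o from hc ho a ha).mul_pow, hO.2 o ho, mul_one]
    exact pow_mem_phiSub hH ha

theorem card_inf_centralizer_map {f : K →* P} (hf : Function.Injective f) (R : Subgroup K) :
    Nat.card ↥(R.map f ⊓ centralizer (R.map f : Set P)) = Nat.card ↥(R ⊓ centralizer (R : Set K)) := by
  rw [← CLarge.card_center_eq, ← CLarge.card_center_eq]
  exact (Nat.card_congr (Subgroup.centerCongr (R.equivMapOfInjective f hf)).toEquiv).symm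

theorem card_mul_center_map {f : K →* P} (hf : Function.Injective f) (R : Subgroup K) :
    Nat.card ↥(R.map f) * Nat.card ↥(center ↥(R.map f)) = Nat.card ↥R * Nat.card ↥(center ↥R) := by
  rw [card_map_of_injective hf, CLarge.card_center_eq, CLarge.card_center_eq, card_inf_centralizer_map hf]

theorem isCentrallyLarge_map {f f' : K →* P} (hf : Function.Injective f) (hf' : Function.Injective f')
    {R : Subgroup K} (hR : IsCentrallyLarge (R.map f)) : IsCentrallyLarge (R.map f') := by
  rw [IsCentrallyLarge, card_mul_center_map hf', ← card_mul_center_map hf]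
  exact hR

theorem isMinimalCentrallyLarge_map {f f' : K →* P} (hf : Function.Injective f)
    (hf' : Function.Injective f') {R : Subgroup K} (hR : IsMinimalCentrallyLarge (R.map f)) :
    IsMinimalCentrallyLarge (R.map f') := by
  refine ⟨isCentrallyLarge_map hf hf' hR.1, fun X hX hXc => ?_⟩
  have e : (X.comap f').map f' = X := map_comap_eq_self (hX.trans (map_le_range _ _))
  have h1 : X.comap f' ≤ R := (comap_mono hX).trans (comap_map_eq_self_of_injective hf' R).le
  rw [← e] at hXc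
  have h2 := hR.2 _ (map_mono h1) (isCentrallyLarge_map hf' hf hXc)
  rw [← e, map_injective hf h2]

theorem card_omegaOneCenter_map {f : K →* P} (hf : Function.Injective f) (R : Subgroup K) :
    Nat.card ↥(omegaOneCenter p (R.map f)) = Nat.card ↥(omegaOneCenter p R) := by
  have e : R.map f ⊓ centralizer (R.map f : Set P) = (R ⊓ centralizer (R : Set K)).map f := by
    refine le_antisymm ?_ ?_
    · rintro _ ⟨⟨x, hx, rfl⟩, hxc⟩
      exact mem_map_of_mem f ⟨hx, fun y hy => hf (by
        rw [map_mul, map_mul]; exact hxc _ (mem_map_of_mem f hy))⟩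
    · rintro _ ⟨x, hx, rfl⟩
      refine ⟨mem_map_of_mem f hx.1, ?_⟩
      rintro _ ⟨y, hy, rfl⟩
      rw [← map_mul, ← map_mul, hx.2 y hy]
  rw [omegaOneCenter, e, ← PGroup.map_omegaOne_of_injective hf, card_map_of_injective hf]
  rfl

theorem commutator_map_equiv [Finite P] [Fact p.Prime] (hP : IsPGroup p P) {Q : Subgroup P}
    (hQ : IsMinimalCentrallyLarge Q) : (⁅Q, Q⁆).Characteristic := by
  refine characteristic_iff_map_eq.mpr fun φ => ?_
  have h : IsMinimalCentrallyLarge (Q.map φ.toMonoidHom) :=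
    isMinimalCentrallyLarge_map (f := MonoidHom.id P) (f' := φ.toMonoidHom) Function.injective_id φ.injective
      (by rwa [Subgroup.map_id])
  rw [Subgroup.map_commutator]
  exact (S3007.result P hP _ _ h hQ).2.1

end Cfsg.Agent.PushingUp
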