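import Cfsg.Agent.Lib.PushingUp.Baumann
import Cfsg.Agent.Lib.PushingUp.LargeTransport
import Cfsg.Agent.Lib.PushingUp.Ambient

/-!
# Centrally large subgroups in the pushing-up situation

For `S` centralising `Z(J(S))` and `Z(S)` not normal in `G`:

* `Hyp.push`, `Hyp.push_min`: a centrally large `R` gives the centrally large `(R ∩ O_p(G)) V`
* `Hyp.minimalJoin_or`: `Z(S) ∩ [R, R]` or `S_MCL` is normal
* `Hyp.frattiniJoin_normal`: `S_Φ` is normal
-/

set_option autoImplicit false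
set_option linter.unusedSectionVars false

namespace Cfsg.Agent.PushingUp

open Subgroup
open scoped commutatorElement

universe u

variable {G : Type u} [Group G] [Finite G] {p : ℕ} [Fact p.Prime] {S : Sylow p G} {M : Subgroup G}

/-- `O_p(G)` inside `S`. -/
abbrev qS (S : Sylow p G) : Subgroup ↥(S : Subgroup G) := (pCore p G).subgroupOf (S : Subgroup G)

/-- `V` inside `S`. -/
abbrev vS (S : Sylow p G) : Subgroup ↥(S : Subgroup G) := (vQ p G).subgroupOf (S : Subgroup G)

/-- `O_p(G) → S`. -/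
abbrev qIncl (S : Sylow p G) : ↥(pCore p G) →* ↥(S : Subgroup G) :=
  Subgroup.inclusion (PCore.pCore_le_sylow S)

omit [Fact p.Prime] in
theorem qIncl_injective : Function.Injective (qIncl S) := Subgroup.inclusion_injective _

/-- A join over a conjugation-invariant family of subgroups of `O_p(G)` is normal. -/
theorem normal_join (Pf : Set (Subgroup ↥(S : Subgroup G))) (hle : ∀ R ∈ Pf, R ≤ qS S)
    (hPf : ∀ (R₀ : Subgroup ↥(pCore p G)) (f f' : ↥(pCore p G) →* ↥(S : Subgroup G)),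
      Function.Injective f → Function.Injective f' → f.range ≤ qS S → f'.range ≤ qS S →
      R₀.map f ∈ Pf → R₀.map f' ∈ Pf)
    (Φ : Subgroup ↥(S : Subgroup G) → Subgroup ↥(S : Subgroup G))
    (Φ₀ : Subgroup ↥(pCore p G) → Subgroup ↥(pCore p G))
    (hΦ : ∀ (R₀ : Subgroup ↥(pCore p G)) (f : ↥(pCore p G) →* ↥(S : Subgroup G)),
      Function.Injective f → Φ (R₀.map f) = (Φ₀ R₀).map f) :
    ((⨆ R ∈ Pf, Φ R).map (S : Subgroup G).subtype).Normal := by
  refine normalizer_eq_top_iff.mp (top_le_iff.mp fun g _ => PGroup.mem_normalizer_of_map_conj_eq ?_)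
  refine eq_of_le_of_card_ge ?_ (card_cj g _).ge
  rw [Subgroup.map_map, Subgroup.map_iSup]
  refine iSup_le fun R => ?_
  rw [Subgroup.map_iSup]
  refine iSup_le fun hR => ?_
  have hrange : (qIncl S).range = qS S := Subgroup.inclusion_range _
  have e : (R.comap (qIncl S)).map (qIncl S) = R := map_comap_eq_self (hrange ▸ hle R hR)
  have hn : (pCore p G).Normal := PCore.pCore_normal
  set α : MulAut ↥(pCore p G) := MulAut.conjNormal g
  set f' : ↥(pCore p G) →* ↥(S : Subgroup G) := (qIncl S).comp α.toMonoidHom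
  have hf' : Function.Injective f' := qIncl_injective.comp α.injective
  have hR' : (R.comap (qIncl S)).map f' ∈ Pf := hPf _ (qIncl S) f' qIncl_injective hf' hrange.le
    (by rw [← hrange, MonoidHom.range_comp]; exact map_le_range _ _) (by rwa [e])
  refine le_trans (le_of_eq ?_) (Subgroup.map_mono (le_iSup₂_of_le _ hR' le_rfl))
  rw [hΦ _ f' hf', ← e, hΦ _ _ qIncl_injective, Subgroup.map_map, Subgroup.map_map, e]
  congr 1

namespace Hyp

variable (h : Hyp p S M)
include h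

/-- The action on `V` when `Z(S)` is not normal and `S` centralises `Z(J(S))`. -/
theorem act_of_not_normal
    (hZn : ¬ ((S : Subgroup G) ⊓ centralizer ((S : Subgroup G) : Set G)).Normal)
    (hJ : (S : Subgroup G) ≤ centralizer (centerThompsonAOf (S : Subgroup G) : Set G)) :
    Act p S M (vQ p G) ∧ centralizer (vQ p G : Set G) ≤ M := by
  have hV : centralizer (vQ p G : Set G) ≤ M :=
    by_contra fun hc => hZn (normal_of_le_center (h.mem_center_of_not_le hc))
  have hJQ : ¬ thompsonSubgroupAOf (S : Subgroup G) ≤ pCore p G := fun hJQ =>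
    (h.of_thompson_le hJQ).elim (fun hz => hZn (normal_of_le_center hz))
      (fun hn => h.not_normal (by rwa [inf_eq_left.mpr hJ] at hn))
  obtain ⟨A₁, hA₁, hne⟩ : ∃ A, PGroup.IsMaxAb (S : Subgroup G) A ∧ ¬ A ≤ pCore p G := by
    by_contra hc
    push Not at hc
    exact hJQ (by rw [PGroup.thompsonSubgroupAOf_eq]; exact sSup_le hc)
  exact ⟨h.act hV hA₁ hne, hV⟩

/-- A normal `Z(S)` is central. -/
theorem center_of_normal (hZn : ((S : Subgroup G) ⊓ centralizer ((S : Subgroup G) : Set G)).Normal) :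
    (S : Subgroup G) ⊓ centralizer ((S : Subgroup G) : Set G) ≤ Subgroup.center G := by
  set Zs := (S : Subgroup G) ⊓ centralizer ((S : Subgroup G) : Set G)
  have hS : (S : Subgroup G) ≤ centralizer (Zs : Set G) := le_centralizer_iff.mp inf_le_right
  have : (centralizer (Zs : Set G)).Normal := normal_centralizer
  have hM : ¬ centralizer (Zs : Set G) ≤ M := fun hc => h.not_le fun s hs => h.inf_le_pCore hc ⟨hs, hS hs⟩
  have htop := h.sup_eq_top hM
  rw [sup_eq_left.mpr hS] at htop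
  exact fun z hz => Subgroup.mem_center_iff.mpr fun g => ((htop.ge (mem_top g)) z hz).symm

variable (hA : Act p S M (vQ p G)) (hV : centralizer (vQ p G : Set G) ≤ M)
include hA hV

omit hA hV in
theorem qS_le_centralizer_vS : qS S ≤ centralizer (vS S : Set ↥(S : Subgroup G)) := fun _ hq _ hv =>
  Subtype.ext (pCore_le_centralizer_vQ (mem_subgroupOf.mp hq) _ (mem_subgroupOf.mp hv))

omit hA hV in
theorem vS_le_qS : vS S ≤ qS S := fun _ hv => h.vQ_le_pCore hv

omit hV in
theorem vS_elem : IsElementaryAbelian p (vS S) :=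
  PGroup.isElementaryAbelian_comap hA.elem (S : Subgroup G).subtype_injective

theorem act_le (R : Subgroup ↥(S : Subgroup G)) :
    Nat.card ↥R * Nat.card ↥(vS S ⊓ centralizer (R : Set ↥(S : Subgroup G))) ≤
      Nat.card ↥(vS S) * Nat.card ↥(R ⊓ qS S) := by
  set f := (S : Subgroup G).subtype
  have hf : Function.Injective f := Subgroup.subtype_injective _
  have eV : (vS S).map f = vQ p G := map_subgroupOf_eq_of_le h.vQ_le_sylow
  have eQ : (qS S).map f = pCore p G := map_subgroupOf_eq_of_le (PCore.pCore_le_sylow S)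
  have e := hA.card_le (map_subtype_le R)
  rw [show R.map f ⊓ centralizer (vQ p G : Set G) = (R ⊓ qS S).map f by
    rw [Subgroup.map_inf _ _ f hf, eQ]
    refine le_antisymm (fun x hx => ⟨hx.1, (h.inf_centralizer_vQ hV).le ⟨map_subtype_le R hx.1, hx.2⟩⟩)
      (inf_le_inf_left _ pCore_le_centralizer_vQ), ← eV, ← map_inf_centralizer f hf,
    card_map_of_injective hf, card_map_of_injective hf, card_map_of_injective hf,
    card_map_of_injective hf] at e
  exact e

/-- A centrally large subgroup pushed into `O_p(G)`. -/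
theorem push {R : Subgroup ↥(S : Subgroup G)} (hR : IsCentrallyLarge R) :
    IsCentrallyLarge ((R ⊓ qS S) ⊔ vS S) ∧
    centralizer (((R ⊓ qS S) ⊔ vS S : Subgroup ↥(S : Subgroup G)) : Set ↥(S : Subgroup G)) =
      (centralizer (R : Set ↥(S : Subgroup G)) ⊓ qS S) ⊔ vS S ∧
    Nat.card ↥R * Nat.card ↥((centralizer (R : Set ↥(S : Subgroup G)) ⊓ qS S) ⊓ vS S) =
      Nat.card ↥(vS S) * Nat.card ↥(R ⊓ qS S) ∧
    Nat.card ↥(centralizer (R : Set ↥(S : Subgroup G))) * Nat.card ↥((R ⊓ qS S) ⊓ vS S) =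
      Nat.card ↥(vS S) * Nat.card ↥(centralizer (R : Set ↥(S : Subgroup G)) ⊓ qS S) := by
  obtain ⟨hRm, hZR⟩ := CLarge.isCentrallyLarge_iff.mp hR
  set Z := centralizer (R : Set ↥(S : Subgroup G))
  set R₀ := R ⊓ qS S
  set Z₀ := Z ⊓ qS S
  set V := vS S
  have hcV : ∀ {X : Subgroup ↥(S : Subgroup G)}, X ≤ qS S → X ≤ centralizer (V : Set ↥(S : Subgroup G)) :=
    fun hX => hX.trans h.qS_le_centralizer_vS
  have hVC : V ≤ centralizer (V : Set ↥(S : Subgroup G)) := hcV h.vS_le_qS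
  have hle : Z₀ ⊔ V ≤ centralizer ((R₀ ⊔ V : Subgroup ↥(S : Subgroup G)) : Set ↥(S : Subgroup G)) := by
    rw [CLarge.centralizer_sup]
    exact le_inf (sup_le (inf_le_left.trans (centralizer_le inf_le_left))
      (le_centralizer_iff.mp (hcV inf_le_right))) (sup_le (hcV inf_le_right) hVC)
  have n1 := Offender.card_sup_mul_card_inf ((hcV (inf_le_right : R₀ ≤ qS S)).trans (centralizer_le_normalizer _))
  have n2 := Offender.card_sup_mul_card_inf ((hcV (inf_le_right : Z₀ ≤ qS S)).trans (centralizer_le_normalizer _))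
  have a1 : Nat.card ↥R * Nat.card ↥(Z₀ ⊓ V) ≤ Nat.card ↥V * Nat.card ↥R₀ := by
    refine le_trans (Nat.mul_le_mul_left _ (card_le_of_le ?_)) (h.act_le hA hV R)
    exact fun x hx => ⟨hx.2, hx.1.1⟩
  have a2 : Nat.card ↥Z * Nat.card ↥(R₀ ⊓ V) ≤ Nat.card ↥V * Nat.card ↥Z₀ := by
    refine le_trans (Nat.mul_le_mul_left _ (card_le_of_le ?_)) (h.act_le hA hV Z)
    exact le_inf inf_le_right (inf_le_left.trans (inf_le_left.trans (CLarge.le_centralizer_centralizer' R)))
  have a3 : Nat.card ↥(R₀ ⊔ V : Subgroup ↥(S : Subgroup G)) * Nat.card ↥(Z₀ ⊔ V : Subgroup ↥(S : Subgroup G)) ≤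
      Nat.card ↥(R₀ ⊔ V : Subgroup ↥(S : Subgroup G)) *
        Nat.card ↥(centralizer ((R₀ ⊔ V : Subgroup ↥(S : Subgroup G)) : Set ↥(S : Subgroup G))) :=
    Nat.mul_le_mul_left _ (card_le_of_le hle)
  have a4 := CLarge.le_maxCentralizerProduct (R₀ ⊔ V)
  rw [IsCentralizerLarge] at hRm
  rw [← hRm] at a4
  set r := Nat.card ↥R
  set z := Nat.card ↥Z
  set v := Nat.card ↥V
  set r₀ := Nat.card ↥R₀
  set z₀ := Nat.card ↥Z₀
  set i := Nat.card ↥(R₀ ⊓ V)
  set j := Nat.card ↥(Z₀ ⊓ V)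
  set a := Nat.card ↥(R₀ ⊔ V : Subgroup ↥(S : Subgroup G))
  set b := Nat.card ↥(Z₀ ⊔ V : Subgroup ↥(S : Subgroup G))
  set b' := Nat.card ↥(centralizer ((R₀ ⊔ V : Subgroup ↥(S : Subgroup G)) : Set ↥(S : Subgroup G)))
  have hij : 0 < i * j := Nat.mul_pos Nat.card_pos Nat.card_pos
  have t : (v * r₀) * (v * z₀) = (a * b) * (i * j) :=
    calc (v * r₀) * (v * z₀) = (r₀ * v) * (z₀ * v) := by ring
      _ = (a * i) * (b * j) := by rw [← n1, ← n2]
      _ = _ := by ring
  have t1 : (r * j) * (z * i) ≤ (v * r₀) * (v * z₀) := Nat.mul_le_mul a1 a2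
  have t2 : r * z ≤ a * b := Nat.le_of_mul_le_mul_right (by
    calc r * z * (i * j) = (r * j) * (z * i) := by ring
      _ ≤ _ := t1
      _ = _ := t) hij
  have e1 : a * b' = r * z := le_antisymm a4 (t2.trans a3)
  have e2 : b' = b := le_antisymm (Nat.le_of_mul_le_mul_left (e1.le.trans t2) Nat.card_pos)
    (card_le_of_le hle)
  have e3 : r * z = a * b := by rw [← e1, e2]
  have ec := (eq_of_le_of_card_ge hle e2.le).symm
  have t3 : (r * j) * (z * i) = (v * r₀) * (v * z₀) := by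
    rw [t, ← e3]; ring
  have f1 : r * j = v * r₀ := by
    refine le_antisymm a1 (Nat.le_of_mul_le_mul_right ?_ (Nat.mul_pos (Nat.card_pos (α := ↥Z))
      (Nat.card_pos (α := ↥(R₀ ⊓ V : Subgroup ↥(S : Subgroup G))))))
    rw [t3]
    exact Nat.mul_le_mul_left _ a2
  refine ⟨CLarge.isCentrallyLarge_iff.mpr ⟨CLarge.isCentralizerLarge_of_le ?_, ?_⟩, ec, f1, ?_⟩
  · show Cfsg.maxCentralizerProduct _ ≤ a * b'
    rw [e1, ← hRm]
  · rw [ec]
    exact sup_le ((inf_le_inf_right _ hZR).trans le_sup_left) le_sup_right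
  · rw [f1] at t3
    exact Nat.eq_of_mul_eq_mul_left (Nat.mul_pos Nat.card_pos Nat.card_pos) t3

/-- Some minimal centrally large subgroup lies in `O_p(G)`. -/
theorem exists_min_le : ∃ R : Subgroup ↥(S : Subgroup G), R ≤ qS S ∧ IsMinimalCentrallyLarge R := by
  obtain ⟨R, hR⟩ := CLarge.exists_isCentrallyLarge (G := ↥(S : Subgroup G))
  obtain ⟨R', hle, hR'⟩ := CLarge.exists_isMinimalCentrallyLarge_le (h.push hA hV hR).1
  exact ⟨R', hle.trans (sup_le inf_le_right h.vS_le_qS), hR'⟩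

/-- A minimal centrally large subgroup pushed into `O_p(G)`. -/
theorem push_min {R : Subgroup ↥(S : Subgroup G)} (hR : IsMinimalCentrallyLarge R) :
    IsMinimalCentrallyLarge ((R ⊓ qS S) ⊔ vS S) ∧
    (R ⊓ qS S) ⊔ centralizer (R : Set ↥(S : Subgroup G)) = R ∧
    Nat.card ↥(centralizer (R : Set ↥(S : Subgroup G))) *
        Nat.card ↥((centralizer (R : Set ↥(S : Subgroup G)) ⊓ qS S) ⊓ vS S) =
      Nat.card ↥(vS S) * Nat.card ↥(centralizer (R : Set ↥(S : Subgroup G)) ⊓ qS S) := by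
  obtain ⟨hCL, -, f1, f2⟩ := h.push hA hV hR.1
  obtain ⟨R₁, hR₁Q, hR₁⟩ := h.exists_min_le hA hV
  obtain ⟨hsup, -, -, -, -⟩ := S3007.result _ S.2 R R₁ hR hR₁
  obtain ⟨-, hZR⟩ := CLarge.isCentrallyLarge_iff.mp hR.1
  set Z := centralizer (R : Set ↥(S : Subgroup G))
  rw [inf_eq_right.mpr hZR] at hsup
  have hsup' : (R ⊓ qS S) ⊔ Z = R := le_antisymm (sup_le inf_le_left hZR)
    (hsup.ge.trans (sup_le_sup_right (inf_le_inf_left _ hR₁Q) _))
  have n0 := Offender.card_sup_mul_card_inf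
    ((le_centralizer_iff.mp (centralizer_le (inf_le_left : R ⊓ qS S ≤ R))).trans
      (centralizer_le_normalizer _) : R ⊓ qS S ≤ normalizer (Z : Set ↥(S : Subgroup G)))
  rw [hsup', inf_right_comm, inf_eq_right.mpr hZR] at n0
  have n1 := Offender.card_sup_mul_card_inf
    (((inf_le_right : R ⊓ qS S ≤ qS S).trans h.qS_le_centralizer_vS).trans (centralizer_le_normalizer _))
  set r := Nat.card ↥R
  set z := Nat.card ↥Z
  set v := Nat.card ↥(vS S)
  set r₀ := Nat.card ↥(R ⊓ qS S)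
  set z₀ := Nat.card ↥(Z ⊓ qS S)
  set i := Nat.card ↥(R ⊓ qS S ⊓ vS S)
  set j := Nat.card ↥(Z ⊓ qS S ⊓ vS S)
  set a := Nat.card ↥(R ⊓ qS S ⊔ vS S : Subgroup ↥(S : Subgroup G))
  have hr : 0 < r₀ := Nat.card_pos
  have f3 : z * j = v * z₀ := by
    refine Nat.eq_of_mul_eq_mul_left hr ?_
    calc r₀ * (z * j) = (r₀ * z) * j := by ring
      _ = (r * z₀) * j := by rw [n0]
      _ = (r * j) * z₀ := by ring
      _ = _ := by rw [f1]; ring
  have hij : i = j := Nat.eq_of_mul_eq_mul_left Nat.card_pos (f2.trans f3.symm)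
  have har : a = r := Nat.eq_of_mul_eq_mul_right Nat.card_pos
    (show a * i = r * i by rw [n1, hij, f1, mul_comm])
  refine ⟨⟨hCL, fun X hX hXc => ?_⟩, hsup', f3⟩
  obtain ⟨Y, hY, hYm⟩ := CLarge.exists_isMinimalCentrallyLarge_le hXc
  refine eq_of_le_of_card_ge hX ?_
  show a ≤ _
  rw [har, show r = Nat.card ↥Y from ((S3007.result _ S.2 Y R hYm hR).2.2.1).symm]
  exact card_le_of_le hY

/-- `Z(S) ∩ [R, R]` or `S_MCL` is normal. -/
theorem minimalJoin_or {R : Subgroup ↥(S : Subgroup G)} (hR : IsMinimalCentrallyLarge R) :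
    ((S : Subgroup G) ⊓ centralizer ((S : Subgroup G) : Set G) ⊓
      (⁅R, R⁆).map (S : Subgroup G).subtype).Normal ∨
    ((minimalCentrallyLargeJoin ↥(S : Subgroup G)).map (S : Subgroup G).subtype).Normal := by
  classical
  by_cases hall : ∀ X : Subgroup ↥(S : Subgroup G), IsMinimalCentrallyLarge X → X ≤ qS S
  · refine Or.inr ?_
    rw [minimalCentrallyLargeJoin, sSup_eq_iSup]
    exact normal_join {X | IsMinimalCentrallyLarge X} (fun X hX => hall X hX)
      (fun R₀ f f' hf hf' _ _ => isMinimalCentrallyLarge_map hf hf') id id (fun _ _ _ => rfl)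
  refine Or.inl (normal_of_le_center ?_)
  push Not at hall
  obtain ⟨X, hX, hXQ⟩ := hall
  obtain ⟨R₁, hR₁Q, hR₁⟩ := h.exists_min_le hA hV
  have hD : ∀ Y : Subgroup ↥(S : Subgroup G), IsMinimalCentrallyLarge Y → ⁅R, R⁆ = ⁅Y, Y⁆ :=
    fun Y hY => (S3007.result _ S.2 R Y hR hY).2.1
  set D := (⁅R, R⁆).map (S : Subgroup G).subtype with hDdef
  have hDn : D.Normal := by
    have e : ⁅R, R⁆ = ⨆ Y ∈ {Y : Subgroup ↥(S : Subgroup G) | IsMinimalCentrallyLarge Y ∧ Y ≤ qS S},
        ⁅Y, Y⁆ := le_antisymm ((hD R₁ hR₁).le.trans (le_iSup₂_of_le R₁ ⟨hR₁, hR₁Q⟩ le_rfl))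
      (iSup₂_le fun Y hY => (hD Y hY.1).ge)
    rw [hDdef, e]
    exact normal_join _ (fun Y hY => hY.2) (fun R₀ f f' hf hf' _ hr hR₀ =>
      show IsMinimalCentrallyLarge _ ∧ _ ≤ qS S from
        ⟨isMinimalCentrallyLarge_map hf hf' hR₀.1, (map_le_range _ _).trans hr⟩)
      (fun Y => ⁅Y, Y⁆) (fun Y => ⁅Y, Y⁆) (fun R₀ f _ => (Subgroup.map_commutator _ _ f).symm)
  set C := centralizer (D : Set G)
  have : C.Normal := normal_centralizer
  obtain ⟨-, hsup, -⟩ := h.push_min hA hV hX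
  obtain ⟨z, hz, hzQ⟩ : ∃ z ∈ centralizer (X : Set ↥(S : Subgroup G)), z ∉ qS S := by
    by_contra hc
    push Not at hc
    exact hXQ (hsup.ge.trans (sup_le inf_le_right hc))
  have hC : ¬ C ≤ M := fun hc => hzQ (h.inf_le_pCore hc ⟨z.2, by
    rintro _ ⟨d, hd, rfl⟩
    exact congrArg Subtype.val (hz d (Subgroup.commutator_le_self X ((hD X hX).le hd)))⟩)
  intro w hw
  refine Subgroup.mem_center_iff.mpr fun g => ?_
  have hle : C ⊔ (S : Subgroup G) ≤ centralizer ({w} : Set G) := sup_le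
    (centralizer_le (Set.singleton_subset_iff.mpr hw.2)) fun s hs => by
      rw [mem_centralizer_iff]; intro v hv; rw [Set.mem_singleton_iff.mp hv]; exact (hw.1.2 s hs).symm
  exact ((hle ((h.sup_eq_top hC).ge (mem_top g))) w rfl).symm

/-- `S_Φ` is normal. -/
theorem frattiniJoin_normal :
    ((frattiniOfMinimalCLJoin p ↥(S : Subgroup G)).map (S : Subgroup G).subtype).Normal := by
  set mz := maxOmegaCenterOfMinimalCL p ↥(S : Subgroup G)
  set Pf := {X : Subgroup ↥(S : Subgroup G) |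
    IsMinimalCentrallyLarge X ∧ Nat.card ↥(omegaOneCenter p X) = mz ∧ X ≤ qS S}
  have hmz : ∀ X : Subgroup ↥(S : Subgroup G), IsMinimalCentrallyLarge X →
      Nat.card ↥(omegaOneCenter p X) ≤ mz := fun X hX =>
    le_csSup ⟨Nat.card ↥(S : Subgroup G), fun k hk => by
        obtain ⟨Y, -, hY⟩ := Set.mem_ofPred.mp hk
        exact hY ▸ Nat.le_of_dvd Nat.card_pos (Subgroup.card_subgroup_dvd_card _)⟩
      (Set.mem_ofPred.mpr ⟨X, hX, rfl⟩)
  have e : frattiniOfMinimalCLJoin p ↥(S : Subgroup G) = ⨆ X ∈ Pf, phiSub X := by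
    refine le_antisymm (iSup_le fun ⟨X, hX, hXm⟩ => ?_) (iSup₂_le fun X hX =>
      le_iSup_of_le ⟨X, hX.1, hX.2.1⟩ le_rfl)
    show phiSub X ≤ _
    obtain ⟨hmin, hsup, f3⟩ := h.push_min hA hV hX
    obtain ⟨-, hc, -, -⟩ := h.push hA hV hX.1
    obtain ⟨-, hZX⟩ := CLarge.isCentrallyLarge_iff.mp hX.1
    set Z := centralizer (X : Set ↥(S : Subgroup G))
    set V := vS S
    set O := omegaOneCenter p X with hO
    have hOdef : O = omegaOne p Z := by rw [hO, omegaOneCenter, inf_eq_right.mpr hZX]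
    have hOZ : O ≤ Z := hOdef ▸ PGroup.omegaOne_le _
    have hOe : IsElementaryAbelian p O := hOdef ▸ PGroup.isElementaryAbelian_omegaOne
      (CLarge.isMulCommutative_iff_le_centralizer.mpr (centralizer_le hZX))
    set O₀ := O ⊓ qS S
    set Y := (X ⊓ qS S) ⊔ V
    have hOY : O₀ ⊔ V ≤ omegaOneCenter p Y := by
      rw [omegaOneCenter, inf_eq_right.mpr (CLarge.isCentrallyLarge_iff.mp hmin.1).2]
      refine sup_le (fun x hx => ?_) fun x hx => ?_
      · exact PGroup.mem_omegaOne_of_pow_eq_one (hc.ge (mem_sup_left ⟨hOZ hx.1, hx.2⟩)) (hOe.2 x hx.1)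
      · exact PGroup.mem_omegaOne_of_pow_eq_one (hc.ge (mem_sup_right hx)) ((h.vS_elem hA).2 x hx)
    have n1 := Offender.card_sup_mul_card_inf
      (((inf_le_right : O₀ ≤ qS S).trans h.qS_le_centralizer_vS).trans (centralizer_le_normalizer _))
    have ei : O₀ ⊓ V = Z ⊓ qS S ⊓ V := le_antisymm
      (inf_le_inf_right _ (inf_le_inf_right _ hOZ)) (le_inf (le_inf (fun x hx => by
        rw [hOdef]; exact PGroup.mem_omegaOne_of_pow_eq_one hx.1.1 ((h.vS_elem hA).2 x hx.2))
          (inf_le_left.trans inf_le_right)) inf_le_right)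
    rw [ei] at n1
    have hOn : O ≤ normalizer ((Z ⊓ qS S : Subgroup ↥(S : Subgroup G)) : Set ↥(S : Subgroup G)) :=
      (hOZ.trans (le_centralizer_iff.mp
        ((inf_le_left : Z ⊓ qS S ≤ Z).trans (centralizer_le (SetLike.coe_subset_coe.mpr hZX))))).trans
          (centralizer_le_normalizer _)
    have n2 := Offender.card_sup_mul_card_inf hOn
    rw [show O ⊓ (Z ⊓ qS S) = O₀ by rw [← inf_assoc, inf_eq_left.mpr hOZ]] at n2
    have b1 := (card_le_of_le hOY).trans (hmz Y hmin)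
    rw [show mz = Nat.card ↥O from hXm.symm] at b1
    set z := Nat.card ↥Z
    set j := Nat.card ↥(Z ⊓ qS S ⊓ V)
    set v := Nat.card ↥V
    set z₀ := Nat.card ↥(Z ⊓ qS S)
    set o := Nat.card ↥O
    set o₀ := Nat.card ↥O₀
    set w := Nat.card ↥(O₀ ⊔ V : Subgroup ↥(S : Subgroup G))
    set u := Nat.card ↥(O ⊔ (Z ⊓ qS S) : Subgroup ↥(S : Subgroup G))
    have hj : 0 < j := Nat.card_pos
    have k1 : o₀ * z ≤ o * z₀ := Nat.le_of_mul_le_mul_right (by
      calc o₀ * z * j = o₀ * (z * j) := by ring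
        _ = o₀ * v * z₀ := by rw [f3]; ring
        _ = w * j * z₀ := by rw [n1]
        _ ≤ o * j * z₀ := Nat.mul_le_mul_right _ (Nat.mul_le_mul_right _ b1)
        _ = o * z₀ * j := by ring) hj
    have k2 : z ≤ u := Nat.le_of_mul_le_mul_right (by
      rw [mul_comm z, n2]; exact k1) (Nat.card_pos (α := ↥O₀))
    have hZ : O ⊔ (Z ⊓ qS S) = Z := eq_of_le_of_card_ge (sup_le hOZ inf_le_left) k2
    have k3 : o * z₀ = z * o₀ := by
      rw [← n2]; exact congrArg (· * o₀) (by show u = z; exact congrArg (fun H : Subgroup _ => Nat.card ↥H) hZ)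
    have k4 : o ≤ w := by
      refine Nat.le_of_mul_le_mul_right ?_ (Nat.mul_pos hj (Nat.card_pos (α := ↥(Z ⊓ qS S : Subgroup _))))
      calc o * (j * z₀) = (o * z₀) * j := by ring
        _ = o₀ * (z * j) := by rw [k3]; ring
        _ = (o₀ * v) * z₀ := by rw [f3]; ring
        _ = _ := by rw [← n1]; ring
        _ ≤ _ := le_rfl
    refine le_iSup₂_of_le Y ⟨hmin, le_antisymm (hmz Y hmin) ((show mz = o from hXm.symm).le.trans (k4.trans (card_le_of_le hOY))),
      sup_le inf_le_right h.vS_le_qS⟩ ?_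
    have eX : X = (X ⊓ qS S) ⊔ O := by
      refine le_antisymm ?_ (sup_le inf_le_left (hOZ.trans hZX))
      exact hsup.ge.trans (sup_le le_sup_left (hZ.ge.trans
        (sup_le le_sup_right ((inf_le_inf_right _ hZX).trans le_sup_left))))
    rw [eX, phiSub_sup ((S.2 : IsPGroup p ↥(S : Subgroup G)).to_subgroup _) hOe
      (hOZ.trans (centralizer_le inf_le_left)), phiSub_sup ((S.2 : IsPGroup p ↥(S : Subgroup G)).to_subgroup _)
      (h.vS_elem hA) (le_centralizer_iff.mp (inf_le_right.trans h.qS_le_centralizer_vS))]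
  rw [e]
  exact normal_join Pf (fun X hX => hX.2.2) (fun R₀ f f' hf hf' _ hr hR₀ =>
    ⟨isMinimalCentrallyLarge_map hf hf' hR₀.1, by
      rw [card_omegaOneCenter_map hf', ← card_omegaOneCenter_map hf]; exact hR₀.2.1,
      (map_le_range _ _).trans hr⟩)
    phiSub phiSub (fun R₀ f _ => phiSub_map (PCore.isPGroup_pCore.to_subgroup R₀))

end Hyp

end Cfsg.Agent.PushingUp
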