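import Cfsg.Agent.Lib.FFPair.Natural
import Cfsg.Agent.Lib.Offender.Model
import Cfsg.Agent.Lib.PGroup.Thompson

/-!
# A rank-one action with an offender

`Act p S M V`: `G = ⟨S, S^x⟩` for `x ∉ M`, `C_G(V) ≤ M`, `N(S)` is irreducible on the elementary abelian
group `S / C_S(V)` and some subgroup of `S` offends on `V`.

* `max_of_irreducible`: an irreducibly normalised group containing an offender is itself a best offender
* `Act.card_eq`, `Act.card_fixed_eq`: `|V| = q |C_V(S)|`, `|C_V(S)| = q |C_V(G)|`, `q = |S : C_S(V)|`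
* `Act.quad`, `Act.sharp`, `Act.split`, `Act.exists_natural`
-/

set_option autoImplicit false

namespace Cfsg.Agent.PushingUp

open Subgroup
open scoped commutatorElement MatrixGroups

universe u

variable {G : Type u} [Group G] {p : ℕ}

theorem max_of_irreducible [Finite G] {V T N : Subgroup G} (hV : IsMulCommutative V)
    (hT : IsMulCommutative T) (hNT : N ≤ normalizer (T : Set G)) (hNV : N ≤ normalizer (V : Set G))
    (hirr : ∀ B ≤ T, N ≤ normalizer (B : Set G) → B = ⊥ ∨ B = T)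
    (hoff : ∃ A ≤ T, A ≠ ⊥ ∧
      Nat.card ↥V ≤ Nat.card ↥A * Nat.card ↥(V ⊓ centralizer (A : Set G))) (B : Subgroup G)
    (hB : B ≤ T) : Nat.card ↥B * Nat.card ↥(V ⊓ centralizer (B : Set G)) ≤
      Nat.card ↥T * Nat.card ↥(V ⊓ centralizer (T : Set G)) := by
  let m : Subgroup G → ℕ := fun X => Nat.card ↥X * Nat.card ↥(V ⊓ centralizer (X : Set G))
  obtain ⟨B₁, hB₁, hmax⟩ := (Set.toFinite {X : Subgroup G | X ≤ T}).exists_maximalFor m _
    ⟨⊥, (bot_le : (⊥ : Subgroup G) ≤ T)⟩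
  have hle : ∀ X ≤ T, m X ≤ m B₁ := fun X hX => by
    rcases le_total (m X) (m B₁) with h | h
    exacts [h, hmax hX h]
  obtain ⟨Bs, ⟨hBs, hms⟩, hbig⟩ := (Set.toFinite {X : Subgroup G | X ≤ T ∧ m X = m B₁}).exists_maximalFor
    (fun X : Subgroup G => Nat.card ↥X) _ ⟨B₁, hB₁, rfl⟩
  have hmeet : ∀ X ≤ T, m X = m B₁ → X ≤ Bs := by
    intro X hX hmX
    set C₁ := V ⊓ centralizer (X : Set G)
    set C₂ := V ⊓ centralizer (Bs : Set G)
    have hsup : C₁ ⊓ C₂ = V ⊓ centralizer ((X ⊔ Bs : Subgroup G) : Set G) := by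
      rw [Offender.centralizer_sup_eq, ← inf_inf_distrib_left]
    have hinf : C₁ ⊔ C₂ ≤ V ⊓ centralizer ((X ⊓ Bs : Subgroup G) : Set G) :=
      sup_le (inf_le_inf_left _ (centralizer_le (SetLike.coe_subset_coe.mpr inf_le_left)))
        (inf_le_inf_left _ (centralizer_le (SetLike.coe_subset_coe.mpr inf_le_right)))
    have hc := PGV.card_inf_mul_card_sup hV (inf_le_left : C₁ ≤ V) (inf_le_left : C₂ ≤ V)
    have hg := PGV.card_inf_mul_card_sup hT hX hBs
    have h1 : m X * m Bs ≤ m (X ⊔ Bs) * m (X ⊓ Bs) := by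
      calc m X * m Bs = (Nat.card ↥X * Nat.card ↥Bs) * (Nat.card ↥C₁ * Nat.card ↥C₂) := by ring
        _ = (Nat.card ↥(X ⊔ Bs) * Nat.card ↥(X ⊓ Bs)) *
            (Nat.card ↥(C₁ ⊔ C₂) * Nat.card ↥(C₁ ⊓ C₂)) := by rw [← hg, ← hc]
        _ ≤ (Nat.card ↥(X ⊔ Bs) * Nat.card ↥(X ⊓ Bs)) *
            (Nat.card ↥(V ⊓ centralizer ((X ⊓ Bs : Subgroup G) : Set G)) *
              Nat.card ↥(C₁ ⊓ C₂)) := by gcongr; exact card_le_of_le hinf
        _ = _ := by rw [hsup]; ring
    rw [hmX, hms] at h1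
    have h2 : m B₁ * m B₁ ≤ m (X ⊔ Bs) * m B₁ :=
      h1.trans (Nat.mul_le_mul_left _ (hle _ (inf_le_left.trans hX)))
    have h3 : m (X ⊔ Bs) = m B₁ := le_antisymm (hle _ (sup_le hX hBs))
      (Nat.le_of_mul_le_mul_right h2 (Nat.mul_pos Nat.card_pos Nat.card_pos))
    have h4 := hbig ⟨sup_le hX hBs, h3⟩ (card_le_of_le le_sup_right)
    exact le_sup_left.trans (eq_of_le_of_card_ge le_sup_right h4).ge
  have hinv : N ≤ normalizer (Bs : Set G) := by
    have key : ∀ n ∈ N, Bs.map (MulAut.conj n).toMonoidHom ≤ Bs := by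
      intro n hn
      refine hmeet _ ?_ ?_
      · rintro _ ⟨b, hb, rfl⟩
        exact (mem_normalizer_iff.mp (hNT hn) b).mp (hBs hb)
      · refine Eq.trans ?_ hms
        show _ * _ = _ * _
        rw [card_map_of_injective (MulAut.conj n).injective]
        congr 1
        refine Eq.trans ?_ (card_map_of_injective (f := (MulAut.conj n).toMonoidHom)
          (MulAut.conj n).injective)
        congr 2
        ext v
        constructor
        · rintro ⟨hv, hvc⟩
          refine ⟨n⁻¹ * v * n, ⟨?_, fun b hb => ?_⟩, by simp [mul_assoc]⟩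
          · simpa using (mem_normalizer_iff.mp (hNV (inv_mem hn)) v).mp hv
          · have h1 := hvc (n * b * n⁻¹) ⟨b, hb, rfl⟩
            calc b * (n⁻¹ * v * n) = n⁻¹ * (n * b * n⁻¹ * v) * n := by group
              _ = n⁻¹ * v * n * b := by rw [h1]; group
        · rintro ⟨w, ⟨hw, hwc⟩, rfl⟩
          refine ⟨(mem_normalizer_iff.mp (hNV hn) w).mp hw, ?_⟩
          rintro _ ⟨b, hb, rfl⟩
          show n * b * n⁻¹ * (n * w * n⁻¹) = n * w * n⁻¹ * (n * b * n⁻¹)
          calc n * b * n⁻¹ * (n * w * n⁻¹) = n * (b * w) * n⁻¹ := by group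
            _ = n * w * n⁻¹ * (n * b * n⁻¹) := by rw [hwc b hb]; group
    refine fun n hn => mem_normalizer_iff.mpr fun x => ⟨fun hx => key n hn ⟨x, hx, rfl⟩, fun hx => ?_⟩
    have := key n⁻¹ (inv_mem hn) ⟨_, hx, rfl⟩
    simpa [mul_assoc] using this
  rcases hirr Bs hBs hinv with e | e
  · exfalso
    obtain ⟨A, hA, hA1, hAV⟩ := hoff
    refine hA1 (le_bot_iff.mp (e ▸ hmeet A hA (le_antisymm (hle A hA) ?_)))
    rw [← hms, e]
    show Nat.card ↥(⊥ : Subgroup G) * _ ≤ _
    rw [Subgroup.card_bot, one_mul]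
    exact (card_le_of_le inf_le_left).trans hAV
  · subst e
    exact (hle B hB).trans_eq hms.symm

/-- A rank-one action with an offender. -/
structure Act (p : ℕ) (S : Sylow p G) (M V : Subgroup G) : Prop where
  elem : IsElementaryAbelian p V
  ne_top : M ≠ ⊤
  SM : (S : Subgroup G) ≤ M
  gen : ∀ x ∉ M, (S : Subgroup G) ⊔ (S : Subgroup G).map (MulAut.conj x).toMonoidHom = ⊤
  CM : centralizer (V : Set G) ≤ M
  comm : ∀ a ∈ (S : Subgroup G), ∀ b ∈ (S : Subgroup G), ⁅a, b⁆ ∈ centralizer (V : Set G)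
  pow : ∀ a ∈ (S : Subgroup G), a ^ p ∈ centralizer (V : Set G)
  irred : ∀ B : Subgroup G, (S : Subgroup G) ⊓ centralizer (V : Set G) ≤ B → B ≤ (S : Subgroup G) →
    normalizer ((S : Subgroup G) : Set G) ≤ normalizer (B : Set G) →
    B = (S : Subgroup G) ⊓ centralizer (V : Set G) ∨ B = (S : Subgroup G)
  core : ∀ s ∈ (S : Subgroup G), (∀ g : G, g * s * g⁻¹ ∈ M) → s ∈ centralizer (V : Set G)
  off : ∃ A ≤ (S : Subgroup G), ¬ A ≤ centralizer (V : Set G) ∧
    Nat.card ↥V * Nat.card ↥(A ⊓ centralizer (V : Set G)) ≤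
      Nat.card ↥A * Nat.card ↥(V ⊓ centralizer (A : Set G))

namespace Act

variable [Finite G] [Fact p.Prime] {S : Sylow p G} {M V : Subgroup G} [V.Normal] (h : Act p S M V)
include h

omit [Finite G] [Fact p.Prime] [V.Normal] in
theorem exists_not_mem : ∃ x : G, x ∉ M := by
  by_contra hc'
  push Not at hc'
  exact h.ne_top (eq_top_iff' M |>.mpr hc')

omit [Finite G] [Fact p.Prime] in
theorem mem_M_of_map {x : G} (hx : Offender.toModel V x ∈ M.map (Offender.toModel V)) : x ∈ M := by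
  obtain ⟨m, hm, e⟩ := hx
  have hk : m⁻¹ * x ∈ (Offender.toModel V).ker := by
    rw [MonoidHom.mem_ker, map_mul, map_inv, e, inv_mul_cancel]
  simpa using mul_mem hm (h.CM ((Offender.ker_toModel V).le hk))

/-- The setting in the model `V ⋊ Aut V`. -/
theorem setting : FFPair.Setting p (Offender.modelV V) (Offender.toModel V).range
    (M.map (Offender.toModel V)) ((S : Subgroup G).map (Offender.toModel V))
    (Offender.modelV V ⊓
      centralizer ((S : Subgroup G).map (Offender.toModel V) : Set (Offender.Model V))) := by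
  set φ := Offender.toModel V with hφ
  set Vm := Offender.modelV V
  set T := (S : Subgroup G).map φ with hTdef
  set N := (normalizer ((S : Subgroup G) : Set G)).map φ
  have hker : φ.ker = centralizer (V : Set G) := Offender.ker_toModel V
  have hVm := Offender.isElementaryAbelian_modelV V h.elem
  have hC1 : ∀ g ∈ centralizer (V : Set G), φ g = 1 := fun g hg => MonoidHom.mem_ker.mp (hker.ge hg)
  have hT : IsElementaryAbelian p T := by
    refine PGroup.isElementaryAbelian_of_forall ?_ ?_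
    · rintro _ ⟨a, ha, rfl⟩ _ ⟨b, hb, rfl⟩
      rw [← commutatorElement_eq_one_iff_mul_comm, ← map_commutatorElement]
      exact hC1 _ (h.comm a ha b hb)
    · rintro _ ⟨a, ha, rfl⟩
      rw [← map_pow]; exact hC1 _ (h.pow a ha)
  have hNT : N ≤ normalizer (T : Set (Offender.Model V)) := le_normalizer_map φ
  have hPV := Offender.range_toModel_le_normalizer V
  have hirr : ∀ B ≤ T, N ≤ normalizer (B : Set (Offender.Model V)) → B = ⊥ ∨ B = T := by
    intro B hBT hB
    set B₀ := (S : Subgroup G) ⊓ B.comap φ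
    have hmap : B₀.map φ = B := by
      refine le_antisymm ((map_mono inf_le_right).trans (map_comap_le _ _)) fun y hy => ?_
      obtain ⟨s, hs, rfl⟩ := hBT hy
      exact mem_map_of_mem φ ⟨hs, hy⟩
    have hQB : (S : Subgroup G) ⊓ centralizer (V : Set G) ≤ B₀ := fun g hg => mem_inf.mpr
      ⟨hg.1, by rw [mem_comap, hC1 g hg.2]; exact one_mem _⟩
    have hn : normalizer ((S : Subgroup G) : Set G) ≤ normalizer (B₀ : Set G) := by
      refine fun g hg => mem_normalizer_iff.mpr fun x => ?_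
      rw [mem_inf, mem_inf, mem_comap, mem_comap, map_mul, map_mul, map_inv]
      exact and_congr (mem_normalizer_iff.mp hg x)
        (mem_normalizer_iff.mp (hB (mem_map_of_mem φ hg)) (φ x))
    rcases h.irred B₀ hQB inf_le_left hn with e | e
    · exact Or.inl (le_bot_iff.mp fun y hy => by
        rw [← hmap, e] at hy
        obtain ⟨g, hg, rfl⟩ := hy
        exact mem_bot.mpr (hC1 g hg.2))
    · exact Or.inr (by rw [← hmap, e])
  have hTP : T ≤ φ.range := map_le_range _ _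
  obtain ⟨A₁, hA₁S, hA₁C, hA₁⟩ := h.off
  have hA₁0 : A₁.map φ ≠ ⊥ := fun e => hA₁C fun a ha =>
    hker.le (MonoidHom.mem_ker.mpr (mem_bot.mp (e ▸ mem_map_of_mem φ ha)))
  have hoff : Nat.card ↥Vm ≤
      Nat.card ↥(A₁.map φ) * Nat.card ↥(Vm ⊓ centralizer (A₁.map φ : Set (Offender.Model V))) := by
    rw [Offender.card_modelV, Offender.card_inf_centralizer_map_toModel]
    refine Nat.le_of_mul_le_mul_right ?_ (Nat.card_pos (α := ↥(A₁ ⊓ centralizer (V : Set G))))
    rw [mul_right_comm, Offender.card_map_toModel]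
    exact hA₁
  have hmax := max_of_irreducible hVm.1 hT.1 hNT ((map_le_range _ _).trans hPV) hirr
    ⟨_, map_mono hA₁S, hA₁0, hoff⟩
  have hle : Nat.card ↥Vm ≤ Nat.card ↥T * Nat.card ↥(Vm ⊓ centralizer (T : Set (Offender.Model V))) :=
    hoff.trans (hmax _ (map_mono hA₁S))
  have hTne : T ≠ ⊥ := fun e => hA₁0 (le_bot_iff.mp (e ▸ map_mono hA₁S))
  have hNP : N ≤ φ.range ⊓ normalizer (T : Set (Offender.Model V)) := le_inf (map_le_range _ _) hNT
  have hstrict : ∀ A₀ ≤ T, φ.range ⊓ normalizer (T : Set (Offender.Model V)) ≤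
      normalizer (A₀ : Set (Offender.Model V)) → A₀ ≠ ⊥ → A₀ ≠ T →
      Nat.card ↥A₀ * Nat.card ↥(Vm ⊓ centralizer (A₀ : Set (Offender.Model V))) <
        Nat.card ↥T * Nat.card ↥(Vm ⊓ centralizer (T : Set (Offender.Model V))) :=
    fun A₀ hA₀ hn h0 h1 => ((hirr A₀ hA₀ (hNP.trans hn)).elim h0 h1).elim
  have hgen : ∀ x : G, x ∉ M → T ⊔ FFPair.cj (φ x) T = φ.range := by
    intro x hx
    have e : φ.comp (MulAut.conj x).toMonoidHom = (MulAut.conj (φ x)).toMonoidHom.comp φ :=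
      MonoidHom.ext fun g => by simp
    rw [FFPair.cj, hTdef, map_map, ← e, ← map_map, ← Subgroup.map_sup, h.gen x hx,
      ← MonoidHom.range_eq_map]
  obtain ⟨x₀, hx₀⟩ := h.exists_not_mem
  have hnn : ¬ φ.range ≤ normalizer (T : Set (Offender.Model V)) := by
    intro hc
    have he : FFPair.cj (φ x₀) T = T := PGroup.map_conj_eq_of_mem_normalizer (hc ⟨x₀, rfl⟩)
    have h1 := hgen x₀ hx₀
    rw [he, sup_idem, hTdef] at h1
    refine h.ne_top (top_le_iff.mp fun g _ => h.mem_M_of_map ?_)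
    exact map_mono h.SM (h1.ge ⟨g, rfl⟩)
  have hPnp : ¬ IsPGroup p ↥φ.range := by
    intro hp
    refine hnn ?_
    have e : (S.mapSurjective φ.rangeRestrict_surjective : Subgroup φ.range) = ⊤ :=
      top_le_iff.mp (le_of_eq ((S.mapSurjective φ.rangeRestrict_surjective).is_maximal'
        (PCore.isPGroup_top_iff.mpr hp) le_top))
    rintro _ ⟨g, rfl⟩
    obtain ⟨s, hs, es⟩ : φ.rangeRestrict g ∈ (S : Subgroup G).map φ.rangeRestrict :=
      e.ge (mem_top _)
    exact le_normalizer ⟨s, hs, congrArg Subtype.val es⟩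
  have hmoved : ⁅Vm ⊓ centralizer (T : Set (Offender.Model V)), φ.range⁆ ≠ ⊥ := by
    intro hc
    have hq := FFPair.quad_of hVm hPV (Offender.range_toModel_inf_centralizer V) hTP hT hTne hle
      hmax hstrict
    set Z := Vm ⊓ centralizer (φ.range : Set (Offender.Model V))
    have hZ : ∀ z ∈ Z, ∀ g ∈ φ.range, g * z * g⁻¹ = z := fun z hz g hg => by
      rw [hz.2 g hg, mul_inv_cancel_right]
    have hcz : Vm ⊓ centralizer (T : Set (Offender.Model V)) ≤ Z :=
      le_inf inf_le_left (commutator_eq_bot_iff_le_centralizer.mp hc)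
    have hVc : ∀ g ∈ φ.range, ∀ v ∈ Vm, g * v * g⁻¹ ∈ Vm := fun g hg v hv =>
      (mem_normalizer_iff.mp (hPV hg) v).mp hv
    let K : Subgroup (Offender.Model V) :=
      { carrier := {k | k ∈ φ.range ∧ ∀ v ∈ Vm, k * v * k⁻¹ * v⁻¹ ∈ Z}
        one_mem' := ⟨one_mem _, fun v _ => by simp⟩
        mul_mem' := fun {k l} hk hl => ⟨mul_mem hk.1 hl.1, fun v hv => by
          rw [show k * l * v * (k * l)⁻¹ * v⁻¹ =
            k * (l * v * l⁻¹ * v⁻¹) * k⁻¹ * (k * v * k⁻¹ * v⁻¹) by group, hZ _ (hl.2 v hv) k hk.1]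
          exact mul_mem (hl.2 v hv) (hk.2 v hv)⟩
        inv_mem' := fun {k} hk => ⟨inv_mem hk.1, fun v hv => by
          rw [show k⁻¹ * v * k⁻¹⁻¹ * v⁻¹ = k⁻¹ * (k * v * k⁻¹ * v⁻¹)⁻¹ * k⁻¹⁻¹ by group,
            hZ _ (inv_mem (hk.2 v hv)) _ (inv_mem hk.1)]
          exact inv_mem (hk.2 v hv)⟩ }
    have hTK : T ≤ K := fun a ha => ⟨hTP ha, fun v hv => hcz <| mem_inf.mpr
      ⟨mul_mem (hVc a (hTP ha) v hv) (inv_mem hv), by
        have h1 : ⁅a, v⁆ ∈ ⁅Vm, T⁆ := commutator_comm T Vm ▸ commutator_mem_commutator ha hv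
        exact fun t ht => (Offender.le_centralizer_commutator_of_quadratic hq ht _ h1).symm⟩⟩
    have hPK : φ.range ≤ K := by
      rw [← hgen x₀ hx₀]
      refine sup_le hTK ?_
      rintro _ ⟨a, ha, rfl⟩
      have hxr : φ x₀ ∈ φ.range := ⟨x₀, rfl⟩
      refine ⟨mul_mem (mul_mem hxr (hTP ha)) (inv_mem hxr), fun v hv => ?_⟩
      have h1 := (hTK ha).2 ((φ x₀)⁻¹ * v * φ x₀) (by simpa using hVc _ (inv_mem hxr) v hv)
      show φ x₀ * a * (φ x₀)⁻¹ * v * (φ x₀ * a * (φ x₀)⁻¹)⁻¹ * v⁻¹ ∈ Z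
      rw [show φ x₀ * a * (φ x₀)⁻¹ * v * (φ x₀ * a * (φ x₀)⁻¹)⁻¹ * v⁻¹ =
        φ x₀ * (a * ((φ x₀)⁻¹ * v * φ x₀) * a⁻¹ * ((φ x₀)⁻¹ * v * φ x₀)⁻¹) * (φ x₀)⁻¹ by group,
        hZ _ h1 _ hxr]
      exact h1
    refine hPnp fun k => ⟨1, Subtype.ext ?_⟩
    rw [pow_one, Subgroup.coe_pow, Subgroup.coe_one, ← mem_bot,
      ← Offender.range_toModel_inf_centralizer V]
    refine ⟨pow_mem k.2 p, fun v hv => ?_⟩
    set d := (k : Offender.Model V) * v * (k : Offender.Model V)⁻¹ * v⁻¹ with hd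
    have hdZ : d ∈ Z := (hPK k.2).2 v hv
    have key : ∀ n : ℕ, (k : Offender.Model V) ^ n * v * ((k : Offender.Model V) ^ n)⁻¹ = d ^ n * v := by
      intro n
      induction n with
      | zero => simp
      | succ n ih =>
        calc (k : Offender.Model V) ^ (n + 1) * v * ((k : Offender.Model V) ^ (n + 1))⁻¹
            = (k : Offender.Model V) * ((k : Offender.Model V) ^ n * v *
                ((k : Offender.Model V) ^ n)⁻¹) * (k : Offender.Model V)⁻¹ := by group
          _ = ((k : Offender.Model V) * d ^ n * (k : Offender.Model V)⁻¹) *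
              ((k : Offender.Model V) * v * (k : Offender.Model V)⁻¹) := by rw [ih]; group
          _ = d ^ n * (d * v) := by
            rw [hZ _ (pow_mem hdZ n) _ k.2, show d * v =
              (k : Offender.Model V) * v * (k : Offender.Model V)⁻¹ by rw [hd]; group]
          _ = d ^ (n + 1) * v := by rw [pow_succ]; exact (mul_assoc _ _ _).symm
    have := key p
    rw [hVm.2 d hdZ.1, one_mul] at this
    exact (mul_inv_eq_iff_eq_mul.mp this).symm
  refine ⟨hVm, hPV, Offender.range_toModel_inf_centralizer V, map_mono h.SM,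
    map_le_range _ _, ?_, hT, hle, hmax, hstrict, inf_le_left, inf_le_right, hmoved, ?_, ?_, ?_⟩
  · exact fun e => h.ne_top (top_le_iff.mp fun g _ => h.mem_M_of_map (e.ge ⟨g, rfl⟩))
  · rintro _ ⟨x, rfl⟩ hx
    exact hgen x fun hm => hx (mem_map_of_mem φ hm)
  · rintro _ ⟨s, hs, rfl⟩ hg
    rw [hC1 s (h.core s hs fun g => h.mem_M_of_map ?_)]
    · exact one_mem _
    · rw [map_mul, map_mul, map_inv]
      exact hg (φ g) ⟨g, rfl⟩
  · intro K hK hKn hKp
    have hKn' : (K.subgroupOf φ.range).Normal := (normal_subgroupOf_iff_le_normalizer hK).mpr hKn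
    have hKT : K ≤ T := by
      intro k hk
      have h1 := (PCore.le_pCore (p := p) (hN := hKn')
        (hKp.of_equiv (subgroupOfEquivOfLe hK).symm)).trans
        (PCore.pCore_le_sylow (S.mapSurjective φ.rangeRestrict_surjective))
      obtain ⟨s, hs, e⟩ := h1 (show (⟨k, hK hk⟩ : φ.range) ∈ K.subgroupOf φ.range from hk)
      exact ⟨s, hs, congrArg Subtype.val e⟩
    rcases hirr K hKT ((map_le_range _ _).trans hKn) with e | e
    · rw [e]; exact bot_le
    · exact absurd (e ▸ hKn) hnn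

omit [Finite G] [Fact p.Prime] h in
theorem card_inf_center_eq :
    Nat.card ↥(Offender.modelV V ⊓
      centralizer ((Offender.toModel V).range : Set (Offender.Model V))) =
      Nat.card ↥(V ⊓ Subgroup.center G) := by
  rw [MonoidHom.range_eq_map, Offender.card_inf_centralizer_map_toModel, coe_top,
    centralizer_univ]

omit [Finite G] [Fact p.Prime] h in
theorem ofV_mem_iff {B : Subgroup G} {v : G} (hv : v ∈ V) :
    Offender.ofV V ⟨v, hv⟩ ∈ Offender.modelV V ⊓
        centralizer (B.map (Offender.toModel V) : Set (Offender.Model V)) ↔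
      v ∈ V ⊓ centralizer (B : Set G) := by
  rw [Offender.inf_centralizer_map_toModel,
    Subgroup.mem_map_iff_mem (Offender.ofV_injective V)]
  exact mem_subgroupOf

omit [Finite G] [Fact p.Prime] h in
theorem ofV_mem_range_iff {v : G} (hv : v ∈ V) :
    Offender.ofV V ⟨v, hv⟩ ∈ Offender.modelV V ⊓
        centralizer ((Offender.toModel V).range : Set (Offender.Model V)) ↔
      v ∈ V ⊓ Subgroup.center G := by
  rw [MonoidHom.range_eq_map, ofV_mem_iff hv, coe_top, centralizer_univ]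

omit [Finite G] [Fact p.Prime] h in
theorem ofV_comm {a v : G} (hv : v ∈ V)
    (hw : a * v * a⁻¹ * v⁻¹ ∈ V) :
    Offender.ofV V ⟨a * v * a⁻¹ * v⁻¹, hw⟩ = Offender.toModel V a * Offender.ofV V ⟨v, hv⟩ *
      (Offender.toModel V a)⁻¹ * (Offender.ofV V ⟨v, hv⟩)⁻¹ := by
  rw [Offender.toModel_conj, ← map_inv, ← map_mul]
  rfl

omit [Finite G] [Fact p.Prime] h in
theorem comm_mem (a : G) {v : G} (hv : v ∈ V) : a * v * a⁻¹ * v⁻¹ ∈ V :=
  mul_mem (Subgroup.Normal.conj_mem inferInstance v hv a) (inv_mem hv)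

/-- `|V| = |S : C_S(V)| |C_V(S)|`. -/
theorem card_eq : Nat.card ↥V * Nat.card ↥((S : Subgroup G) ⊓ centralizer (V : Set G)) =
    Nat.card (S : Subgroup G) * Nat.card ↥(V ⊓ centralizer ((S : Subgroup G) : Set G)) := by
  have e := h.setting.faithful_span.2.2.1
  rw [Offender.card_modelV, Offender.card_inf_centralizer_map_toModel] at e
  rw [e, ← Offender.card_map_toModel V (S : Subgroup G)]
  ring

/-- `|C_V(S)| = |S : C_S(V)| |C_V(G)|`. -/
theorem card_fixed_eq :
    Nat.card ↥(V ⊓ centralizer ((S : Subgroup G) : Set G)) *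
        Nat.card ↥((S : Subgroup G) ⊓ centralizer (V : Set G)) =
      Nat.card (S : Subgroup G) * Nat.card ↥(V ⊓ Subgroup.center G) := by
  have e := h.setting.card_meet
  rw [Offender.card_inf_centralizer_map_toModel, card_inf_center_eq] at e
  rw [e, ← Offender.card_map_toModel V (S : Subgroup G)]
  ring

/-- No subgroup of `S` is a better offender. -/
theorem card_le {A : Subgroup G} (hA : A ≤ (S : Subgroup G)) :
    Nat.card ↥A * Nat.card ↥(V ⊓ centralizer (A : Set G)) ≤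
      Nat.card ↥V * Nat.card ↥(A ⊓ centralizer (V : Set G)) := by
  have e := (h.setting.max _ (map_mono hA)).trans h.setting.faithful_span.2.2.1.ge
  rw [Offender.card_modelV, Offender.card_inf_centralizer_map_toModel] at e
  calc Nat.card ↥A * Nat.card ↥(V ⊓ centralizer (A : Set G))
      = Nat.card ↥(A.map (Offender.toModel V)) * Nat.card ↥(V ⊓ centralizer (A : Set G)) *
          Nat.card ↥(A ⊓ centralizer (V : Set G)) := by rw [← Offender.card_map_toModel V A]; ring
    _ ≤ _ := Nat.mul_le_mul_right _ e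

/-- `[V, S] ≤ C_V(S)`. -/
theorem quad {a v : G} (ha : a ∈ (S : Subgroup G)) (hv : v ∈ V) :
    a * v * a⁻¹ * v⁻¹ ∈ V ⊓ centralizer ((S : Subgroup G) : Set G) := by
  rw [← ofV_mem_iff (comm_mem a hv), ofV_comm hv]
  exact mem_inf.mpr ⟨mul_mem (h.setting.conjV ⟨a, rfl⟩ ⟨_, rfl⟩) (inv_mem ⟨_, rfl⟩),
    h.setting.comm_swap ⟨_, rfl⟩ (mem_map_of_mem _ ha)⟩

/-- An element of `S ∖ C_S(V)` moves `V ∖ C_V(S)` out of `C_V(G)`. -/
theorem sharp {a v : G} (ha : a ∈ (S : Subgroup G)) (haC : a ∉ centralizer (V : Set G)) (hv : v ∈ V)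
    (hc : a * v * a⁻¹ * v⁻¹ ∈ V ⊓ Subgroup.center G) :
    v ∈ V ⊓ centralizer ((S : Subgroup G) : Set G) := by
  rw [← ofV_mem_iff hv]
  refine h.setting.mem_meet_of_comm (mem_map_of_mem _ ha) (fun e => haC ?_) ⟨_, rfl⟩ ?_
  · exact (Offender.ker_toModel V).le (MonoidHom.mem_ker.mpr e)
  · rw [← ofV_comm hv (comm_mem a hv), ofV_mem_range_iff]
    exact hc

/-- `V = C_V(S) C_V(S^x)`. -/
theorem split {x : G} (hx : x ∉ M) {v : G} (hv : v ∈ V) :
    ∃ a ∈ V ⊓ centralizer ((S : Subgroup G) : Set G),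
      ∃ b ∈ V ⊓ centralizer (((S : Subgroup G).map (MulAut.conj x).toMonoidHom : Subgroup G) : Set G),
        a * b = v := by
  set φ := Offender.toModel V
  have e : φ.comp (MulAut.conj x).toMonoidHom = (MulAut.conj (φ x)).toMonoidHom.comp φ :=
    MonoidHom.ext fun g => by simp
  have e' : FFPair.cj (φ x) ((S : Subgroup G).map φ) =
      ((S : Subgroup G).map (MulAut.conj x).toMonoidHom).map φ := by
    rw [FFPair.cj, map_map, map_map, e]
  have hxM : φ x ∉ M.map φ := fun hm => hx (h.mem_M_of_map hm)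
  obtain ⟨a, ha, b, hb, hab⟩ := h.setting.split inf_le_left inf_le_left
    ((h.setting.sup_meet ⟨x, rfl⟩ hxM).symm ▸ (⟨_, rfl⟩ : Offender.ofV V ⟨v, hv⟩ ∈ Offender.modelV V) :
      Offender.ofV V ⟨v, hv⟩ ∈ (Offender.modelV V ⊓
        centralizer ((S : Subgroup G).map φ : Set (Offender.Model V))) ⊔
      (Offender.modelV V ⊓ centralizer ((FFPair.cj (φ x) ((S : Subgroup G).map φ) :
        Subgroup (Offender.Model V)) : Set (Offender.Model V))))
  rw [Offender.inf_centralizer_map_toModel] at ha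
  rw [e', Offender.inf_centralizer_map_toModel] at hb
  obtain ⟨a', ha', rfl⟩ := ha
  obtain ⟨b', hb', rfl⟩ := hb
  rw [← map_mul] at hab
  exact ⟨a', mem_subgroupOf.mp ha', b', mem_subgroupOf.mp hb',
    congrArg Subtype.val (Offender.ofV_injective V hab)⟩

/-- `G / C_G(V) ≅ SL₂(F)` and `V / C_V(G)` is its natural module. -/
theorem exists_natural : ∃ (F : Type) (_ : Field F) (_ : Fintype F)
    (ρ : G →* SL(2, F)) (ψ : ↥V →* Multiplicative (Fin 2 → F)),
    Fintype.card F * Nat.card ↥((S : Subgroup G) ⊓ centralizer (V : Set G)) =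
      Nat.card (S : Subgroup G) ∧
    Function.Surjective ρ ∧ ρ.ker = centralizer (V : Set G) ∧
    Function.Surjective ψ ∧ (∀ u : ↥V, ψ u = 1 ↔ (u : G) ∈ V ⊓ Subgroup.center G) ∧
    ∀ (g : G) (u : ↥V), ∃ w : ↥V, (w : G) = g * u * g⁻¹ ∧
      Multiplicative.toAdd (ψ w) =
        ((ρ g : Matrix.SpecialLinearGroup (Fin 2) F) : Matrix (Fin 2) (Fin 2) F).mulVec
          (Multiplicative.toAdd (ψ u)) := by
  set φ := Offender.toModel V
  obtain ⟨F, hF, hFt, hcard, ⟨e⟩, -, -, ρ, ψ, hρ, hψ, hker, hact⟩ := h.setting.exists_sl_two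
  let j : ↥V →* ↥(Offender.modelV V) := (Offender.ofV V).rangeRestrict
  have hρinj : Function.Injective ρ := by
    have hs : Function.Surjective ρ := MonoidHom.range_eq_top.mp hρ
    have : Finite ↥φ.range := inferInstance
    exact (Nat.bijective_iff_surjective_and_card ρ).mpr ⟨hs, Nat.card_congr e.toEquiv⟩ |>.1
  refine ⟨F, hF, hFt, ρ.comp φ.rangeRestrict, ψ.comp j, ?_,
    (MonoidHom.range_eq_top.mp hρ).comp φ.rangeRestrict_surjective, ?_,
    hψ.comp (Offender.ofV V).rangeRestrict_surjective, ?_, ?_⟩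
  · rw [hcard, Offender.card_map_toModel]
  · ext g
    rw [MonoidHom.mem_ker, MonoidHom.comp_apply, map_eq_one_iff _ hρinj, ← Offender.ker_toModel V,
      MonoidHom.mem_ker, Subtype.ext_iff]
    rfl
  · intro u
    rw [MonoidHom.comp_apply, hker]
    exact ofV_mem_range_iff u.2
  · intro g u
    obtain ⟨w, hw, hwe⟩ := hact (φ.rangeRestrict g) (j u)
    refine ⟨⟨g * u * g⁻¹, Subgroup.Normal.conj_mem inferInstance _ u.2 g⟩, rfl, ?_⟩
    rw [MonoidHom.comp_apply, MonoidHom.comp_apply, MonoidHom.comp_apply, ← hwe]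
    congr 2
    refine Subtype.ext ?_
    rw [hw]
    exact (Offender.toModel_conj V g u).symm

end Act

end Cfsg.Agent.PushingUp
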