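import Cfsg.Agent.Lib.PushingUp.Basic
import Cfsg.Agent.Lib.PushingUp.Act

/-!
# The offender on `V = Ω₁(Z(O_p(G)))`

* `act`: `O_p(G)`-irreducibility and an offender give an `Act` on `V`
* `vQ p G`, `mem_center_of_not_le`: `C_G(V) ≰ M` makes `Z(S)` central
* `card_eq`: `|V| |A ∩ O_p(G)| = |A| |C_V(A)|` for `A` abelian of largest order outside `O_p(G)`
* `split`: `V = C_V(S) C_V(S^x)` for `x ∉ M`
-/

set_option autoImplicit false

namespace Cfsg.Agent.PushingUp

open Subgroup
open scoped commutatorElement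

universe u

variable {G : Type u} [Group G] {p : ℕ}

/-- `Ω₁(Z(O_p(G)))` when `C(O_p(G)) ≤ O_p(G)`. -/
def vQ (p : ℕ) (G : Type u) [Group G] : Subgroup G := omegaOne p (centralizer (pCore p G : Set G))

instance vQ_normal : (vQ p G).Normal :=
  PGroup.omegaOne_normal _

variable [Finite G] [Fact p.Prime]

namespace Hyp

variable {S : Sylow p G} {M : Subgroup G} (h : Hyp p S M)
include h

omit [Finite G] [Fact p.Prime] in
theorem vQ_le_pCore : vQ p G ≤ pCore p G := (PGroup.omegaOne_le _).trans h.cent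

omit [Fact p.Prime] in
theorem vQ_le_sylow : vQ p G ≤ (S : Subgroup G) := h.vQ_le_pCore.trans (PCore.pCore_le_sylow S)

omit [Finite G] [Fact p.Prime] h in
theorem pCore_le_centralizer_vQ : pCore p G ≤ centralizer (vQ p G : Set G) :=
  le_centralizer_iff.mp (PGroup.omegaOne_le _)

omit [Finite G] [Fact p.Prime] in
theorem isMulCommutative_cQ : IsMulCommutative ↥(centralizer (pCore p G : Set G)) :=
  PGroup.isMulCommutative_of_forall fun a ha _ hb => (hb a (h.cent ha))

omit [Finite G] [Fact p.Prime] in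
theorem isElementaryAbelian_vQ : IsElementaryAbelian p (vQ p G) :=
  PGroup.isElementaryAbelian_omegaOne h.isMulCommutative_cQ

omit [Fact p.Prime] h in
theorem center_le_cQ :
    (S : Subgroup G) ⊓ centralizer ((S : Subgroup G) : Set G) ≤ centralizer (pCore p G : Set G) :=
  inf_le_right.trans (centralizer_le (PCore.pCore_le_sylow S))

/-- If `C_G(V) ≰ M` then `Z(S)` is central. -/
theorem mem_center_of_not_le (hV : ¬ centralizer (vQ p G : Set G) ≤ M) :
    (S : Subgroup G) ⊓ centralizer ((S : Subgroup G) : Set G) ≤ Subgroup.center G := by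
  intro z hz
  refine h.mem_center_of_centralized hV (fun s hs => hz.2 s hs) fun x hx hxp => ?_
  have := h.isMulCommutative_cQ
  have hcop : (Nat.card ↥(zpowers x)).Coprime (Nat.card ↥(centralizer (pCore p G : Set G))) := by
    obtain ⟨k, hk⟩ := IsPGroup.iff_card.mp (PCore.isPGroup_pCore.to_le h.cent)
    rw [Nat.card_zpowers, hk]
    exact hxp.pow_right k
  have hfix : ∀ v ∈ centralizer (pCore p G : Set G), (orderOf v).Prime →
      ∀ a ∈ zpowers x, a * v = v * a := by
    intro v hv hvp a ha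
    have hv1 : v ∈ vQ p G := by
      refine PGroup.mem_omegaOne_of_pow_eq_one hv (orderOf_dvd_iff_pow_eq_one.mp ?_)
      obtain ⟨k, hk⟩ := (IsPGroup.iff_orderOf.mp (PCore.isPGroup_pCore.to_le h.cent)) ⟨v, hv⟩
      rw [← Subgroup.orderOf_mk v hv] at hvp ⊢
      rw [hk] at hvp ⊢
      rw [Nat.Prime.eq_one_of_pow hvp, pow_one]
    obtain ⟨i, rfl⟩ := ha
    exact ((Commute.symm (hx v hv1)).zpow_left i).eq
  have := Coprime.le_centralizer_of_prime_order
    (le_top.trans (normalizer_eq_top_iff.mpr normal_centralizer).ge) hcop hfix (mem_zpowers x)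
  exact (this z (center_le_cQ hz)).symm

omit [Fact p.Prime] in
/-- An abelian subgroup of largest order offends on `V`. -/
theorem offender {A : Subgroup G} (hA : PGroup.IsMaxAb (S : Subgroup G) A) :
    Nat.card ↥(vQ p G) * Nat.card ↥(A ⊓ pCore p G) ≤
      Nat.card ↥A * Nat.card ↥(vQ p G ⊓ centralizer (A : Set G)) := by
  set V := vQ p G
  set A' := (A ⊓ pCore p G) ⊔ V
  have hcom : IsMulCommutative ↥A' := by
    refine PGroup.isMulCommutative_of_forall fun a ha b hb => ?_
    have h1 : A' ≤ centralizer (A' : Set G) := by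
      refine sup_le ?_ ?_ <;> rw [le_centralizer_iff] <;> refine sup_le ?_ ?_ <;>
        rw [← le_centralizer_iff]
      · exact inf_le_left.trans ((PGroup.le_centralizer_of_isMulCommutative hA.2.1).trans
          (centralizer_le inf_le_left))
      · exact inf_le_right.trans pCore_le_centralizer_vQ
      · exact (PGroup.omegaOne_le _).trans (centralizer_le inf_le_right)
      · exact h.vQ_le_pCore.trans pCore_le_centralizer_vQ
    exact (h1 hb a ha)
  have hle := hA.2.2 A' (sup_le (inf_le_left.trans hA.1) h.vQ_le_sylow) hcom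
  have hc := PGV.card_inf_mul_card_sup hcom (le_sup_left : A ⊓ pCore p G ≤ A') (le_sup_right : V ≤ A')
  have hm : (A ⊓ pCore p G) ⊓ V ≤ V ⊓ centralizer (A : Set G) := fun x hx =>
    ⟨hx.2, PGroup.le_centralizer_of_isMulCommutative hA.2.1 hx.1.1⟩
  rw [mul_comm, ← hc]
  exact Nat.mul_le_mul hle (card_le_of_le hm)

variable (hV : centralizer (vQ p G : Set G) ≤ M)
include hV

theorem inf_centralizer_vQ : (S : Subgroup G) ⊓ centralizer (vQ p G : Set G) = pCore p G :=
  le_antisymm (h.inf_le_pCore hV) (le_inf (PCore.pCore_le_sylow S) pCore_le_centralizer_vQ)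

/-- The action of `G` on `V`. -/
theorem act {A₁ : Subgroup G} (hA₁ : PGroup.IsMaxAb (S : Subgroup G) A₁) (hne : ¬ A₁ ≤ pCore p G) :
    Act p S M (vQ p G) := by
  have hQ := h.inf_centralizer_vQ hV
  refine ⟨h.isElementaryAbelian_vQ, h.ne_top, h.SM, fun x hx => h.gen hx, hV,
    fun a ha b hb => pCore_le_centralizer_vQ (h.comm a ha b hb),
    fun a ha => pCore_le_centralizer_vQ (h.pow a ha), by rw [hQ]; exact h.irred,
    fun s hs hc => pCore_le_centralizer_vQ (h.inf_le_pCore (normalCore_le M) ⟨hs, hc⟩),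
    A₁, hA₁.1, fun hc => hne fun a ha => hQ.le ⟨hA₁.1 ha, hc ha⟩, ?_⟩
  rw [show A₁ ⊓ centralizer (vQ p G : Set G) = A₁ ⊓ pCore p G by
    rw [← inf_eq_left.mpr hA₁.1, inf_assoc, hQ, inf_assoc,
      inf_eq_right.mpr (PCore.pCore_le_sylow S)]]
  exact h.offender hA₁

/-- Consequences of the analysis of the pair `S`, `S^x` acting on `V`. -/
theorem pair {A₁ : Subgroup G} (hA₁ : PGroup.IsMaxAb (S : Subgroup G) A₁) (hne : ¬ A₁ ≤ pCore p G) :
    (∀ A : Subgroup G, PGroup.IsMaxAb (S : Subgroup G) A → Nat.card ↥A *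
        Nat.card ↥(vQ p G ⊓ centralizer (A : Set G)) ≤ Nat.card ↥(vQ p G) * Nat.card ↥(A ⊓ pCore p G)) ∧
    (∀ x ∉ M, ∀ v ∈ vQ p G, ∃ a ∈ vQ p G ⊓ centralizer ((S : Subgroup G) : Set G),
      ∃ b ∈ vQ p G ⊓ centralizer (((S : Subgroup G).map (MulAut.conj x).toMonoidHom : Subgroup G) : Set G),
        a * b = v) := by
  refine ⟨fun A hA => ?_, fun x hx v hv => (h.act hV hA₁ hne).split hx hv⟩
  have e : A ⊓ centralizer (vQ p G : Set G) = A ⊓ pCore p G := by
    rw [← inf_eq_left.mpr hA.1, inf_assoc, h.inf_centralizer_vQ hV, inf_assoc,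
      inf_eq_right.mpr (PCore.pCore_le_sylow S)]
  rw [← e]
  exact (h.act hV hA₁ hne).card_le hA.1

end Hyp

end Cfsg.Agent.PushingUp
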