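import Cfsg.Agent.Lib.PushingUp.Vertex

/-!
# Critical paths

Vertices are the cosets `x G` in `Γ`; consecutive vertices differ by `N_Γ(S) G`.  `Good c m`: translates of
`V` at distance at most `m` commute.  A minimal failure gives a critical path; shifting gives arbitrarily
long critical paths alternating between two symmetric types, and these force `m ≤ 1`.

* `exists_crit`, `Crit.out`, `Crit.shift`, `Crit.reverse`, `exists_sym`, `exists_alt`
* `Alt.le_one`: `m ≤ 1`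
-/

set_option autoImplicit false

namespace Cfsg.Agent.PushingUp

open Subgroup
open FFPair (cj mem_cj cj_cj)
open scoped commutatorElement

universe u

variable {Γ : Type u} [Group Γ] {p : ℕ}

/-- Elements at distance at most `k`. -/
def ball (c : Cfg Γ) : ℕ → Set Γ
  | 0 => (c.G : Set Γ)
  | k + 1 => {w | ∃ g ∈ c.G, ∃ n ∈ normalizer (c.S : Set Γ), ∃ w' ∈ ball c k, w = g * n * w'}

variable {c : Cfg Γ}

theorem mul_mem_ball {g w : Γ} {k : ℕ} (hg : g ∈ c.G) (hw : w ∈ ball c k) : g * w ∈ ball c k := by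
  cases k with
  | zero => exact mul_mem hg hw
  | succ k =>
    obtain ⟨g', hg', n, hn, w', hw', rfl⟩ := hw
    exact ⟨g * g', mul_mem hg hg', n, hn, w', hw', by simp only [mul_assoc]⟩

theorem step_mem_ball {n g : Γ} (hn : n ∈ normalizer (c.S : Set Γ)) (hg : g ∈ c.G) :
    n * g ∈ ball c 1 :=
  ⟨1, one_mem _, n, hn, g, hg, by rw [one_mul]⟩

theorem ball_succ {k : ℕ} {w : Γ} (hw : w ∈ ball c k) : w ∈ ball c (k + 1) :=
  ⟨1, one_mem _, 1, one_mem _, w, hw, by group⟩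

theorem ball_mono {j k : ℕ} (h : j ≤ k) {w : Γ} (hw : w ∈ ball c j) : w ∈ ball c k := by
  induction h with
  | refl => exact hw
  | step _ ih => exact ball_succ ih

theorem ball_add {i j : ℕ} {w w' : Γ} (hw : w ∈ ball c i) (hw' : w' ∈ ball c j) :
    w * w' ∈ ball c (i + j) := by
  induction i generalizing w with
  | zero => rw [zero_add]; exact mul_mem_ball hw hw'
  | succ i ih =>
    obtain ⟨g, hg, n, hn, v, hv, rfl⟩ := hw
    rw [show i + 1 + j = i + j + 1 by omega]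
    exact ⟨g, hg, n, hn, _, ih hv, by simp only [mul_assoc]⟩

theorem ball_inv {k : ℕ} {w : Γ} (hw : w ∈ ball c k) : w⁻¹ ∈ ball c k := by
  induction k generalizing w with
  | zero => exact inv_mem hw
  | succ k ih =>
    obtain ⟨g, hg, n, hn, v, hv, rfl⟩ := hw
    rw [show (g * n * v)⁻¹ = v⁻¹ * (n⁻¹ * g⁻¹) by group]
    exact ball_add (ih hv) (step_mem_ball (inv_mem hn) (inv_mem hg))

/-- Translates of `V` up to distance `k` commute. -/
def Good (c : Cfg Γ) (k : ℕ) : Prop :=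
  ∀ w ∈ ball c k, cj w c.V ≤ centralizer (c.V : Set Γ)

theorem Good.mono {j k : ℕ} (h : Good c k) (hjk : j ≤ k) : Good c j :=
  fun w hw => h w (ball_mono hjk hw)

theorem Good.comm {k : ℕ} (h : Good c k) {x y : Γ} (hxy : x⁻¹ * y ∈ ball c k) :
    cj y c.V ≤ centralizer (cj x c.V : Set Γ) := by
  rw [← mul_inv_cancel_left x y, ← cj_cj, le_centralizer_cj_iff]
  exact h _ hxy

/-- `G` does not normalise `V V^n`. -/
def Out (c : Cfg Γ) (n : Γ) : Prop := ¬ c.G ≤ normalizer ((c.V ⊔ cj n c.V : Subgroup Γ) : Set Γ)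

/-- `e i` is an element for the vertex `i` on the edge from `i` to `i + 1`. -/
structure Crit (c : Cfg Γ) (m : ℕ) (e : ℕ → Γ) : Prop where
  step : ∀ i ≤ m, ∃ n ∈ normalizer (c.S : Set Γ), ∃ g ∈ c.G, e (i + 1) = e i * n * g
  moves : ¬ cj (e 0) c.V ≤ centralizer (cj (e (m + 1)) c.V : Set Γ)

theorem ball_of_steps {e : ℕ → Γ} {i : ℕ} : ∀ {d : ℕ},
    (∀ l, i ≤ l → l < i + d → ∃ n ∈ normalizer (c.S : Set Γ), ∃ g ∈ c.G, e (l + 1) = e l * n * g) →
    (e i)⁻¹ * e (i + d) ∈ ball c d := by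
  intro d
  induction d with
  | zero => intro _; rw [Nat.add_zero, inv_mul_cancel]; exact one_mem c.G
  | succ d ih =>
    intro hs
    obtain ⟨n, hn, g, hg, e1⟩ := hs (i + d) (by omega) (by omega)
    rw [← Nat.add_assoc, e1, show (e i)⁻¹ * (e (i + d) * n * g) = (e i)⁻¹ * e (i + d) * (n * g) by group]
    exact ball_add (ih fun l h1 h2 => hs l h1 (by omega)) (step_mem_ball hn hg)

namespace Crit

variable {m : ℕ} {e : ℕ → Γ}

theorem dist (hc : Crit c m e) {i j : ℕ} (hij : i ≤ j) (hj : j ≤ m + 1) :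
    (e i)⁻¹ * e j ∈ ball c (j - i) := by
  obtain ⟨d, rfl⟩ := Nat.exists_eq_add_of_le hij
  rw [Nat.add_sub_cancel_left]
  exact ball_of_steps fun l _ h2 => hc.step l (by omega)

end Crit

variable [Finite Γ]

namespace Base

variable (h : Base p c)
include h

omit [Finite Γ] in
theorem good_zero : Good c 0 := fun w hw v hv u hu => by
  rw [h.conj_V hw] at hv
  exact h.V_comm hu hv

omit [Finite Γ] in
/-- Below the critical distance translates lie in `Q`. -/
theorem good_le {k : ℕ} (hk : Good c k) {w : Γ} (hw : w ∈ ball c k) : cj w c.V ≤ c.Q := by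
  induction k generalizing w with
  | zero => rw [h.conj_V hw]; exact h.VQ
  | succ k ih =>
    obtain ⟨g, hg, n, hn, w', hw', rfl⟩ := hw
    have h1 : cj (g * n * w') c.V ≤ cj g c.S := by
      rw [← Base.conj_S hn, cj_cj g n c.S, ← cj_cj (g * n) w']
      exact cj_le_cj.mpr ((ih (hk.mono (by omega)) hw').trans h.QS)
    have h2 := (h.conj g).centV
    simp only [Cfg.conj, h.conj_V hg, h.conj_Q hg] at h2
    exact le_trans (le_inf h1 (hk _ ⟨g, hg, n, hn, w', hw', rfl⟩)) h2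

omit [Finite Γ] in
/-- At the critical distance, commuting translates lie in `Q`. -/
theorem good_le_of_comm {k : ℕ} (hk : Good c k) {w : Γ} (hw : w ∈ ball c (k + 1))
    (hc : cj w c.V ≤ centralizer (c.V : Set Γ)) : cj w c.V ≤ c.Q := by
  obtain ⟨g, hg, n, hn, w', hw', rfl⟩ := hw
  have h1 : cj (g * n * w') c.V ≤ cj g c.S := by
    rw [← Base.conj_S hn, cj_cj g n c.S, ← cj_cj (g * n) w']
    exact cj_le_cj.mpr ((h.good_le hk hw').trans h.QS)
  have h2 := (h.conj g).centV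
  simp only [Cfg.conj, h.conj_V hg, h.conj_Q hg] at h2
  exact le_trans (le_inf h1 hc) h2

omit [Finite Γ] h in
theorem exists_path : ∀ {k : ℕ} {w : Γ}, w ∈ ball c k →
    ∃ e : ℕ → Γ, e 0 ∈ c.G ∧ e k = w ∧
      ∀ i < k, ∃ n ∈ normalizer (c.S : Set Γ), ∃ g ∈ c.G, e (i + 1) = e i * n * g := by
  intro k
  induction k with
  | zero => intro w hw; exact ⟨fun _ => w, hw, rfl, fun i hi => absurd hi (by omega)⟩
  | succ k ih =>
    rintro w ⟨g, hg, n, hn, w', hw', rfl⟩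
    obtain ⟨e', he0, hek, hs⟩ := ih hw'
    refine ⟨fun i => match i with | 0 => g | i + 1 => g * n * e' i, hg,
      show g * n * e' k = g * n * w' by rw [hek], fun i hi => ?_⟩
    cases i with
    | zero => exact ⟨n, hn, e' 0, he0, rfl⟩
    | succ i =>
      obtain ⟨n', hn', g', hg', e1⟩ := hs i (by omega)
      exact ⟨n', hn', g', hg',
        show g * n * e' (i + 1) = g * n * e' i * n' * g' by rw [e1]; simp only [mul_assoc]⟩

/-- A critical path exists. -/
theorem exists_crit (hnc : NoCommon c) : ∃ (m : ℕ) (e : ℕ → Γ), Good c m ∧ Crit c m e := by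
  classical
  have hex : ∃ k, ¬ Good c k := by
    by_contra hc
    push Not at hc
    set T : Subgroup Γ := ⨆ (k : ℕ) (w : ball c k), cj (w : Γ) c.V
    have hle : ∀ {k : ℕ} {w : Γ}, w ∈ ball c k → cj w c.V ≤ T := fun {k w} hw =>
      le_iSup_of_le k (le_iSup_of_le (⟨w, hw⟩ : ball c k) le_rfl)
    have hTQ : T ≤ c.Q := iSup_le fun k => iSup_le fun w => h.good_le (hc k) w.2
    have hinv : ∀ H : Subgroup Γ, (∀ x ∈ H, ∀ (k : ℕ) (w : Γ), w ∈ ball c k → x * w ∈ ball c (k + 1)) →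
        H ≤ normalizer (T : Set Γ) := by
      intro H hH x hx
      refine PGroup.mem_normalizer_of_map_conj_eq (eq_of_le_of_card_ge ?_ (card_cj x T).ge)
      rw [Subgroup.map_iSup]
      refine iSup_le fun k => ?_
      rw [Subgroup.map_iSup]
      refine iSup_le fun w => ?_
      show cj x (cj (w : Γ) c.V) ≤ T
      rw [cj_cj]
      exact hle (hH x hx k w w.2)
    have hT := hnc T (hTQ.trans h.QS)
      (hinv _ fun x hx k w hw => ball_succ (mul_mem_ball hx hw))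
      (hinv _ fun x hx k w hw => ⟨1, one_mem _, x, hx, w, hw, by rw [one_mul]⟩)
    have hV : c.V = ⊥ := le_bot_iff.mp (hT ▸ (cj_one c.V ▸ hle (k := 0) (one_mem c.G)))
    exact h.ne fun s hs => h.centV ⟨hs, fun v hv => by
      rw [hV] at hv
      rw [mem_bot.mp hv, one_mul, mul_one]⟩
  obtain ⟨m, hm⟩ : ∃ m, Nat.find hex = m + 1 := by
    refine ⟨Nat.find hex - 1, ?_⟩
    have : Nat.find hex ≠ 0 := fun e => Nat.find_spec hex (e ▸ h.good_zero)
    omega
  have hbad := Nat.find_spec hex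
  rw [hm] at hbad
  rw [Good] at hbad
  push Not at hbad
  obtain ⟨w, hw, hne⟩ := hbad
  obtain ⟨e, he0, hek, hs⟩ := exists_path hw
  refine ⟨m, e, not_not.mp (Nat.find_min hex (by omega)), fun i hi => hs i (by omega), fun hc => hne ?_⟩
  rw [h.conj_V he0, hek] at hc
  exact le_centralizer_iff.mp hc

end Base

namespace Crit

variable {m : ℕ} {e : ℕ → Γ} (h : Base p c) (hg : Good c m) (hc : Crit c m e)
include h hg hc

omit [Finite Γ] in
theorem right_le : cj (e (m + 1)) c.V ≤ cj (e 0) c.S := by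
  obtain ⟨n, hn, g, hgG, e1⟩ := hc.step 0 (Nat.zero_le m)
  have hb : (e 0 * n)⁻¹ * e (m + 1) ∈ ball c m := by
    rw [show (e 0 * n)⁻¹ * e (m + 1) = g * ((e 1)⁻¹ * e (m + 1)) by rw [e1]; group]
    exact mul_mem_ball hgG (hc.dist (i := 1) (j := m + 1) (by omega) le_rfl)
  rw [← mul_inv_cancel_left (e 0 * n) (e (m + 1)), ← cj_cj, ← Base.conj_S hn, cj_cj (e 0) n]
  exact cj_le_cj.mpr ((h.good_le hg hb).trans h.QS)

omit [Finite Γ] in
theorem left_le : cj (e 0) c.V ≤ cj (e m) c.S := by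
  have hb := ball_inv (hc.dist (Nat.zero_le m) (by omega))
  rw [Nat.sub_zero, mul_inv_rev, inv_inv] at hb
  rw [← mul_inv_cancel_left (e m) (e 0), ← cj_cj]
  exact cj_le_cj.mpr ((h.good_le hg hb).trans h.QS)

/-- The last translate covers `S / Q` at the first edge. -/
theorem cover_left :
    cj (e (m + 1)) c.V ⊔ cj (e 0) c.Q = cj (e 0) c.S ∧
      cj (e (m + 1)) c.V ⊓ cj (e 0) c.Q = cj (e m) c.Zs := by
  obtain ⟨n, hn, g, hgG, e1⟩ := hc.step m le_rfl
  have hf : cj (e (m + 1)) c.V = cj (e m * n) c.V := by rw [e1, ← cj_cj, h.conj_V hgG]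
  have h1 := (h.conj (e 0)).cover (e := e m * n * (e 0)⁻¹)
  simp only [Cfg.conj, cj_cj, inv_mul_cancel_right] at h1
  rw [← hf, ← cj_cj (e m) n c.S, Base.conj_S hn, ← cj_cj (e m) n c.Zs, h.conj_Zs hn] at h1
  exact h1 (right_le h hg hc) (left_le h hg hc) hc.moves

/-- The first translate covers `S / Q` at the last edge. -/
theorem cover_right {n g : Γ} (hn : n ∈ normalizer (c.S : Set Γ)) (hgG : g ∈ c.G)
    (e1 : e (m + 1) = e m * n * g) :
    cj (e 0) c.V ⊔ cj (e (m + 1)) c.Q = cj (e m) c.S ∧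
      cj (e 0) c.V ⊓ cj (e (m + 1)) c.Q = cj (e 0) c.Zs := by
  have hf : cj (e (m + 1)) c.V = cj (e m * n) c.V := by rw [e1, ← cj_cj, h.conj_V hgG]
  have hq : cj (e (m + 1)) c.Q = cj (e m * n) c.Q := by rw [e1, ← cj_cj, h.conj_Q hgG]
  have h1 := (h.conj (e m * n)).cover (e := e 0 * (e m * n)⁻¹)
  simp only [Cfg.conj, cj_cj, inv_mul_cancel_right] at h1
  rw [← hf, ← hq, ← cj_cj (e m) n c.S, Base.conj_S hn] at h1
  exact h1 (left_le h hg hc) (right_le h hg hc) fun hh => hc.moves (le_centralizer_iff.mp hh)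

omit [Finite Γ] in
/-- At both ends of a critical path the inner vertex moves the outer one. -/
theorem out (hm : 1 ≤ m) {n g : Γ} (hn : n ∈ normalizer (c.S : Set Γ)) (hgG : g ∈ c.G)
    (e1 : e 1 = e 0 * n * g) : Out c n⁻¹ := by
  intro hU
  obtain ⟨n₁, hn₁, g₁, hg₁, e2⟩ := hc.step 1 hm
  have hfix : c.V ⊔ cj (g * n⁻¹) c.V = c.V ⊔ cj n⁻¹ c.V := by
    have := cj_eq_self_of_mem_normalizer (hU hgG)
    rwa [cj_sup, h.conj_V hgG, cj_cj] at this
  have hle : cj (e 0) c.V ≤ cj (e 0 * n) c.V ⊔ cj (e 1 * n⁻¹) c.V := by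
    have h1 : cj n⁻¹ c.V ≤ c.V ⊔ cj (g * n⁻¹) c.V := hfix ▸ le_sup_right
    have h2 := cj_le_cj (e := e 0 * n).mpr h1
    rwa [cj_sup, cj_cj, cj_cj, mul_inv_cancel_right, ← mul_assoc, ← e1] at h2
  refine hc.moves (hle.trans (sup_le ?_ ?_)) <;> rw [le_centralizer_iff] <;> refine hg.comm ?_
  · rw [show (e 0 * n)⁻¹ * e (m + 1) = g * ((e 1)⁻¹ * e (m + 1)) by rw [e1]; group]
    exact mul_mem_ball hgG (hc.dist (i := 1) (j := m + 1) (by omega) le_rfl)
  · rw [show (e 1 * n⁻¹)⁻¹ * e (m + 1) = (n * n₁ * g₁) * ((e 2)⁻¹ * e (m + 1)) by rw [e2]; group]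
    exact ball_mono (show 1 + (m + 1 - 2) ≤ m by omega)
      (ball_add (step_mem_ball (mul_mem hn hn₁) hg₁) (hc.dist (by omega) le_rfl))

omit [Finite Γ] in
/-- The reversed path. -/
theorem reverse {n g : Γ} (hn : n ∈ normalizer (c.S : Set Γ)) (hgG : g ∈ c.G)
    (e1 : e (m + 1) = e m * n * g) :
    ∃ e' : ℕ → Γ, Crit c m e' ∧ ∃ g' ∈ c.G, e' 1 = e' 0 * n⁻¹ * g' := by
  choose! nn hnn gg hgg hee using hc.step
  let n' : ℕ → Γ := fun l => if l = m then n else nn l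
  have hs : ∀ l ≤ m, n' l ∈ normalizer (c.S : Set Γ) ∧ ∃ g' ∈ c.G, e (l + 1) = e l * n' l * g' := by
    intro l hl
    by_cases hlm : l = m
    · subst hlm
      simp only [n', if_true]
      exact ⟨hn, g, hgG, e1⟩
    · simp only [n', if_neg hlm]
      exact ⟨hnn l hl, gg l, hgg l hl, hee l hl⟩
  refine ⟨fun i => if i ≤ m then e (m - i) * n' (m - i) else e 0, ⟨fun i hi => ?_, ?_⟩, ?_⟩
  · rcases Nat.lt_or_eq_of_le hi with hlt | rfl
    · obtain ⟨-, g', hg', e2⟩ := hs (m - (i + 1)) (by omega)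
      refine ⟨(n' (m - i))⁻¹, inv_mem (hs (m - i) (by omega)).1, g'⁻¹, inv_mem hg', ?_⟩
      rw [show m - (i + 1) + 1 = m - i by omega] at e2
      simp only [show i + 1 ≤ m by omega, hi, if_true]
      rw [show e (m - (i + 1)) * n' (m - (i + 1)) = e (m - i) * g'⁻¹ by rw [e2]; group]
      group
    · refine ⟨(n' 0)⁻¹, inv_mem (hs 0 (Nat.zero_le _)).1, 1, one_mem _, ?_⟩
      simp only [le_refl, if_true, Nat.sub_self, show ¬ i + 1 ≤ i by omega, if_false]
      group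
  · simp only [Nat.zero_le, if_true, Nat.sub_zero, show ¬ m + 1 ≤ m by omega, if_false]
    rw [show n' m = n by simp [n']]
    intro hh
    refine hc.moves (le_centralizer_iff.mp ?_)
    rwa [e1, ← cj_cj, h.conj_V hgG]
  · by_cases hm : 1 ≤ m
    · obtain ⟨-, g', hg', e2⟩ := hs (m - 1) (by omega)
      refine ⟨g'⁻¹, inv_mem hg', ?_⟩
      rw [show m - 1 + 1 = m by omega] at e2
      simp only [hm, Nat.zero_le, if_true, Nat.sub_zero]
      rw [show n' m = n by simp [n'], show e (m - 1) * n' (m - 1) = e m * g'⁻¹ by rw [e2]; group]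
      group
    · refine ⟨1, one_mem _, ?_⟩
      obtain rfl : m = 0 := by omega
      simp only [show ¬ 1 ≤ 0 by omega, Nat.le_refl, if_true, if_false, Nat.sub_self]
      rw [show n' 0 = n by simp [n']]
      group

/-- Any neighbour of the first vertex that it moves extends the path to the left. -/
theorem shift {k g : Γ} (hk : k ∈ normalizer (c.S : Set Γ)) (hout : Out c k) (hgG : g ∈ c.G)
    (hmov : cj g c.Zs ≠ c.Zs) :
    Crit c m (fun i => match i with | 0 => e 0 * g * k | i + 1 => e i) := by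
  refine ⟨fun i hi => ?_, fun hA => hout ?_⟩
  · cases i with
    | zero => exact ⟨k⁻¹, inv_mem hk, g⁻¹, inv_mem hgG, show e 0 = e 0 * g * k * k⁻¹ * g⁻¹ by group⟩
    | succ i => exact hc.step i (by omega)
  change cj (e 0 * g * k) c.V ≤ centralizer (cj (e m) c.V : Set Γ) at hA
  set A := cj (e 0 * g * k) c.V with hAdef
  -- `A` lies in `Q` at the vertex `m`
  have hball : (e m)⁻¹ * (e 0 * g * k) ∈ ball c (m + 1) := by
    have h1 := ball_inv (hc.dist (Nat.zero_le m) (by omega))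
    rw [Nat.sub_zero, mul_inv_rev, inv_inv] at h1
    rw [show (e m)⁻¹ * (e 0 * g * k) = (e m)⁻¹ * e 0 * (g * k) by group]
    exact ball_add h1 ⟨g, hgG, k, hk, 1, one_mem c.G, by group⟩
  have hAQ : A ≤ cj (e m) c.Q := by
    rw [hAdef, ← mul_inv_cancel_left (e m) (e 0 * g * k), ← cj_cj, cj_le_cj]
    refine h.good_le_of_comm hg hball ?_
    rw [← le_centralizer_cj_iff (e := e m), cj_cj, mul_inv_cancel_left]
    exact hA
  obtain ⟨n, hn, g₀, hg₀, e1⟩ := hc.step m le_rfl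
  have hcov := (cover_right h hg hc hn hg₀ e1).1
  have hleft := (cover_left h hg hc).1
  set U := cj (e 0) c.V ⊔ A
  have h0V : cj (e 0) c.S ≤ normalizer (cj (e 0) c.V : Set Γ) :=
    (cj_le_cj.mpr (h.SG.trans h.GV)).trans (cj_normalizer _ _).le
  have hgA : cj (e 0 * g) c.S ≤ normalizer (A : Set Γ) := by
    rw [hAdef, ← cj_normalizer, ← cj_cj (e 0 * g) k, cj_le_cj, ← Base.conj_S hk, cj_le_cj]
    exact h.SG.trans h.GV
  have hgV : cj (e 0 * g) c.S ≤ normalizer (cj (e 0) c.V : Set Γ) := by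
    rw [← cj_cj, ← cj_normalizer, cj_le_cj, ← h.conj_V hgG, ← cj_normalizer, cj_le_cj]
    exact h.SG.trans h.GV
  have hb1 : cj (e 0) c.Q ≤ cj (e 0 * g) c.S := by
    rw [← cj_cj, cj_le_cj, ← h.conj_Q hgG, cj_le_cj]
    exact h.QS
  have hgU : cj (e 0 * g) c.S ≤ normalizer (U : Set Γ) := fun y hy =>
    PGroup.mem_normalizer_of_map_conj_eq (by
      rw [Subgroup.map_sup, PGroup.map_conj_eq_of_mem_normalizer (hgV hy),
        PGroup.map_conj_eq_of_mem_normalizer (hgA hy)])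
  have hS : cj (e 0) c.S ≤ normalizer (U : Set Γ) := by
    rw [← hleft]
    refine sup_le (fun a ha => ?_) (hb1.trans hgU)
    have ha0 : a ∈ cj (e 0) c.S := right_le h hg hc ha
    refine PGroup.mem_normalizer_of_map_conj_eq (eq_of_le_of_card_ge ?_ (card_cj a U).ge)
    show cj a U ≤ U
    rw [cj_sup, cj_eq_self_of_mem_normalizer (h0V ha0)]
    refine sup_le le_sup_left ?_
    rintro _ ⟨x, hx, rfl⟩
    have hxS : x ∈ cj (e m) c.S := cj_le_cj.mpr h.QS (hAQ hx)
    rw [← hcov] at hxS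
    have hVQn : cj (e 0) c.V ≤ normalizer (cj (e (m + 1)) c.Q : Set Γ) := by
      refine (left_le h hg hc).trans ?_
      rw [show cj (e (m + 1)) c.Q = cj (e m * n) c.Q by rw [e1, ← cj_cj _ g₀, h.conj_Q hg₀],
        show cj (e m) c.S = cj (e m * n) c.S by rw [← cj_cj, Base.conj_S hn], ← cj_normalizer,
        cj_le_cj]
      exact h.SG.trans h.GQ
    obtain ⟨v, hv, q, hq, rfl⟩ := (Coprime.mem_sup_iff_of_le_normalizer hVQn).mp hxS
    · have hqa : q * a = a * q :=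
        ((h.conj (e (m + 1))).QV hq a ha).symm
      show a * (v * q) * a⁻¹ ∈ U
      rw [show a * (v * q) * a⁻¹ = (a * v * a⁻¹ * v⁻¹) * (v * ((a * q) * a⁻¹)) by group, ← hqa,
        mul_inv_cancel_right]
      exact mul_mem (mem_sup_left (mul_mem ((mem_normalizer_iff.mp (h0V ha0) v).mp hv) (inv_mem hv)))
        (mem_sup_right hx)
  have hG0 : cj (e 0) c.G ≤ normalizer (U : Set Γ) := by
    rw [← ((h.dich g hgG).resolve_left hmov).1, cj_sup, cj_cj]
    exact sup_le hS hgU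
  rw [show U = cj (e 0) (c.V ⊔ cj (g * k) c.V) by rw [cj_sup, cj_cj, ← mul_assoc], ← cj_normalizer,
    cj_le_cj] at hG0
  have h2 := cj_le_cj (e := g⁻¹).mpr hG0
  rw [Base.conj_G (inv_mem hgG), cj_normalizer, cj_sup, h.conj_V (inv_mem hgG), cj_cj,
    inv_mul_cancel_left] at h2
  exact h2

end Crit

namespace Base

variable (h : Base p c) {m : ℕ} (hg : Good c m) (hm : 1 ≤ m)
include h hg hm

theorem exists_out (hnc : NoCommon c) : ∃ k ∈ normalizer (c.S : Set Γ), Out c k := by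
  by_contra hc
  push Not at hc
  set T : Subgroup Γ := ⨆ k : normalizer (c.S : Set Γ), c.V ⊔ cj (k : Γ) c.V
  have hTS : T ≤ c.S := iSup_le fun k => by
    refine (sup_le h.VQ (h.good_le (hg.mono hm) ?_)).trans h.QS
    simpa using step_mem_ball (c := c) k.2 (one_mem c.G)
  have hVT : c.V ≤ T := le_iSup_of_le (1 : normalizer (c.S : Set Γ)) le_sup_left
  have hkT : ∀ k ∈ normalizer (c.S : Set Γ), cj k c.V ≤ T := fun k hk =>
    le_iSup_of_le (⟨k, hk⟩ : normalizer (c.S : Set Γ)) le_sup_right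
  have hG : c.G ≤ normalizer (T : Set Γ) := fun g hgG => by
    refine PGroup.mem_normalizer_of_map_conj_eq ?_
    rw [Subgroup.map_iSup]
    exact iSup_congr fun k =>
      PGroup.map_conj_eq_of_mem_normalizer (not_not.mp (hc k k.2) hgG)
  have hN : normalizer (c.S : Set Γ) ≤ normalizer (T : Set Γ) := fun n hn => by
    refine PGroup.mem_normalizer_of_map_conj_eq (eq_of_le_of_card_ge ?_ (card_cj n T).ge)
    rw [Subgroup.map_iSup]
    refine iSup_le fun k => ?_
    show cj n (c.V ⊔ cj (k : Γ) c.V) ≤ T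
    rw [cj_sup, cj_cj]
    exact sup_le (hkT n hn) (hkT _ (mul_mem hn k.2))
  have hV : c.V = ⊥ := le_bot_iff.mp (hnc T hTS hG hN ▸ hVT)
  exact h.ne fun s hs => h.centV ⟨hs, fun v hv => by
    rw [hV] at hv
    rw [mem_bot.mp hv, one_mul, mul_one]⟩

/-- A critical path starting with a symmetric type. -/
theorem exists_sym (hnc : NoCommon c) {e : ℕ → Γ} (hc : Crit c m e) : ∃ (e' : ℕ → Γ) (k : Γ),
    k ∈ normalizer (c.S : Set Γ) ∧ Out c k ∧ Out c k⁻¹ ∧ Crit c m e' ∧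
      ∃ g ∈ c.G, e' 1 = e' 0 * k * g := by
  obtain ⟨k₀, hk₀, hout₀⟩ := h.exists_out hg hm hnc
  obtain ⟨g₀, hg₀, hmov, -⟩ := h.gen
  have key : ∀ j ≤ m, ∃ e : ℕ → Γ, Crit c m e ∧ ∃ k ∈ normalizer (c.S : Set Γ), Out c k ∧
      ∃ g ∈ c.G, e (j + 1) = e j * k⁻¹ * g := by
    intro j hj
    induction j with
    | zero => exact ⟨_, Crit.shift h hg hc hk₀ hout₀ hg₀ hmov, k₀, hk₀, hout₀, g₀⁻¹, inv_mem hg₀,
        show e 0 = e 0 * g₀ * k₀ * k₀⁻¹ * g₀⁻¹ by group⟩
    | succ j ih =>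
      obtain ⟨e', hc', k, hk, hout, g, hgG, e1⟩ := ih (by omega)
      exact ⟨_, Crit.shift h hg hc' hk₀ hout₀ hg₀ hmov, k, hk, hout, g, hgG, e1⟩
  obtain ⟨e', hc', k, hk, hout, g, hgG, e1⟩ := key m le_rfl
  obtain ⟨e'', hc'', g', hg', e2⟩ := Crit.reverse h hg hc' (inv_mem hk) hgG e1
  rw [inv_inv] at e2
  exact ⟨e'', k, hk, hout, Crit.out h hg hc'' hm hk hg' e2, hc'', g', hg', e2⟩

end Base

/-- The alternating types. -/
def alt (k : Γ) (i : ℕ) : Γ := if Even i then k else k⁻¹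

omit [Finite Γ] in
theorem alt_succ (k : Γ) (i : ℕ) : alt k (i + 1) = (alt k i)⁻¹ := by
  by_cases hi : Even i
  · simp [alt, hi, Nat.even_add_one]
  · simp [alt, hi, Nat.even_add_one]

omit [Finite Γ] in
theorem alt_inv (k : Γ) (i : ℕ) : alt k⁻¹ i = (alt k i)⁻¹ := by
  by_cases hi : Even i <;> simp [alt, hi]

omit [Finite Γ] in
theorem alt_mem {k : Γ} (hk : k ∈ normalizer (c.S : Set Γ)) (i : ℕ) :
    alt k i ∈ normalizer (c.S : Set Γ) := by
  by_cases hi : Even i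
  · simp [alt, hi, hk]
  · simpa [alt, hi] using hk

/-- An alternating path of length `L` all of whose windows are critical. -/
structure Alt (c : Cfg Γ) (m L : ℕ) (k : Γ) (e : ℕ → Γ) : Prop where
  memN : k ∈ normalizer (c.S : Set Γ)
  out : Out c k
  out' : Out c k⁻¹
  step : ∀ i < L, ∃ g ∈ c.G, cj g c.Zs ≠ c.Zs ∧ e (i + 1) = e i * alt k i * g
  window : ∀ i, i + (m + 1) ≤ L → Crit c m (fun l => e (i + l))

theorem Base.exists_alt (h : Base p c) (hnc : NoCommon c) {m : ℕ} (hg : Good c m) (hm : 1 ≤ m) {e₀ : ℕ → Γ}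
    (hc : Crit c m e₀) (L : ℕ) : ∃ (k : Γ) (e : ℕ → Γ), Alt c m L k e := by
  obtain ⟨g₀, hg₀, hmov, -⟩ := h.gen
  have hmov' : cj g₀⁻¹ c.Zs ≠ c.Zs := fun e => hmov (by
    conv_lhs => rw [← e]
    rw [cj_cj, mul_inv_cancel, cj_one])
  have key : ∀ j, ∃ (k : Γ) (e : ℕ → Γ), k ∈ normalizer (c.S : Set Γ) ∧ Out c k ∧ Out c k⁻¹ ∧
      (∃ g ∈ c.G, e 1 = e 0 * k * g) ∧
      (∀ i < j, ∃ g ∈ c.G, cj g c.Zs ≠ c.Zs ∧ e (i + 1) = e i * alt k i * g) ∧
      ∀ i ≤ j, Crit c m (fun l => e (i + l)) := by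
    intro j
    induction j with
    | zero =>
      obtain ⟨e, k, hk, h1, h2, hc', hs⟩ := h.exists_sym hg hm hnc hc
      exact ⟨k, e, hk, h1, h2, hs, fun i hi => absurd hi (by omega), fun i hi => by
        obtain rfl : i = 0 := by omega
        simpa using hc'⟩
    | succ j ih =>
      obtain ⟨k, e, hk, h1, h2, -, hs, hw⟩ := ih
      have hc0 : Crit c m e := by simpa using hw 0 (Nat.zero_le _)
      refine ⟨k⁻¹, fun i => match i with | 0 => e 0 * g₀ * k | i + 1 => e i, inv_mem hk, h2,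
        (inv_inv k).symm ▸ h1, ⟨g₀⁻¹, inv_mem hg₀, show e 0 = e 0 * g₀ * k * k⁻¹ * g₀⁻¹ by group⟩,
        fun i hi => ?_, fun i hi => ?_⟩
      · cases i with
        | zero =>
          refine ⟨g₀⁻¹, inv_mem hg₀, hmov', ?_⟩
          show e 0 = e 0 * g₀ * k * alt k⁻¹ 0 * g₀⁻¹
          rw [show alt k⁻¹ 0 = k⁻¹ by simp [alt]]
          group
        | succ i =>
          obtain ⟨g, hgG, hgm, e1⟩ := hs i (by omega)
          refine ⟨g, hgG, hgm, ?_⟩
          rw [alt_succ, alt_inv, inv_inv]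
          exact e1
      · cases i with
        | zero =>
          convert Crit.shift h hg hc0 hk h1 hg₀ hmov using 1
          funext l
          simp only [Nat.zero_add]
        | succ i =>
          convert hw i (by omega) using 1
          funext l
          show (match i + 1 + l with | 0 => e 0 * g₀ * k | i + 1 => e i) = e (i + l)
          rw [show i + 1 + l = i + l + 1 by omega]
  obtain ⟨k, e, hk, h1, h2, -, hs, hw⟩ := key L
  exact ⟨k, e, hk, h1, h2, hs, fun i hi => hw i (by omega)⟩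

namespace Alt

variable {m L : ℕ} {k : Γ} {e : ℕ → Γ} (h : Base p c) (hg : Good c m) (ha : Alt c m L k e)
include h hg ha

omit [Finite Γ] hg in
theorem vertex {i : ℕ} (hi : i + 1 < L) :
    cj (e i) c.Zs ⊔ cj (e (i + 1)) c.Zs = cj (e (i + 1)) c.V ∧
      cj (e i) c.Zs ⊓ cj (e (i + 1)) c.Zs = cj (e (i + 1)) c.Z := by
  obtain ⟨g, hgG, hgm, e1⟩ := ha.step i (by omega)
  obtain ⟨-, h2, h3⟩ := (h.dich g hgG).resolve_left hgm
  have ef : ∀ H, cj (e (i + 1)) H = cj (e i * alt k i) (cj g H) := fun H => by rw [e1, cj_cj]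
  have e0 : cj (e i) c.Zs = cj (e i * alt k i) c.Zs := by
    rw [← cj_cj, h.conj_Zs (alt_mem ha.memN i)]
  rw [e0, ef c.Zs, ef c.V, ef c.Z, ← cj_sup, ← cj_inf, h2, h3, h.conj_V hgG, h.conj_Z hgG]
  exact ⟨rfl, rfl⟩

omit [Finite Γ] h hg in
theorem dist {i d : ℕ} (hd : i + d ≤ L) : (e i)⁻¹ * e (i + d) ∈ ball c d :=
  ball_of_steps fun l _ h2 => by
    obtain ⟨g, hgG, -, e1⟩ := ha.step l (by omega)
    exact ⟨_, alt_mem ha.memN l, g, hgG, e1⟩

omit [Finite Γ] hg in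
theorem inter_const {i : ℕ} (hi : i + 2 ≤ L) :
    cj (e i) c.Z ⊓ cj (e (i + 1)) c.Z = cj (e (i + 1)) c.Z ⊓ cj (e (i + 2)) c.Z := by
  obtain ⟨g, hgG, -, e1⟩ := ha.step i (by omega)
  obtain ⟨g', hgG', -, e2⟩ := ha.step (i + 1) (by omega)
  set f := e i * alt k i
  have hf : cj (e (i + 1)) c.Z = cj f c.Z := by rw [e1, ← cj_cj, h.conj_Z hgG]
  have hn : ∀ z ∈ cj (e (i + 1)) c.Z, f * g * f⁻¹ * z * (f * g * f⁻¹)⁻¹ = z := fun z hz => by
    have hb := h.conj f
    exact hb.Z_central (show z ∈ (c.conj f).Z from hf.le hz) (mem_cj_conj hgG)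
  have h2 : cj (e (i + 2)) c.Z = cj (f * g * f⁻¹) (cj (e i) c.Z) := by
    rw [cj_cj, e2, ← cj_cj (e (i + 1) * alt k (i + 1)), h.conj_Z hgG', e1, alt_succ,
      show f * g * f⁻¹ * e i = f * g * (alt k i)⁻¹ by simp only [f]; group]
  have hfix : cj (f * g * f⁻¹) (cj (e (i + 1)) c.Z) = cj (e (i + 1)) c.Z := by
    refine le_antisymm ?_ fun z hz => ⟨z, hz, hn z hz⟩
    rintro _ ⟨z, hz, rfl⟩
    show f * g * f⁻¹ * z * (f * g * f⁻¹)⁻¹ ∈ _
    rw [hn z hz]; exact hz
  refine le_antisymm (fun z hz => ⟨hz.2, h2 ▸ ⟨z, hz.1, hn z hz.2⟩⟩) fun z hz => ⟨?_, hz.1⟩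
  obtain ⟨y, hy, hyz⟩ := (h2 ▸ hz.2 : z ∈ cj (f * g * f⁻¹) (cj (e i) c.Z))
  have : y = z := (MulAut.conj (f * g * f⁻¹)).injective (hyz.trans (hn z hz.1).symm)
  exact this ▸ hy

/-- The commutator of the ends of a window. -/
theorem window_data {i : ℕ} (hi : i + (m + 1) ≤ L) :
    cj (e i) c.Zs ≤ ⁅cj (e (i + (m + 1))) c.V, cj (e i) c.V⁆ ⊔ cj (e i) c.Z ∧
    cj (e (i + m)) c.Zs ≤ ⁅cj (e (i + (m + 1))) c.V, cj (e i) c.V⁆ ⊔ cj (e (i + (m + 1))) c.Z ∧
    ⁅cj (e (i + (m + 1))) c.V, cj (e i) c.V⁆ ≤ cj (e i) c.Zs ⊓ cj (e (i + m)) c.Zs := by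
  have hc := ha.window i hi
  obtain ⟨n, hn, g, hgG, e1⟩ := hc.step m le_rfl
  have hr : cj (e (i + (m + 1))) c.V ≤ cj (e i) c.S := Crit.right_le h hg hc
  have hl : cj (e i) c.V ≤ cj (e (i + m)) c.S := Crit.left_le h hg hc
  have hmoves : ¬ cj (e i) c.V ≤ centralizer (cj (e (i + (m + 1))) c.V : Set Γ) := hc.moves
  change e (i + (m + 1)) = e (i + m) * n * g at e1
  set f := e (i + m) * n
  have hS : cj f c.S = cj (e (i + m)) c.S := by rw [← cj_cj, Base.conj_S hn]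
  have hZs : cj f c.Zs = cj (e (i + m)) c.Zs := by rw [← cj_cj, h.conj_Zs hn]
  have hfV : cj f c.V = cj (e (i + (m + 1))) c.V := by rw [e1, ← cj_cj f g, h.conj_V hgG]
  have hfZ : cj f c.Z = cj (e (i + (m + 1))) c.Z := by rw [e1, ← cj_cj f g, h.conj_Z hgG]
  refine ⟨fun z hz => ?_, fun z hz => ?_, le_inf (commutator_le.mpr fun a ha v hv => ?_)
    (commutator_le.mpr fun a ha v hv => ?_)⟩
  · obtain ⟨a, ha', haQ⟩ : ∃ a ∈ cj (e (i + (m + 1))) c.V, a ∉ cj (e i) c.Q := by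
      by_contra hc'
      push Not at hc'
      exact hmoves (le_centralizer_iff.mp fun a ha' => (h.conj (e i)).QV (hc' a ha'))
    obtain ⟨v, hv, hvz⟩ := (h.conj (e i)).comm_cover (hr ha') haQ hz
    have := mul_mem_sup (commutator_mem_commutator ha' hv) hvz
    rwa [commutatorElement_def, mul_inv_cancel_left] at this
  · obtain ⟨a, ha', haQ⟩ : ∃ a ∈ cj (e i) c.V, a ∉ cj f c.Q := by
      by_contra hc'
      push Not at hc'
      exact hmoves fun a ha' => hfV ▸ (h.conj f).QV (hc' a ha')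
    obtain ⟨v, hv, hvz⟩ := (h.conj f).comm_cover (hS ▸ hl ha' : a ∈ cj f c.S) haQ (hZs ▸ hz)
    rw [commutator_comm, ← hfZ]
    have := mul_mem_sup (commutator_mem_commutator ha' (hfV ▸ hv : v ∈ cj (e (i + (m + 1))) c.V)) hvz
    rwa [commutatorElement_def, mul_inv_cancel_left] at this
  · rw [commutatorElement_def]
    exact (h.conj (e i)).quad a (hr ha) v hv
  · rw [← commutatorElement_inv, commutatorElement_def, ← hZs]
    exact inv_mem ((h.conj f).quad v (hS.ge (hl hv)) a (hfV.ge ha))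

theorem le_Z_left (hm : 2 ≤ m) {i : ℕ} (hi : i + (m + 2) ≤ L) :
    ⁅cj (e (i + (m + 1))) c.V, cj (e i) c.V⁆ ≤ cj (e (i + 1)) c.Z := by
  intro r hr
  obtain ⟨-, -, hR⟩ := window_data h hg ha (i := i) (by omega)
  have hc := ha.window (i + 1) (by omega)
  rw [← (vertex h ha (i := i) (by omega)).2]
  refine ⟨(hR hr).1, ?_⟩
  obtain ⟨a, ha', haQ⟩ : ∃ a ∈ cj (e (i + 1 + (m + 1))) c.V, a ∉ cj (e (i + 1)) c.Q := by
    by_contra hc'
    push Not at hc'
    exact hc.moves (le_centralizer_iff.mp fun a ha' => (h.conj (e (i + 1))).QV (hc' a ha'))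
  have hrV : r ∈ cj (e (i + 1)) c.V := (vertex h ha (i := i) (by omega)).1 ▸ mem_sup_left (hR hr).1
  have hcomm : a * r = r * a := by
    have h1 : cj (e (i + 1 + (m + 1))) c.V ≤ centralizer (cj (e (i + m)) c.V : Set Γ) := by
      refine (hg.mono (show 2 ≤ m from hm)).comm ?_
      rw [show i + 1 + (m + 1) = i + m + 2 by omega]
      exact dist ha (by omega)
    exact (h1 ha' r ((h.conj (e (i + m))).ZsV (hR hr).2)).symm
  refine (h.conj (e (i + 1))).sharp a (Crit.right_le h hg hc ha') haQ r hrV ?_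
  rw [hcomm, mul_inv_cancel_right, mul_inv_cancel]
  exact one_mem _

theorem le_Z_right (hm : 1 ≤ m) {i : ℕ} (hi : i + (m + 2) ≤ L) :
    ⁅cj (e (i + 1 + (m + 1))) c.V, cj (e (i + 1)) c.V⁆ ≤ cj (e (i + m + 1)) c.Z := by
  intro r hr
  obtain ⟨-, -, hR⟩ := window_data h hg ha (i := i + 1) (by omega)
  have hc := ha.window i (by omega)
  have hv := vertex h ha (i := i + m) (by omega)
  rw [← hv.2]
  have hr2 : r ∈ cj (e (i + m + 1)) c.Zs := by
    rw [show i + m + 1 = i + 1 + m by omega]; exact (hR hr).2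
  refine ⟨?_, hr2⟩
  obtain ⟨g, hgG, -, e1⟩ := ha.step (i + m) (by omega)
  set f := e (i + m) * alt k (i + m)
  have hS : cj f c.S = cj (e (i + m)) c.S := by rw [← cj_cj, Base.conj_S (alt_mem ha.memN _)]
  have hZs : cj f c.Zs = cj (e (i + m)) c.Zs := by rw [← cj_cj, h.conj_Zs (alt_mem ha.memN _)]
  have hfV : cj f c.V = cj (e (i + m + 1)) c.V := by rw [e1, ← cj_cj f g, h.conj_V hgG]
  obtain ⟨a, ha', haQ⟩ : ∃ a ∈ cj (e i) c.V, a ∉ cj f c.Q := by
    by_contra hc'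
    push Not at hc'
    exact hc.moves fun a ha' => hfV ▸ (h.conj f).QV (hc' a ha')
  have hcomm : a * r = r * a := by
    have h1 : cj (e (i + 1)) c.V ≤ centralizer (cj (e i) c.V : Set Γ) :=
      (hg.mono hm).comm (dist ha (by omega))
    exact h1 ((h.conj (e (i + 1))).ZsV (hR hr).1) a ha'
  rw [← hZs]
  refine (h.conj f).sharp a (hS.ge (Crit.left_le h hg hc ha')) haQ r
    (hfV.ge (hv.1.le (mem_sup_right hr2))) ?_
  rw [hcomm, mul_inv_cancel_right, mul_inv_cancel]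
  exact one_mem _

omit [Finite Γ] h hg ha in
theorem eq_sup_inter {R A B E : Subgroup Γ} (hRB : R ≤ B) (hBE : B ≤ E) (hE : E ≤ R ⊔ A)
    (hRn : R ≤ normalizer (A : Set Γ)) : B = R ⊔ (A ⊓ B) := by
  refine le_antisymm (fun z hz => ?_) (sup_le hRB inf_le_right)
  obtain ⟨r, hr, a, ha', rfl⟩ := (Coprime.mem_sup_iff_of_le_normalizer hRn).mp (hE (hBE hz))
  refine mul_mem (mem_sup_left hr) (mem_sup_right ⟨ha', ?_⟩)
  have := mul_mem (inv_mem (hRB hr)) hz
  rwa [inv_mul_cancel_left] at this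

theorem Z_periodic (hm : 2 ≤ m) {i : ℕ} (hi : i + 1 + (m + 2) ≤ L) :
    cj (e (i + 2)) c.Z = cj (e (i + 1 + m)) c.Z := by
  obtain ⟨hE, hE', hR⟩ := window_data h hg ha (i := i + 1) (by omega)
  have h1 := le_Z_left h hg ha hm (i := i + 1) (by omega)
  have h2 := le_Z_right h hg ha (by omega) (i := i) (by omega)
  set R := ⁅cj (e (i + 1 + (m + 1))) c.V, cj (e (i + 1)) c.V⁆
  rw [show i + m + 1 = i + 1 + m by omega] at h2
  have hab : ∀ {a j : ℕ}, R ≤ cj (e a) c.V → cj (e j) c.Z ≤ cj (e a) c.V →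
      R ≤ normalizer (cj (e j) c.Z : Set Γ) := fun hRa hja r hr =>
    centralizer_le_normalizer _ fun z hz => (h.conj _).V_comm (hja hz) (hRa hr)
  have hv1 := vertex h ha (i := i + 1) (by omega)
  have hv2 := vertex h ha (i := i + 1 + m) (by omega)
  have hA := eq_sup_inter h1 (hv1.2.ge.trans inf_le_left) hE
    (hab (hR.trans (inf_le_left.trans (h.conj (e (i + 1))).ZsV))
      ((h.conj (e (i + 1))).Z_le_Zs.trans (h.conj (e (i + 1))).ZsV))
  have hB := eq_sup_inter h2 ((h.conj (e (i + 1 + m))).Z_le_Zs) hE'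
    (hab (hR.trans (inf_le_right.trans (le_sup_left.trans hv2.1.le)))
      (show cj (e (i + 1 + (m + 1))) c.Z ≤ cj (e (i + 1 + m + 1)) c.V from
        hv2.2.ge.trans (inf_le_left.trans (le_sup_left.trans hv2.1.le))))
  have hK : ∀ l, i + 1 + l + 2 ≤ L + 1 → cj (e (i + 1 + l)) c.Z ⊓ cj (e (i + 1 + l + 1)) c.Z =
      cj (e (i + 1)) c.Z ⊓ cj (e (i + 2)) c.Z := by
    intro l
    induction l with
    | zero => intro _; rfl
    | succ l ih =>
      intro hl
      rw [← ih (by omega)]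
      exact (inter_const h ha (i := i + 1 + l) (by omega)).symm
  rw [show i + 1 + 1 = i + 2 by omega] at hA
  rw [hA, hB, inf_comm (cj (e (i + 1 + (m + 1))) c.Z), ← hK m (by omega)]
  rfl

theorem Zs_eq_sup (hm : 2 ≤ m) {i : ℕ} (hi : i + (m + 2) ≤ L) :
    cj (e i) c.Zs = cj (e i) c.Z ⊔ cj (e (i + 1)) c.Z := by
  refine le_antisymm ?_ (sup_le (h.conj (e i)).Z_le_Zs
    ((vertex h ha (i := i) (by omega)).2.ge.trans inf_le_left))
  refine (window_data h hg ha (i := i) (by omega)).1.trans (sup_le ?_ le_sup_left)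
  exact (le_Z_left h hg ha hm hi).trans le_sup_right

/-- Long alternating critical paths force `m ≤ 1`. -/
theorem le_one (hL : 2 * m + 6 ≤ L) : m ≤ 1 := by
  by_contra hc
  push Not at hc
  have p1 := Z_periodic h hg ha (i := 0) hc (by omega)
  have p2 := Z_periodic h hg ha (i := 1) hc (by omega)
  have p3 := Z_periodic h hg ha (i := 2) hc (by omega)
  have s1 := Zs_eq_sup h hg ha (i := m + 1) hc (by omega)
  have s2 := Zs_eq_sup h hg ha (i := m + 2) hc (by omega)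
  rw [show 0 + 1 + m = m + 1 by omega] at p1
  rw [show 1 + 1 + m = m + 2 by omega] at p2
  rw [show 2 + 1 + m = m + 3 by omega] at p3
  simp only [Nat.zero_add, Nat.reduceAdd] at p1 p2 p3
  rw [← p1, show m + 1 + 1 = m + 2 by omega, ← p2, ← Zs_eq_sup h hg ha (i := 2) hc (by omega)] at s1
  rw [← p2, show m + 2 + 1 = m + 3 by omega, ← p3, ← Zs_eq_sup h hg ha (i := 3) hc (by omega)] at s2
  have hV : cj (e (m + 2)) c.V = cj (e 3) c.V := by
    rw [← (vertex h ha (i := m + 1) (by omega)).1, s1, s2]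
    exact (vertex h ha (i := 2) (by omega)).1
  refine (ha.window 1 (by omega)).moves ?_
  show cj (e (1 + 0)) c.V ≤ centralizer (cj (e (1 + (m + 1))) c.V : Set Γ)
  rw [show 1 + (m + 1) = m + 2 by omega, hV, Nat.add_zero, le_centralizer_iff]
  exact (hg.mono (show 2 ≤ m from hc)).comm (dist ha (i := 1) (d := 2) (by omega))

end Alt

/-- Translates of `V` at distance one or two do not all commute. -/
theorem Base.exists_small (h : Base p c) (hnc : NoCommon c) : ∃ (m : ℕ) (e : ℕ → Γ), m ≤ 1 ∧ Good c m ∧ Crit c m e := by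
  obtain ⟨m, e, hg, hc⟩ := h.exists_crit hnc
  refine ⟨m, e, ?_, hg, hc⟩
  rcases Nat.lt_or_ge m 1 with hm | hm
  · omega
  obtain ⟨k, e', ha⟩ := h.exists_alt hnc hg hm hc (2 * m + 6)
  exact Alt.le_one h hg ha le_rfl

end Cfsg.Agent.PushingUp
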