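import Cfsg.Agent.Lib.PushingUp.Common
import Cfsg.Agent.Lib.PushingUp.Paths

/-!
# Distance one: one noncentral chief factor

`One p S A`: a translate `A` of `V` in `S` with `S = Q A`, `[A, Q] ≤ Z(S)`.

* `Base.zero_data`: a critical path with `m = 0` gives such a translate
* `One.cent`, `One.hyper`, `One.lcs_eq_bot`, `One.exponent_eq`
-/

set_option autoImplicit false
set_option linter.unusedSectionVars false

namespace Cfsg.Agent.PushingUp

open Subgroup
open FFPair (cj mem_cj cj_cj)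
open scoped commutatorElement

universe u

/-- Data at distance one. -/
structure One {G : Type u} [Group G] (p : ℕ) (S : Sylow p G) (A : Subgroup G) : Prop where
  le : A ≤ (S : Subgroup G)
  elem : IsElementaryAbelian p A
  sup : A ⊔ pCore p G = (S : Subgroup G)
  comm : ∀ a ∈ A, ∀ q ∈ pCore p G, a * q * a⁻¹ * q⁻¹ ∈
    (S : Subgroup G) ⊓ centralizer ((S : Subgroup G) : Set G)
  moves : ¬ A ≤ centralizer (vQ p G : Set G)

section
variable {Γ : Type u} [Group Γ] [Finite Γ] {p : ℕ} {c : Cfg Γ}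

/-- The translate of `V` at a critical path of length one. -/
theorem Base.zero_data (h : Base p c) {e : ℕ → Γ} (hc : Crit c 0 e) :
    ∃ n ∈ normalizer (c.S : Set Γ), ¬ cj n c.V ≤ centralizer (c.V : Set Γ) ∧ cj n c.V ≤ c.S ∧
      cj n c.V ⊔ c.Q = c.S ∧ c.V ⊔ cj n c.Q = c.S ∧
      ∀ a ∈ cj n c.V, ∀ q ∈ c.Q, a * q * a⁻¹ * q⁻¹ ∈ c.Zs := by
  obtain ⟨n, hn, g, hg, e1⟩ := hc.step 0 le_rfl
  have hne : ¬ cj n c.V ≤ centralizer (c.V : Set Γ) := fun hc' => hc.moves (by
    rw [le_centralizer_iff, show e (0 + 1) = e 0 * n * g from e1, ← cj_cj (e 0 * n) g, h.conj_V hg,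
      ← cj_cj, le_centralizer_cj_iff]
    exact hc')
  have hA : cj n c.V ≤ c.S := by
    have := cj_le_cj (e := n).mpr (h.VQ.trans h.QS)
    rwa [Base.conj_S hn] at this
  have hV : c.V ≤ cj n c.S := by rw [Base.conj_S hn]; exact h.VQ.trans h.QS
  have h1 := h.cover hA hV fun hh => hne (le_centralizer_iff.mp hh)
  have h2 := (h.conj n).cover (e := n⁻¹)
  simp only [Cfg.conj, cj_cj, inv_mul_cancel, cj_one] at h2
  rw [Base.conj_S hn] at h2
  have h2' := (h2 (h.VQ.trans h.QS) hA hne).1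
  refine ⟨n, hn, hne, hA, h1.1, h2', fun a ha q hq => ?_⟩
  have hVn : c.V ≤ normalizer (cj n c.Q : Set Γ) := by
    rw [← cj_normalizer]
    exact hV.trans (cj_le_cj.mpr (h.SG.trans h.GQ))
  obtain ⟨v, hv, d, hd, rfl⟩ := (Coprime.mem_sup_iff_of_le_normalizer hVn).mp (h2'.ge (h.QS hq))
  have hd' : a * d = d * a := ((h.conj n).QV hd a ha).symm ▸ rfl
  rw [show a * (v * d) * a⁻¹ * (v * d)⁻¹ = a * v * (d * a * d⁻¹)⁻¹ * v⁻¹ by group, ← hd',
    mul_inv_cancel_right]
  exact h.quad a (hA ha) v hv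

end

variable {G : Type u} [Group G] [Finite G] {p : ℕ} [Fact p.Prime] {S : Sylow p G} {M A : Subgroup G}
  (h : Hyp p S M)
  (hd : ∀ T : Subgroup ↥(S : Subgroup G), T ≠ ⊥ → T.Characteristic →
    ¬ (T.map (S : Subgroup G).subtype).Normal)
  (o : One p S A)

namespace One

include h o

omit [Finite G] [Fact p.Prime] h o in
theorem le_normalizer_pCore : A ≤ normalizer (pCore p G : Set G) :=
  le_top.trans (normalizer_eq_top_iff.mpr PCore.pCore_normal).ge

theorem gen {x : G} (hx : x ∉ M) : A ⊔ cj x A ⊔ pCore p G = ⊤ := by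
  refine top_le_iff.mp ((h.gen hx).ge.trans (sup_le ?_ ?_))
  · exact o.sup.ge.trans (sup_le (le_sup_left.trans le_sup_left) le_sup_right)
  · show cj x (S : Subgroup G) ≤ _
    rw [← o.sup, cj_sup, cj_eq_self_of_mem_normalizer
      ((normalizer_eq_top_iff.mpr PCore.pCore_normal).ge (mem_top x) : x ∈ normalizer (pCore p G : Set G))]
    exact sup_le (le_sup_right.trans le_sup_left) le_sup_right

include hd

theorem comm_le {x : G} : ⁅pCore p G, A ⊔ cj x A⁆ ≤ vQ p G := by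
  obtain ⟨-, hZsV, -⟩ := h.basics hd
  have h1 : ⁅pCore p G, A⁆ ≤ vQ p G := by
    rw [commutator_comm, commutator_le]
    exact fun a ha q hq => hZsV (o.comm a ha q hq)
  refine commutator_sup_le h1 ?_
  have h2 := map_mono (f := (MulAut.conj x).toMonoidHom) h1
  rw [Subgroup.map_commutator] at h2
  refine le_trans (le_of_eq ?_) (h2.trans ?_)
  · congr 1
    exact (cj_eq_self_of_mem_normalizer
      ((normalizer_eq_top_iff.mpr PCore.pCore_normal).ge (mem_top x) : x ∈ normalizer (pCore p G : Set G))).symm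
  · exact (cj_eq_self_of_mem_normalizer
      ((normalizer_eq_top_iff.mpr vQ_normal).ge (mem_top x) : x ∈ normalizer (vQ p G : Set G))).le

/-- `C_G(V) ≤ O_p(G)`. -/
theorem cent : centralizer (vQ p G : Set G) ≤ pCore p G := by
  obtain ⟨hA, -, -⟩ := h.basics hd
  obtain ⟨x, hx⟩ := h.exists_not_mem
  set π := QuotientGroup.mk' (vQ p G)
  have : ((pCore p G).map π).Normal := PCore.pCore_normal.map π (QuotientGroup.mk'_surjective _)
  set K := (centralizer ((pCore p G).map π : Set (G ⧸ vQ p G))).comap π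
  have hK : A ⊔ cj x A ≤ K := by
    rw [← map_le_iff_le_comap, ← commutator_le_iff_map, commutator_comm]
    exact comm_le h hd o
  have hKQ : K ⊔ pCore p G = ⊤ :=
    top_le_iff.mp ((gen h o hx).ge.trans (sup_le_sup_right hK _))
  refine PCore.le_pCore (isPGroup_of_coprime fun y hy hyp => ?_)
  have hyK : y ∈ K := mem_of_coprime PCore.isPGroup_pCore hKQ hyp
  have hyQ : y ∈ centralizer (pCore p G : Set G) := by
    intro q hq
    have hz : y * q * y⁻¹ * q⁻¹ ∈ vQ p G := by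
      refine (QuotientGroup.eq_one_iff _).mp ?_
      show π (y * q * y⁻¹ * q⁻¹) = 1
      rw [map_mul, map_mul, map_mul, map_inv, map_inv, ← hyK _ (mem_map_of_mem π hq),
        mul_inv_cancel_right, mul_inv_cancel]
    exact (commute_of_translate' (z := y * q * y⁻¹ * q⁻¹) hyp (k := 1)
      (by rw [pow_one]; exact hA.elem.2 _ hz) (by group) (hy _ hz).symm).symm
  obtain ⟨k, hk⟩ := IsPGroup.iff_orderOf.mp PCore.isPGroup_pCore ⟨y, h.cent hyQ⟩
  rw [Subgroup.orderOf_mk] at hk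
  refine orderOf_eq_one_iff.mp ?_
  rw [hk] at hyp ⊢
  exact (Nat.coprime_self _).mp (hyp.pow_right k)

/-- `G` acts hypercentrally on `O_p(G) / V`. -/
theorem hyper : ∃ k, iterCommutator (pCore p G) ⊤ k ≤ vQ p G := by
  obtain ⟨x, hx⟩ := h.exists_not_mem
  exact exists_iter_le (gen h o hx) (comm_le h hd o) le_rfl PCore.isPGroup_pCore.isNilpotent

theorem centralizes_derived : A ≤ centralizer ((⁅pCore p G, pCore p G⁆ : Subgroup G) : Set G) := by
  rw [le_centralizer_iff, commutator_le]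
  intro q hq r hr a ha
  have key : ∀ q ∈ pCore p G, ∃ z, z ∈ centralizer ((S : Subgroup G) : Set G) ∧ a * q * a⁻¹ = z * q :=
    fun q hq => ⟨a * q * a⁻¹ * q⁻¹, (o.comm a ha q hq).2, by group⟩
  obtain ⟨z, hz, e1⟩ := key q hq
  obtain ⟨z', hz', e2⟩ := key r hr
  have hQS := PCore.pCore_le_sylow (p := p) S
  refine mul_inv_eq_iff_eq_mul.mp ?_
  calc a * ⁅q, r⁆ * a⁻¹ = ⁅a * q * a⁻¹, a * r * a⁻¹⁆ := by rw [commutatorElement_def, commutatorElement_def]; group
    _ = ⁅z * q, z' * r⁆ := by rw [e1, e2]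
    _ = z * (q * z' * r * (q⁻¹ * z⁻¹) * r⁻¹ * z'⁻¹) := by rw [commutatorElement_def]; group
    _ = z * (z' * q * r * (z⁻¹ * q⁻¹) * r⁻¹ * z'⁻¹) := by
      rw [hz' q (hQS hq), ← inv_mem hz q⁻¹ (inv_mem (hQS hq))]
    _ = z * z' * (q * r * z⁻¹) * q⁻¹ * r⁻¹ * z'⁻¹ := by group
    _ = z * z' * (z⁻¹ * (q * r)) * q⁻¹ * r⁻¹ * z'⁻¹ := by
      rw [inv_mem hz (q * r) (mul_mem (hQS hq) (hQS hr))]
    _ = z * z' * z⁻¹ * (⁅q, r⁆ * z'⁻¹) := by rw [commutatorElement_def]; group
    _ = z * z' * z⁻¹ * (z'⁻¹ * ⁅q, r⁆) := by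
      rw [inv_mem hz' ⁅q, r⁆ (mul_mem (mul_mem (mul_mem (hQS hq) (hQS hr)) (inv_mem (hQS hq)))
        (inv_mem (hQS hr)))]
    _ = ⁅q, r⁆ := by
      have hzz : z' * z⁻¹ = z⁻¹ * z' := by
        rw [eq_comm, inv_mul_eq_iff_eq_mul, ← mul_assoc, eq_mul_inv_iff_mul_eq]
        exact hz z' (by
          have := mul_mem (mul_mem (mul_mem (o.le ha) (hQS hr)) (inv_mem (o.le ha))) (inv_mem (hQS hr))
          rwa [e2, mul_inv_cancel_right] at this)
      rw [mul_assoc z, hzz]; group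

/-- `S` has class at most two. -/
theorem lcs_eq_bot : (S : Subgroup G).lowerCentralSeries 2 = ⊥ := by
  set Sg := (S : Subgroup G)
  set Zs := Sg ⊓ centralizer (Sg : Set G)
  set Q := pCore p G
  set D := ⁅Q, Q⁆
  have hAD := centralizes_derived h hd o
  have hQS : Q ≤ Sg := PCore.pCore_le_sylow S
  have hdec : ∀ s ∈ Sg, ∃ a ∈ A, ∃ q ∈ Q, a * q = s := fun s hs =>
    (Coprime.mem_sup_iff_of_le_normalizer le_normalizer_pCore).mp (o.sup.ge hs)
  have hZD : Zs ≤ normalizer (D : Set G) := le_top.trans (normalizer_eq_top_iff.mpr inferInstance).ge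
  have h1 : Sg.lowerCentralSeries 1 ≤ Zs ⊔ D := by
    rw [Subgroup.lowerCentralSeries_succ, Subgroup.lowerCentralSeries_zero, commutator_le]
    intro s hs t ht
    obtain ⟨a, ha, q, hq, rfl⟩ := hdec s hs
    obtain ⟨b, hb, r, hr, rfl⟩ := hdec t ht
    have hab : a * b = b * a := PGroup.mul_comm_of_isMulCommutative o.elem.1 ha hb
    have hz1 := o.comm a ha r hr
    have hz2 := o.comm b hb q hq
    have hd2 : ⁅q, r⁆ ∈ D := commutator_mem_commutator hq hr
    have e : ⁅a * q, b * r⁆ = (b * q * b⁻¹ * q⁻¹)⁻¹ * ⁅q, r⁆ * (a * r * a⁻¹ * r⁻¹) := by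
      calc ⁅a * q, b * r⁆ = a * ((b * q * b⁻¹ * q⁻¹)⁻¹ * (b * ⁅q, r⁆ * b⁻¹)) * a⁻¹ *
            ((a * b * a⁻¹) * (a * r * a⁻¹ * r⁻¹) * b⁻¹) := by
              simp only [commutatorElement_def]; group
        _ = (b * q * b⁻¹ * q⁻¹)⁻¹ * (a * (b * ⁅q, r⁆ * b⁻¹) * a⁻¹) *
            (b * (a * r * a⁻¹ * r⁻¹) * b⁻¹) := by
          rw [show a * b * a⁻¹ = b by rw [hab, mul_inv_cancel_right],
            show a * ((b * q * b⁻¹ * q⁻¹)⁻¹ * (b * ⁅q, r⁆ * b⁻¹)) * a⁻¹ =
              (a * (b * q * b⁻¹ * q⁻¹)⁻¹) * (b * ⁅q, r⁆ * b⁻¹) * a⁻¹ by group,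
            (inv_mem hz2).2 a (o.le ha)]
          group
        _ = _ := by
          rw [← hAD hb _ hd2, mul_inv_cancel_right, ← hAD ha _ hd2, mul_inv_cancel_right,
            hz1.2 b (o.le hb), mul_inv_cancel_right]
    rw [e]
    exact mul_mem (mul_mem (mem_sup_left (inv_mem hz2)) (mem_sup_right hd2)) (mem_sup_left hz1)
  have h2 : Sg.lowerCentralSeries 2 ≤ D := by
    rw [Subgroup.lowerCentralSeries_succ]
    refine (commutator_mono h1 le_rfl).trans (commutator_le.mpr fun y hy s hs => ?_)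
    obtain ⟨z, hz, d, hd', rfl⟩ := (Coprime.mem_sup_iff_of_le_normalizer hZD).mp hy
    obtain ⟨a, ha, q, hq, rfl⟩ := hdec s hs
    have hdQ : d ∈ Q := Subgroup.commutator_le_self Q hd'
    rw [show ⁅z * d, a * q⁆ = z * (d * a * q * d⁻¹ * (q⁻¹ * a⁻¹)) * (a * q * z⁻¹ * (q⁻¹ * a⁻¹)) by
      simp only [commutatorElement_def]; group,
      (inv_mem hz).2 (a * q) (mul_mem (o.le ha) (hQS hq)),
      show d * a * q * d⁻¹ * (q⁻¹ * a⁻¹) = (d * a) * (q * d⁻¹ * q⁻¹ * d) * d⁻¹ * a⁻¹ by group,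
      show d * a = a * d from hAD ha d hd']
    have h3 : a * d * (q * d⁻¹ * q⁻¹ * d) * d⁻¹ * a⁻¹ = ⁅d, q⁆ := by
      rw [show a * d * (q * d⁻¹ * q⁻¹ * d) * d⁻¹ * a⁻¹ = a * ⁅d, q⁆ * a⁻¹ by
        rw [commutatorElement_def]; group, ← hAD ha ⁅d, q⁆ (commutator_mem_commutator hdQ hq),
        mul_inv_cancel_right]
    rw [h3]
    have hc : ⁅d, q⁆ ∈ D := commutator_mem_commutator hdQ hq
    have h4 : z * ⁅d, q⁆ * (z⁻¹ * (a * q) * (q⁻¹ * a⁻¹)) = ⁅d, q⁆ := by
      rw [show z⁻¹ * (a * q) * (q⁻¹ * a⁻¹) = z⁻¹ by group,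
        ← hz.2 ⁅d, q⁆ (hQS (Subgroup.commutator_le_self Q hc)), mul_inv_cancel_right]
    rw [h4]; exact hc
  refine eq_bot_of_normal hd (Subgroup.lowerCentralSeries_le_self _ _) (lcs_characteristic _ _) ?_
  obtain ⟨x, hx⟩ := h.exists_not_mem
  refine normalizer_eq_top_iff.mp (top_le_iff.mp ((gen h o hx).ge.trans (sup_le (sup_le ?_ ?_) ?_)))
  · exact (hAD.trans (centralizer_le h2)).trans (centralizer_le_normalizer _)
  · refine le_trans ?_ (centralizer_le_normalizer _)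
    refine le_trans ?_ (centralizer_le h2)
    refine (cj_le_cj.mpr hAD).trans ?_
    rw [cj_centralizer, cj_eq_self_of_mem_normalizer
      ((normalizer_eq_top_iff.mpr inferInstance).ge (mem_top x) : x ∈ normalizer (D : Set G))]
  · exact hQS.trans (Subgroup.self_le_normalizer_lowerCentralSeries _ _)

theorem lcs_one_ne : (S : Subgroup G).lowerCentralSeries 1 ≠ ⊥ := by
  intro hc
  rw [Subgroup.lowerCentralSeries_succ, Subgroup.lowerCentralSeries_zero,
    commutator_eq_bot_iff_le_centralizer] at hc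
  exact o.moves fun a ha v hv => hc (o.le ha) v (h.vQ_le_sylow hv)

theorem powerClosure_eq_bot {n : ℕ} (hn : n ≠ 0) (hp : p ∣ (p ^ n).choose 2) :
    powerClosure p n (S : Subgroup G) = ⊥ := by
  obtain ⟨hA, hZsV, -⟩ := h.basics hd
  have e : powerClosure p n (S : Subgroup G) = powerClosure p n (pCore p G) := by
    refine le_antisymm (PGroup.powerClosure_le_iff.mpr fun s hs => ?_)
      (PGroup.powerClosure_mono (PCore.pCore_le_sylow S) n)
    obtain ⟨q, hq, a, ha, rfl⟩ :=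
      (Coprime.mem_sup_iff_of_le_normalizer' le_normalizer_pCore).mp (o.sup.ge hs)
    have hz := o.comm a ha q hq
    rw [pow_qa (z := a * q * a⁻¹ * q⁻¹) (by group) (hz.2 q (PCore.pCore_le_sylow S hq))
      (hz.2 a (o.le ha))]
    obtain ⟨c, hc⟩ := hp
    obtain ⟨m, rfl⟩ := Nat.exists_eq_succ_of_ne_zero hn
    rw [show a ^ p ^ (m + 1) = 1 by rw [pow_succ', pow_mul, o.elem.2 a ha, one_pow], hc, pow_mul,
      hA.elem.2 _ (hZsV hz), one_pow, mul_one, mul_one]
    exact PGroup.pow_mem_powerClosure hq _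
  refine eq_bot_of_normal hd (PGroup.powerClosure_le _ _) (pc_characteristic _ _) ?_
  rw [e]
  refine ⟨fun y hy g => ?_⟩
  have hmem := mem_map_of_mem (MulAut.conj g).toMonoidHom hy
  rw [PGroup.map_powerClosure, show (pCore p G).map (MulAut.conj g).toMonoidHom = pCore p G from
    cj_eq_self_of_mem_normalizer ((normalizer_eq_top_iff.mpr PCore.pCore_normal).ge (mem_top g))] at hmem
  exact hmem

theorem exponent_eq : (p = 2 → Monoid.exponent ↥(S : Subgroup G) = 4) ∧
    (p ≠ 2 → Monoid.exponent ↥(S : Subgroup G) = p) := by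
  have hp : p.Prime := Fact.out
  have hexp : ∀ n, n ≠ 0 → p ∣ (p ^ n).choose 2 → Monoid.exponent ↥(S : Subgroup G) ∣ p ^ n :=
    fun n hn hc => Monoid.exponent_dvd_of_forall_pow_eq_one fun s => Subtype.ext (by
      have := PGroup.pow_mem_powerClosure (p := p) s.2 n
      rwa [powerClosure_eq_bot h hd o hn hc, mem_bot] at this)
  have hab : ¬ ∀ a b : ↥(S : Subgroup G), a * b = b * a := fun hc => lcs_one_ne h hd o (by
    rw [Subgroup.lowerCentralSeries_succ, Subgroup.lowerCentralSeries_zero,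
      commutator_eq_bot_iff_le_centralizer]
    exact fun a ha b hb => congrArg Subtype.val (hc ⟨b, hb⟩ ⟨a, ha⟩))
  constructor
  · rintro rfl
    have h4 := hexp 2 two_ne_zero (by decide)
    obtain ⟨k, hk, e⟩ := (Nat.dvd_prime_pow hp).mp h4
    rcases Nat.lt_or_ge k 2 with hk2 | hk2
    · exfalso
      refine hab fun a b => ?_
      have key : ∀ x : ↥(S : Subgroup G), x * x = 1 := fun x => by
        rw [← sq]
        exact orderOf_dvd_iff_pow_eq_one.mp ((Monoid.order_dvd_exponent x).trans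
          (e ▸ pow_dvd_pow 2 (by omega : k ≤ 1) |>.trans (by norm_num)))
      have inv : ∀ x : ↥(S : Subgroup G), x⁻¹ = x := fun x => inv_eq_of_mul_eq_one_right (key x)
      calc a * b = (a * b)⁻¹ := (inv _).symm
        _ = b * a := by rw [mul_inv_rev, inv, inv]
    · rw [e, show k = 2 by omega]; norm_num
  · intro h2
    have h1 := hexp 1 one_ne_zero (by
      rw [pow_one]
      exact hp.dvd_choose_self two_ne_zero (lt_of_le_of_ne hp.two_le (Ne.symm h2)))
    rw [pow_one] at h1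
    refine (hp.eq_one_or_self_of_dvd _ h1).resolve_left fun e => hab fun a b => ?_
    have := Monoid.exp_eq_one_iff.mp e
    exact Subsingleton.elim _ _

end One

end Cfsg.Agent.PushingUp
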