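import Cfsg.Agent.Lib.PushingUp.Main
import Cfsg.Agent.Lib.PSL2.Basic
import Cfsg.Agent.Lib.PComplement.AbelianCore
import Cfsg.Agent.Lib.Transfer.Central
import Cfsg.Prelude.Def_LocalEven
import Cfsg.Prelude.Def_TwoFusion

/-!
# Rank-one pushing up against a translate outside the group: `Qd(pⁿ) × E`

* `Base.translate`: at distance one, if normal subgroups of `G` in `S` have their normaliser in `G`, `O_p(G) = V`
* `splitting`: if `O_p(G) = V` and `p ≥ 5`, then `G = G₀ × E` with `G₀ ≅ Qd(pⁿ)`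
-/

set_option autoImplicit false
set_option linter.unusedSectionVars false

namespace Cfsg.Agent.PushingUp

open Subgroup
open FFPair (cj mem_cj cj_cj)
open scoped commutatorElement MatrixGroups

universe u v

/-- If subgroups of `S` normal in `G` have their normalisers in `G`, then `Q` is elementary abelian. -/
theorem Base.translate {Γ : Type v} [Group Γ] [Finite Γ] {p : ℕ} [Fact p.Prime] {c : Cfg Γ}
    (h : Base p c) {e : ℕ → Γ} (hc : Crit c 0 e)
    (hN : ∀ T : Subgroup Γ, T ≤ c.S → T ≠ ⊥ → c.G ≤ normalizer (T : Set Γ) →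
      normalizer (T : Set Γ) ≤ c.G) :
    (∀ a ∈ c.Q, ∀ b ∈ c.Q, a * b = b * a) ∧ ∀ a ∈ c.Q, a ^ p = 1 := by
  obtain ⟨n, hn, hne, -, -, hsup, -⟩ := h.zero_data hc
  have hV : ∀ a ∈ c.V, ∀ q ∈ c.Q, a * q = q * a := fun a ha q hq => (h.QV hq a ha)
  have hdec : ∀ q ∈ c.Q, ∃ v ∈ c.V, ∃ d ∈ c.Q ⊓ cj n c.Q, v * d = q := by
    intro q hq
    have hVn : c.V ≤ normalizer (cj n c.Q : Set Γ) := by
      rw [← cj_normalizer]
      refine le_trans ?_ (cj_le_cj.mpr (h.SG.trans h.GQ))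
      rw [Base.conj_S hn]
      exact h.VQ.trans h.QS
    obtain ⟨v, hv, d, hd, rfl⟩ := (Coprime.mem_sup_iff_of_le_normalizer hVn).mp (hsup.ge (h.QS hq))
    refine ⟨v, hv, d, mem_inf.mpr ⟨?_, hd⟩, rfl⟩
    simpa using mul_mem (inv_mem (h.VQ hv)) hq
  have hnG : ∀ T : Subgroup Γ, T ≤ c.S → c.G ≤ normalizer (T : Set Γ) → T ≤ cj n T → T = ⊥ := by
    intro T hT hG hle
    by_contra hne'
    have e' : cj n T = T := (eq_of_le_of_card_ge hle (card_cj n T).le).symm
    have hnG' : n ∈ c.G := hN T hT hne' hG (mem_normalizer_iff.mpr fun x => by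
      constructor
      · intro hx; rw [← e']; exact mem_cj_conj hx
      · intro hx
        rw [← e'] at hx
        obtain ⟨y, hy, he⟩ := hx
        rwa [mul_left_cancel (mul_right_cancel (show n * y * n⁻¹ = n * x * n⁻¹ from he))] at hy)
    rw [h.conj_V hnG'] at hne
    exact hne (h.VQ.trans h.QV)
  have hcomm : ⁅c.Q, c.Q⁆ = ⊥ := by
    refine hnG _ ((Subgroup.commutator_le_self _).trans h.QS) (fun g hg => ?_) ?_
    · refine mem_normalizer_iff.mpr fun x => ?_
      have e1 : cj g ⁅c.Q, c.Q⁆ = ⁅c.Q, c.Q⁆ := by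
        have := h.conj_Q hg
        show (⁅c.Q, c.Q⁆).map _ = _
        rw [Subgroup.map_commutator]
        exact congrArg₂ _ this this
      constructor
      · intro hx; rw [← e1]; exact mem_cj_conj hx
      · intro hx
        rw [← e1] at hx
        obtain ⟨y, hy, he⟩ := hx
        rwa [mul_left_cancel (mul_right_cancel (show g * y * g⁻¹ = g * x * g⁻¹ from he))] at hy
    · show _ ≤ (⁅c.Q, c.Q⁆).map _
      rw [Subgroup.map_commutator]
      refine commutator_le.mpr fun q hq r hr => ?_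
      obtain ⟨v, hv, d, hd, rfl⟩ := hdec q hq
      obtain ⟨w, hw, b, hb, rfl⟩ := hdec r hr
      have : ⁅v * d, w * b⁆ = ⁅d, b⁆ := by
        calc ⁅v * d, w * b⁆ = v * (d * w) * b * d⁻¹ * (v⁻¹ * b⁻¹) * w⁻¹ := by
              rw [commutatorElement_def]; group
          _ = v * (w * d) * b * d⁻¹ * (b⁻¹ * v⁻¹) * w⁻¹ := by
              rw [hV w hw d hd.1, hV _ (inv_mem hv) b⁻¹ (inv_mem hb.1)]
          _ = (v * w) * ⁅d, b⁆ * (v⁻¹ * w⁻¹) := by rw [commutatorElement_def]; group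
          _ = ⁅d, b⁆ * (v * w) * (v⁻¹ * w⁻¹) := by
              rw [hV _ (mul_mem hv hw) _ (Subgroup.commutator_le_self c.Q (commutator_mem_commutator hd.1 hb.1))]
          _ = ⁅d, b⁆ := by
              rw [h.V_comm (inv_mem hv) (inv_mem hw)]; group
      rw [this]
      exact commutator_mem_commutator hd.2 hb.2
  have hab : ∀ a ∈ c.Q, ∀ b ∈ c.Q, a * b = b * a := fun a ha b hb =>
    ((commutator_eq_bot_iff_le_centralizer.mp hcomm) hb a ha)
  refine ⟨hab, fun a ha => ?_⟩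
  have hpc : powerClosure p 1 c.Q = ⊥ := by
    refine hnG _ ((PGroup.powerClosure_le _ _).trans h.QS) (fun g hg => ?_) ?_
    · refine mem_normalizer_iff.mpr fun x => ?_
      have e1 : cj g (powerClosure p 1 c.Q) = powerClosure p 1 c.Q := by
        show (powerClosure p 1 c.Q).map _ = _
        rw [PGroup.map_powerClosure]
        exact congrArg _ (h.conj_Q hg)
      constructor
      · intro hx; rw [← e1]; exact mem_cj_conj hx
      · intro hx
        rw [← e1] at hx
        obtain ⟨y, hy, he⟩ := hx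
        rwa [mul_left_cancel (mul_right_cancel (show g * y * g⁻¹ = g * x * g⁻¹ from he))] at hy
    · show _ ≤ (powerClosure p 1 c.Q).map _
      rw [PGroup.map_powerClosure]
      refine PGroup.powerClosure_le_iff.mpr fun q hq => ?_
      obtain ⟨v, hv, d, hd, rfl⟩ := hdec q hq
      rw [pow_one, (show Commute v d from hV v hv d hd.1).mul_pow, h.elem.2 v hv, one_mul]
      simpa using PGroup.pow_mem_powerClosure (p := p) (show d ∈ (c.Q).map (MulAut.conj n).toMonoidHom from hd.2) 1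
  have := PGroup.pow_mem_powerClosure (p := p) ha 1
  rwa [hpc, mem_bot, pow_one] at this

variable {G : Type u} [Group G] [Finite G] {p : ℕ} [Fact p.Prime] {S : Sylow p G} {M : Subgroup G}

set_option maxHeartbeats 1600000 in
/-- If `O_p(G) = V` and `p ≥ 5` then `G` is `Qd(pⁿ) × E`. -/
theorem splitting (h : Hyp p S M)
    (hd : ∀ T : Subgroup ↥(S : Subgroup G), T ≠ ⊥ → T.Characteristic →
      ¬ (T.map (S : Subgroup G).subtype).Normal)
    (hp : 5 ≤ p) {A : Subgroup G} (o : One p S A) (hQV : pCore p G = vQ p G)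
    {F : Type} [Field F] [Fintype F]
    (hF : Fintype.card F * Nat.card ↥(pCore p G) = Nat.card (S : Subgroup G)) :
    ∃ G₀ E : Subgroup G, IsInternalDirectProduct G₀ E ⊤ ∧ IsElementaryAbelian p E ∧
      Nonempty (↥G₀ ≃* ↥(qdOver F)) := by
  have hpp : p.Prime := Fact.out
  obtain ⟨hA, -, -⟩ := h.basics hd
  set V := vQ p G with hVdef
  obtain ⟨F', _, _, hcard, hlay', ⟨eQ⟩⟩ := exists_layer_V h hd
  have hcF : Fintype.card F' = Fintype.card F := Nat.eq_of_mul_eq_mul_right Nat.card_pos (hcard.trans hF.symm)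
  obtain ⟨ρ, ψ, hρ, hψ, hker, hact⟩ := hlay'.ofEquiv (FiniteField.ringEquivOfCardEq (K := F') (K' := F) hcF)
  have hVn : V.Normal := vQ_normal
  have hab : ∀ a ∈ V, ∀ b ∈ V, a * b = b * a := fun a ha b hb =>
    PGroup.mul_comm_of_isMulCommutative hA.elem.1 ha hb
  let cV : G → ↥V → ↥V := fun g u => ⟨g * u * g⁻¹, hVn.conj_mem u u.2 g⟩
  let tv : ↥V → (Fin 2 → F) := fun u => Multiplicative.toAdd (ψ u)
  have tv_mul : ∀ u w, tv (u * w) = tv u + tv w := fun u w => by simp [tv]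
  have tv_inv : ∀ u, tv u⁻¹ = -tv u := fun u => by simp [tv]
  have tv_zero : ∀ u, tv u = 0 ↔ (u : G) ∈ V ⊓ Subgroup.center G := fun u => by
    rw [← hker u]; exact toAdd_eq_zero
  have tv_conj : ∀ g u, tv (cV g u) = ((ρ g : SL(2, F)) : Matrix (Fin 2) (Fin 2) F).mulVec (tv u) := by
    intro g u
    obtain ⟨w, hw, he⟩ := hact g u
    rw [show cV g u = w from Subtype.ext hw.symm]
    exact he
  -- the kernel of `ρ`
  have hVle : V ≤ ρ.ker := fun q hq => by
    refine MonoidHom.mem_ker.mpr (Subtype.ext (Matrix.toLin'.injective (LinearMap.ext fun x => ?_)))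
    obtain ⟨u, hu⟩ := hψ (Multiplicative.ofAdd x)
    have hfix : cV q u = u := Subtype.ext (by
      show q * u * q⁻¹ = u
      rw [hab q hq u u.2, mul_inv_cancel_right])
    have hx : tv u = x := by show Multiplicative.toAdd (ψ u) = x; rw [hu]; rfl
    have := tv_conj q u
    rw [hfix, hx] at this
    simpa using this.symm
  have hkerV : ∀ g, ρ g = 1 ↔ g ∈ V := by
    have heq : V = ρ.ker := by
      refine eq_of_le_of_card_ge hVle (le_of_eq ?_)
      have h1 := ρ.ker.index_mul_card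
      have h2 := (pCore p G).index_mul_card
      rw [index_ker, MonoidHom.range_eq_top.mpr hρ, card_top, PSL2.card_SL'] at h1
      rw [Subgroup.index_eq_card, Nat.card_congr eQ.toEquiv, PSL2.card_SL', hcF, hQV] at h2
      exact Nat.eq_of_mul_eq_mul_left (Nat.pos_of_ne_zero fun e => by
        rw [e, zero_mul] at h1; exact Nat.card_pos.ne' h1.symm) (h1.trans h2.symm)
    intro g
    rw [heq, MonoidHom.mem_ker]
  -- a lift of `-1` of order prime to `p`
  obtain ⟨t, htc, ht⟩ := PComplement.exists_coprime_lift ρ hρ (y := -1) (by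
    refine ((Nat.coprime_primes Nat.prime_two hpp).mpr (by omega)).coprime_dvd_left
      (orderOf_dvd_of_pow_eq_one ?_)
    exact neg_one_sq)
  let δ : ↥V →* G := MonoidHom.mk' (fun u => t * u * t⁻¹ * (u : G)⁻¹) fun a b => by
    show t * ((a : G) * b) * t⁻¹ * ((a : G) * b)⁻¹ = _
    calc t * ((a : G) * b) * t⁻¹ * ((a : G) * b)⁻¹
        = (t * a * t⁻¹) * ((t * b * t⁻¹ * (b : G)⁻¹) * (a : G)⁻¹) := by group
      _ = (t * a * t⁻¹) * ((a : G)⁻¹ * (t * b * t⁻¹ * (b : G)⁻¹)) := by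
          rw [hab _ (mul_mem (hVn.conj_mem _ b.2 t) (inv_mem b.2)) _ (inv_mem a.2)]
      _ = _ := by group
  have δ_val : ∀ u : ↥V, δ u = t * u * t⁻¹ * (u : G)⁻¹ := fun _ => rfl
  have δ_mem : ∀ u : ↥V, δ u ∈ V := fun u => mul_mem (hVn.conj_mem _ u.2 t) (inv_mem u.2)
  have h2F : (2 : F) ≠ 0 := by
    intro h0
    have hev := PSL2.even_card_iff.mpr h0
    obtain ⟨k, hk⟩ := (IsPGroup.iff_card (p := p)).mp S.2
    have hdvd : Fintype.card F ∣ p ^ k := hk ▸ Dvd.intro _ hF
    obtain ⟨j, -, hj⟩ := (Nat.dvd_prime_pow hpp).mp hdvd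
    rw [hj, Nat.even_pow] at hev
    have := hpp.eq_two_or_odd'.resolve_left (by omega)
    exact (Nat.not_even_iff_odd.mpr this) hev.1
  have tv_δ : ∀ u : ↥V, tv ⟨δ u, δ_mem u⟩ = (-2 : F) • tv u := by
    intro u
    rw [show (⟨δ u, δ_mem u⟩ : ↥V) = cV t u * u⁻¹ from Subtype.ext rfl, tv_mul, tv_inv,
      tv_conj, ht]
    ext i
    simp [Matrix.neg_mulVec, Matrix.one_mulVec]
    ring
  have δ_one : ∀ u : ↥V, δ u = 1 ↔ tv u = 0 := by
    intro u
    constructor
    · intro hu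
      have := tv_δ u
      rw [show (⟨δ u, δ_mem u⟩ : ↥V) = 1 from Subtype.ext hu, show tv 1 = 0 by simp [tv], eq_comm,
        smul_eq_zero] at this
      exact this.resolve_left (neg_ne_zero.mpr h2F)
    · intro hu
      rw [δ_val, Subgroup.mem_center_iff.mp ((tv_zero u).mp hu).2 t, mul_inv_cancel_right, mul_inv_cancel]
  set V₀ := δ.range with hV₀
  have hV₀V : V₀ ≤ V := by rintro _ ⟨u, rfl⟩; exact δ_mem u
  have hV₀Z : ∀ x ∈ V₀, x ∈ Subgroup.center G → x = 1 := by
    rintro _ ⟨u, rfl⟩ hx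
    have := (tv_zero ⟨δ u, δ_mem u⟩).mpr ⟨δ_mem u, hx⟩
    rw [tv_δ, smul_eq_zero] at this
    exact (δ_one u).mpr (this.resolve_left (neg_ne_zero.mpr h2F))
  have hV₀n : V₀.Normal := ⟨by
    rintro _ ⟨u, rfl⟩ g
    refine ⟨cV g u, ?_⟩
    have hq : t⁻¹ * (g * t * g⁻¹) ∈ V := (hkerV _).mp (by
      simp only [map_mul, map_inv, ht]
      simp)
    rw [δ_val, δ_val]
    calc t * (g * u * g⁻¹) * t⁻¹ * (g * u * g⁻¹)⁻¹
        = t * ((g * u * g⁻¹) * (t⁻¹ * (g * t * g⁻¹))) * (g * t⁻¹ * g⁻¹) * (g * u * g⁻¹)⁻¹ := by group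
      _ = t * ((t⁻¹ * (g * t * g⁻¹)) * (g * u * g⁻¹)) * (g * t⁻¹ * g⁻¹) * (g * u * g⁻¹)⁻¹ := by
          rw [hab _ (hVn.conj_mem _ u.2 g) _ hq]
      _ = g * (t * u * t⁻¹ * (u : G)⁻¹) * g⁻¹ := by group⟩
  have hsurj : ∀ y : Fin 2 → F, ∃ x, ∃ hx : x ∈ V₀, tv ⟨x, hV₀V hx⟩ = y := by
    intro y
    obtain ⟨u, hu⟩ := hψ (Multiplicative.ofAdd ((-2 : F)⁻¹ • y))
    refine ⟨δ u, ⟨u, rfl⟩, (tv_δ u).trans ?_⟩
    rw [show tv u = (-2 : F)⁻¹ • y by show Multiplicative.toAdd (ψ u) = _; rw [hu]; rfl, smul_smul,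
      mul_inv_cancel₀ (neg_ne_zero.mpr h2F), one_smul]
  have hdecV : ∀ v ∈ V, ∃ x ∈ V₀, ∃ z ∈ V ⊓ Subgroup.center G, x * z = v := by
    intro v hv
    obtain ⟨x, hx, he⟩ := hsurj (tv ⟨v, hv⟩)
    refine ⟨x, hx, x⁻¹ * v, (tv_zero (⟨x, hV₀V hx⟩⁻¹ * ⟨v, hv⟩)).mp ?_, by group⟩
    rw [tv_mul, tv_inv, he, neg_add_cancel]
  -- the centralizer of `t`
  set C := centralizer ({t} : Set G) with hC
  have hCV : ∀ x ∈ C, x ∈ V → x ∈ V ⊓ Subgroup.center G := fun x hxC hx =>
    (tv_zero ⟨x, hx⟩).mp ((δ_one _).mp (by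
      rw [δ_val]; show t * x * t⁻¹ * x⁻¹ = 1
      rw [mem_centralizer_iff.mp hxC t rfl, mul_inv_cancel_right, mul_inv_cancel]))
  have hCρ : C.map ρ = ⊤ := by
    refine (eq_top_iff' _).mpr fun y => ?_
    obtain ⟨g, rfl⟩ := hρ y
    have hq : t⁻¹ * (g * t * g⁻¹) ∈ V := (hkerV _).mp (by
      simp only [map_mul, map_inv, ht]; simp)
    obtain ⟨x, hx, z, hz, hxz⟩ := hdecV _ hq
    obtain ⟨u, hu⟩ := inv_mem (hV₀n.conj_mem x hx t)
    have hut : (u : G) * t * (u : G)⁻¹ = t * x := by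
      calc (u : G) * t * (u : G)⁻¹ = (δ u)⁻¹ * t := by rw [δ_val]; group
        _ = t * x := by rw [hu]; group
    have hg : g * t * g⁻¹ = (u : G) * t * (u : G)⁻¹ * z := by
      rw [hut, show t * x * z = t * (x * z) from mul_assoc _ _ _, hxz]; group
    have hz1 : z = 1 := by
      have h1 : ((u : G) * t * (u : G)⁻¹ * z) ^ orderOf t = 1 := by
        rw [← hg, ← MulAut.conj_apply, ← map_pow, pow_orderOf_eq_one, map_one]
      rw [(show Commute ((u : G) * t * (u : G)⁻¹) z from Subgroup.mem_center_iff.mp hz.2 _).mul_pow,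
        ← MulAut.conj_apply, ← map_pow, pow_orderOf_eq_one, map_one, one_mul] at h1
      exact Transfer.eq_one_of_pow_of_coprime h1 (hA.elem.2 z hz.1) htc
    rw [hz1, mul_one] at hg
    refine ⟨(u : G)⁻¹ * g, ?_, by rw [map_mul, (hkerV _).mpr (inv_mem u.2), one_mul]⟩
    refine mem_centralizer_iff.mpr ?_
    intro w hw
    rw [Set.mem_singleton_iff.mp hw]
    calc t * ((u : G)⁻¹ * g) = (u : G)⁻¹ * ((u : G) * t * (u : G)⁻¹) * g := by group
      _ = _ := by rw [← hg]; group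
  set L := ⁅C, C⁆ with hL
  have h4 : 4 ≤ Fintype.card F := by
    obtain ⟨k, hk⟩ := (IsPGroup.iff_card (p := p)).mp S.2
    have hdvd : Fintype.card F ∣ p ^ k := hk ▸ Dvd.intro _ hF
    obtain ⟨j, -, hj⟩ := (Nat.dvd_prime_pow hpp).mp hdvd
    have hj0 : j ≠ 0 := by
      rintro rfl
      exact absurd Fintype.one_lt_card (by rw [hj, pow_zero]; exact lt_irrefl 1)
    rw [hj]
    exact (show 4 ≤ p by omega).trans (Nat.le_self_pow hj0 p)
  have hLρ : L.map ρ = ⊤ := by
    rw [hL, Subgroup.map_commutator, hCρ]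
    exact PSL2.sl_commutator_eq_top h4
  -- commutators of `p`-subgroups lie in `V₀`
  have hSS : ∀ a ∈ (S : Subgroup G), ∀ b ∈ (S : Subgroup G), ⁅a, b⁆ ∈ V₀ := by
    set π := QuotientGroup.mk' V₀
    have hcen : ∀ v ∈ V, π v ∈ Subgroup.center (G ⧸ V₀) := by
      intro v hv
      obtain ⟨x, hx, z, hz, rfl⟩ := hdecV v hv
      rw [map_mul, (QuotientGroup.eq_one_iff x).mpr hx |> fun e : π x = 1 => e, one_mul]
      refine Subgroup.mem_center_iff.mpr fun y => ?_
      obtain ⟨g, rfl⟩ := QuotientGroup.mk'_surjective V₀ y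
      rw [← map_mul, ← map_mul, Subgroup.mem_center_iff.mp hz.2 g]
    intro a ha b hb
    obtain ⟨a', ha', q, hq, rfl⟩ := (Coprime.mem_sup_iff_of_le_normalizer One.le_normalizer_pCore).mp (o.sup.ge ha)
    obtain ⟨b', hb', r, hr, rfl⟩ := (Coprime.mem_sup_iff_of_le_normalizer One.le_normalizer_pCore).mp (o.sup.ge hb)
    refine (QuotientGroup.eq_one_iff _).mp ?_
    show π _ = 1
    rw [map_commutatorElement, commutatorElement_eq_one_iff_mul_comm, map_mul, map_mul]
    have hab' : π a' * π b' = π b' * π a' := by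
      rw [← map_mul, ← map_mul, PGroup.mul_comm_of_isMulCommutative o.elem.1 ha' hb']
    have hq' := Subgroup.mem_center_iff.mp (hcen q (hQV.le hq))
    have hr' := Subgroup.mem_center_iff.mp (hcen r (hQV.le hr))
    exact (Commute.mul_left (Commute.mul_right hab' (hr' _))
      (Commute.mul_right (hq' _).symm (hr' _)))
  have hLV : ∀ x ∈ L, ρ x = 1 → x = 1 := by
    intro x hx hx1
    have hxC : x ∈ C := Subgroup.commutator_le_self C hx
    have hxz := hCV x hxC ((hkerV x).mp hx1)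
    obtain ⟨P⟩ : Nonempty (Sylow p ↥C) := inferInstance
    have : IsMulCommutative ↥(P : Subgroup ↥C) := PGroup.isMulCommutative_of_forall fun a ha b hb => by
      obtain ⟨S', hS'⟩ := (P.2.map C.subtype).exists_le_sylow
      obtain ⟨g, hg⟩ := MulAction.exists_smul_eq G S S'
      have hmem : ∀ w ∈ (P : Subgroup ↥C), g⁻¹ * (w : G) * g ∈ (S : Subgroup G) := by
        intro w hw
        have := hS' (mem_map_of_mem C.subtype hw)
        rw [← hg] at this
        obtain ⟨s, hs, he⟩ := this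
        rw [show g⁻¹ * (w : G) * g = s by
          rw [show (w : G) = g * s * g⁻¹ from he.symm]; group]
        exact hs
      have h1 : ⁅(a : G), (b : G)⁆ ∈ V₀ := by
        have := hV₀n.conj_mem _ (hSS _ (hmem a ha) _ (hmem b hb)) g
        rwa [show g * ⁅g⁻¹ * (a : G) * g, g⁻¹ * (b : G) * g⁆ * g⁻¹ = ⁅(a : G), (b : G)⁆ by
          simp only [commutatorElement_def]; group] at this
      have h2 : ⁅(a : G), (b : G)⁆ ∈ C := mul_mem (mul_mem (mul_mem a.2 b.2) (inv_mem a.2)) (inv_mem b.2)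
      exact Subtype.ext (commutatorElement_eq_one_iff_mul_comm.mp (hV₀Z _ h1 (hCV _ h2 (hV₀V h1)).2))
    have hxc : (⟨x, hxC⟩ : ↥C) ∈ commutator ↥C := by
      rw [← Subgroup.map_subtype_commutator] at hL
      obtain ⟨y, hy, he⟩ := hL.le hx
      rwa [show (⟨x, hxC⟩ : ↥C) = y from Subtype.ext he.symm]
    have hnd := Transfer.not_dvd_orderOf_central_commutator P
      (x := (⟨x, hxC⟩ : ↥C)) (Subgroup.mem_center_iff.mpr fun y => Subtype.ext
        (Subgroup.mem_center_iff.mp hxz.2 y)) hxc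
    rw [Subgroup.orderOf_mk] at hnd
    exact Transfer.eq_one_of_pow_of_coprime (pow_orderOf_eq_one x) (hA.elem.2 x hxz.1)
      ((hpp.coprime_iff_not_dvd.mpr hnd).symm)
  let σ : ↥L ≃* SL(2, F) := MulEquiv.ofBijective (ρ.comp L.subtype)
    ⟨(injective_iff_map_eq_one _).mpr fun x hx => Subtype.ext (hLV x x.2 hx),
      fun y => by obtain ⟨x, hx, e⟩ := hLρ.ge (mem_top y); exact ⟨⟨x, hx⟩, e⟩⟩
  let lft : G →* G := (L.subtype.comp σ.symm.toMonoidHom).comp ρ
  have hlft : ∀ g, ρ (lft g) = ρ g := fun g => σ.apply_symm_apply (ρ g)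
  have hres : ∀ g, g * (lft g)⁻¹ ∈ V := fun g => (hkerV _).mp (by
    rw [map_mul, map_inv, hlft, mul_inv_cancel])
  let τ : G → (Fin 2 → F) := fun g => tv ⟨g * (lft g)⁻¹, hres g⟩
  have hτ : ∀ g k, τ (g * k) = τ g + ((ρ g : SL(2, F)) : Matrix (Fin 2) (Fin 2) F).mulVec (τ k) := by
    intro g k
    show tv _ = tv _ + _
    rw [show (⟨g * k * (lft (g * k))⁻¹, hres (g * k)⟩ : ↥V) =
      ⟨g * (lft g)⁻¹, hres g⟩ * cV (lft g) ⟨k * (lft k)⁻¹, hres k⟩ from Subtype.ext (by
        show g * k * (lft (g * k))⁻¹ = g * (lft g)⁻¹ * (lft g * (k * (lft k)⁻¹) * (lft g)⁻¹)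
        simp only [map_mul]; group), tv_mul, tv_conj, hlft]
  have hlftV : ∀ v ∈ V, lft v = 1 := fun v hv => by
    show (σ.symm (ρ v) : G) = 1
    rw [(hkerV v).mpr hv, map_one]; rfl
  let mat : G → Matrix (Fin 3) (Fin 3) F := fun g =>
    !![(ρ g : Matrix (Fin 2) (Fin 2) F) 0 0, (ρ g : Matrix (Fin 2) (Fin 2) F) 0 1, τ g 0;
       (ρ g : Matrix (Fin 2) (Fin 2) F) 1 0, (ρ g : Matrix (Fin 2) (Fin 2) F) 1 1, τ g 1; 0, 0, 1]
  have hdet : ∀ g, (mat g).det = 1 := fun g => by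
    have := (ρ g).2
    rw [Matrix.det_fin_two] at this
    simp [mat, Matrix.det_fin_three]
    linear_combination this
  let Φ : G →* SL(3, F) := MonoidHom.mk' (fun g => ⟨mat g, hdet g⟩) fun g k => by
    refine Subtype.ext ?_
    show mat (g * k) = mat g * mat k
    ext i j
    fin_cases i <;> fin_cases j <;>
      simp [mat, hτ, map_mul, Matrix.mul_apply, Fin.sum_univ_three, Fin.sum_univ_two] <;> ring
  have hΦ : ∀ g, Φ g = 1 ↔ g ∈ V ⊓ Subgroup.center G := by
    intro g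
    constructor
    · intro hg
      have hm : mat g = 1 := congrArg Subtype.val hg
      have hρg : ρ g = 1 := by
        refine Matrix.SpecialLinearGroup.ext _ _ fun i j => ?_
        fin_cases i <;> fin_cases j
        · simpa [mat] using congrFun (congrFun hm 0) 0
        · simpa [mat] using congrFun (congrFun hm 0) 1
        · simpa [mat] using congrFun (congrFun hm 1) 0
        · simpa [mat] using congrFun (congrFun hm 1) 1
      have hgV := (hkerV g).mp hρg
      refine (tv_zero ⟨g, hgV⟩).mp ?_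
      rw [show (⟨g, hgV⟩ : ↥V) = ⟨g * (lft g)⁻¹, hres g⟩ from Subtype.ext (by simp [hlftV g hgV])]
      ext i
      fin_cases i
      · simpa [mat] using congrFun (congrFun hm 0) 2
      · simpa [mat] using congrFun (congrFun hm 1) 2
    · intro hg
      refine Subtype.ext ?_
      show mat g = 1
      have hτ0 : τ g = 0 := by
        show tv _ = 0
        refine (tv_zero _).mpr ?_
        show g * (lft g)⁻¹ ∈ _
        rwa [hlftV g hg.1, inv_one, mul_one]
      ext i j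
      fin_cases i <;> fin_cases j <;> simp [mat, hτ0, (hkerV g).mpr hg.1]
  have hrange : Φ.range = qdOver F := by
    refine le_antisymm ?_ ((closure_le _).mpr ?_)
    · rintro _ ⟨g, rfl⟩
      exact subset_closure ⟨show mat g 2 0 = 0 by simp [mat], show mat g 2 1 = 0 by simp [mat], show mat g 2 2 = 1 by simp [mat]⟩
    · rintro m ⟨h1, h2, h3⟩
      set N : Matrix (Fin 3) (Fin 3) F := (m : Matrix (Fin 3) (Fin 3) F) with hN
      have hd' := m.2
      rw [← hN, Matrix.det_fin_three, h1, h2, h3] at hd'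
      let B : SL(2, F) := ⟨!![N 0 0, N 0 1; N 1 0, N 1 1], by
        rw [Matrix.det_fin_two_of]; linear_combination hd'⟩
      obtain ⟨x, hx, hxe⟩ := hsurj ![N 0 2, N 1 2]
      refine ⟨x * (σ.symm B : G), ?_⟩
      have hρB : ρ (σ.symm B : G) = B := σ.apply_symm_apply B
      have e1 : ρ (x * (σ.symm B : G)) = B := by
        rw [map_mul, (hkerV x).mpr (hV₀V hx), one_mul, hρB]
      have e2 : τ (x * (σ.symm B : G)) = ![N 0 2, N 1 2] := by
        rw [← hxe]
        show tv _ = tv _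
        congr 1
        refine Subtype.ext ?_
        show x * (σ.symm B : G) * (σ.symm (ρ (x * (σ.symm B : G))) : G)⁻¹ = x
        rw [e1, mul_inv_cancel_right]
      refine Subtype.ext ?_
      show mat (x * (σ.symm B : G)) = N
      ext i j
      fin_cases i <;> fin_cases j <;> simp [mat, e1, e2, B, h1, h2, h3]
  refine ⟨V₀ ⊔ L, V ⊓ Subgroup.center G, ⟨le_top, le_top, fun a _ b hb =>
    Subgroup.mem_center_iff.mp hb.2 a, ?_, ?_⟩, PGroup.isElementaryAbelian_mono hA.elem inf_le_left, ?_⟩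
  · refine eq_bot_iff.mpr fun g ⟨hg, hgz⟩ => mem_bot.mpr ?_
    obtain ⟨x, hx, l, hl, rfl⟩ := mem_sup_of_normal_left.mp hg
    have h1 : ρ l = 1 := by
      have := (hkerV _).mpr hgz.1
      rwa [map_mul, (hkerV x).mpr (hV₀V hx), one_mul] at this
    rw [hLV l hl h1, mul_one] at hgz ⊢
    exact hV₀Z x hx hgz.2
  · refine (eq_top_iff' _).mpr fun g => ?_
    obtain ⟨x, hx, z, hz, e⟩ := hdecV _ (hres g)
    have hg : g = x * lft g * z := by
      rw [mul_assoc, Subgroup.mem_center_iff.mp hz.2 (lft g), ← mul_assoc, e, inv_mul_cancel_right]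
    rw [hg]
    exact mul_mem (mem_sup_left (mul_mem (mem_sup_left hx) (mem_sup_right (σ.symm (ρ g)).2)))
      (mem_sup_right hz)
  · have hinj : ∀ g ∈ V₀ ⊔ L, Φ g = 1 → g = 1 := by
      intro g hg hg1
      have hgz := (hΦ g).mp hg1
      obtain ⟨x, hx, l, hl, rfl⟩ := mem_sup_of_normal_left.mp hg
      have h1 : ρ l = 1 := by
        have := (hkerV _).mpr hgz.1
        rwa [map_mul, (hkerV x).mpr (hV₀V hx), one_mul] at this
      rw [hLV l hl h1, mul_one] at hgz ⊢
      exact hV₀Z x hx hgz.2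
    have hsub : (V₀ ⊔ L).map Φ = qdOver F := by
      refine le_antisymm (hrange ▸ map_le_range Φ _) ?_
      rw [← hrange]
      rintro _ ⟨g, rfl⟩
      obtain ⟨x, hx, z, hz, e⟩ := hdecV _ (hres g)
      refine ⟨x * lft g, mul_mem (mem_sup_left hx) (mem_sup_right (σ.symm (ρ g)).2), ?_⟩
      have hg : g = x * lft g * z := by
        rw [mul_assoc, Subgroup.mem_center_iff.mp hz.2 (lft g), ← mul_assoc, e, inv_mul_cancel_right]
      conv_rhs => rw [hg, map_mul, (hΦ z).mpr hz, mul_one]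
    exact ⟨(MulEquiv.ofBijective (Φ.subgroupMap (V₀ ⊔ L))
      ⟨(injective_iff_map_eq_one _).mpr fun x hx =>
        Subtype.ext (hinj x x.2 (congrArg Subtype.val hx)),
       Φ.subgroupMap_surjective _⟩).trans (MulEquiv.subgroupCongr hsub)⟩

end Cfsg.Agent.PushingUp
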