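import Cfsg.Agent.Lib.NaturalSL2.Coords
import Cfsg.Agent.Lib.PCore.Basic
import Mathlib

/-!
# `PSL₂(F)` in defining characteristic, as a quotient

* `exists_adapted`: a surjection onto `PSL₂(F)` composed with an inner automorphism sends a given Sylow
  `p`-subgroup onto the image `uniP F` of the upper unitriangular group
* `uniP_eq_bot_or`: subgroups of `uniP F` normalised by `N(uniP F)` are trivial or all of it
* `not_normal_uniP`, `comm_uniP`, `pow_uniP`
* `exists_normalizer_lift`: normalisers of Sylow images lift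
-/

set_option autoImplicit false

namespace Cfsg.Agent.PushingUp

open Matrix Subgroup
open scoped MatrixGroups Pointwise

variable (F : Type*) [Field F]

local notation "PSL2" => Matrix.ProjectiveSpecialLinearGroup (Fin 2) F

/-- The projection `SL₂ → PSL₂`. -/
abbrev proj : SL(2, F) →* PSL2 := QuotientGroup.mk' (Subgroup.center SL(2, F))

theorem proj_surjective : Function.Surjective (proj F) := QuotientGroup.mk'_surjective _

/-- The image of the upper unitriangular group in `PSL₂`. -/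
def uniP : Subgroup PSL2 := (NaturalSL2.upperUni F).map (proj F)

variable {F}

theorem mem_uniP {y : PSL2} : y ∈ uniP F ↔ ∃ x : F, proj F (NaturalSL2.uni x) = y := by
  constructor
  · rintro ⟨A, hA, rfl⟩
    exact ⟨_, congrArg (proj F) (Subtype.ext (NaturalSL2.apply_of_mem_upperUni hA).symm)⟩
  · rintro ⟨x, rfl⟩
    exact ⟨_, NaturalSL2.uni_mem x, rfl⟩

theorem uni_add (x y : F) :
    NaturalSL2.uni (x + y) = NaturalSL2.uni x * NaturalSL2.uni y := by
  refine Matrix.SpecialLinearGroup.ext _ _ fun i j => ?_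
  simp only [Matrix.SpecialLinearGroup.coe_mul]
  fin_cases i <;> fin_cases j <;>
    simp [NaturalSL2.uni, Matrix.mul_apply, Fin.sum_univ_two, add_comm]

theorem uni_zero : NaturalSL2.uni (0 : F) = 1 := by
  refine Matrix.SpecialLinearGroup.ext _ _ fun i j => ?_
  simp only [Matrix.SpecialLinearGroup.coe_one]
  fin_cases i <;> fin_cases j <;> simp [NaturalSL2.uni]

theorem comm_uniP {y z : PSL2} (hy : y ∈ uniP F) (hz : z ∈ uniP F) : y * z = z * y := by
  obtain ⟨a, rfl⟩ := mem_uniP.mp hy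
  obtain ⟨b, rfl⟩ := mem_uniP.mp hz
  rw [← map_mul, ← map_mul, ← uni_add, ← uni_add, add_comm]

theorem pow_uniP {p : ℕ} [CharP F p] {y : PSL2} (hy : y ∈ uniP F) : y ^ p = 1 := by
  obtain ⟨a, rfl⟩ := mem_uniP.mp hy
  have key : ∀ k : ℕ, NaturalSL2.uni a ^ k = NaturalSL2.uni ((k : F) * a) := by
    intro k
    induction k with
    | zero => rw [pow_zero, Nat.cast_zero, zero_mul, uni_zero]
    | succ k ih => rw [pow_succ, ih, ← uni_add]; congr 1; push_cast; ring
  rw [← map_pow, key, CharP.cast_eq_zero, zero_mul, uni_zero, map_one]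

/-- The diagonal element with entries `a, a⁻¹`. -/
def torus (a : Fˣ) : SL(2, F) := ⟨!![(a : F), 0; 0, ((a⁻¹ : Fˣ) : F)], by simp [Matrix.det_fin_two]⟩

theorem torus_uni (a : Fˣ) (x : F) :
    torus a * NaturalSL2.uni x = NaturalSL2.uni ((a : F) ^ 2 * x) * torus a := by
  refine Matrix.SpecialLinearGroup.ext _ _ fun i j => ?_
  simp only [Matrix.SpecialLinearGroup.coe_mul]
  fin_cases i <;> fin_cases j <;>
    simp [torus, NaturalSL2.uni, Matrix.mul_apply, Fin.sum_univ_two]
  field_simp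

theorem proj_torus_conj (a : Fˣ) (x : F) :
    proj F (torus a) * proj F (NaturalSL2.uni x) * (proj F (torus a))⁻¹ =
      proj F (NaturalSL2.uni ((a : F) ^ 2 * x)) := by
  rw [← map_mul, torus_uni, map_mul, mul_inv_cancel_right]

theorem torus_mem_normalizer (a : Fˣ) : proj F (torus a) ∈ normalizer (uniP F : Set PSL2) := by
  refine mem_normalizer_iff.mpr fun y => ⟨?_, fun hy => ?_⟩
  · intro hy
    obtain ⟨x, rfl⟩ := mem_uniP.mp hy
    exact mem_uniP.mpr ⟨_, (proj_torus_conj a x).symm⟩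
  · obtain ⟨x, hx⟩ := mem_uniP.mp hy
    refine mem_uniP.mpr ⟨((a⁻¹ : Fˣ) : F) ^ 2 * x, ?_⟩
    have h1 := proj_torus_conj a (((a⁻¹ : Fˣ) : F) ^ 2 * x)
    rw [← mul_assoc, ← mul_pow, ← Units.val_mul, mul_inv_cancel, Units.val_one, one_pow, one_mul,
      hx, mul_left_inj, mul_right_inj] at h1
    exact h1

/-- Subgroups of `uniP F` normalised by its normaliser are trivial or everything. -/
theorem uniP_eq_bot_or [Finite F] {B : Subgroup PSL2} (hB : B ≤ uniP F)
    (hN : normalizer (uniP F : Set PSL2) ≤ normalizer (B : Set PSL2)) :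
    B = ⊥ ∨ B = uniP F := by
  by_cases hB0 : B = ⊥
  · exact Or.inl hB0
  right
  obtain ⟨y, hy, hy1⟩ := B.bot_or_exists_ne_one.resolve_left hB0
  obtain ⟨x₀, rfl⟩ := mem_uniP.mp (hB hy)
  have hx₀ : x₀ ≠ 0 := by rintro rfl; exact hy1 (by rw [uni_zero, map_one])
  let R : AddSubgroup F :=
    { carrier := {r | proj F (NaturalSL2.uni (r * x₀)) ∈ B}
      zero_mem' := by simp [uni_zero]
      add_mem' := fun {r s} hr hs => by
        show proj F (NaturalSL2.uni ((r + s) * x₀)) ∈ B
        rw [add_mul, uni_add, map_mul]; exact mul_mem hr hs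
      neg_mem' := fun {r} hr => by
        show proj F (NaturalSL2.uni (-r * x₀)) ∈ B
        have e : proj F (NaturalSL2.uni (-r * x₀)) * proj F (NaturalSL2.uni (r * x₀)) = 1 := by
          rw [← map_mul, ← uni_add, ← add_mul, neg_add_cancel, zero_mul, uni_zero, map_one]
        rw [eq_inv_of_mul_eq_one_left e]
        exact inv_mem hr }
  have hsq : ∀ r : F, r ^ 2 ∈ R := by
    intro r
    rcases eq_or_ne r 0 with rfl | hr
    · simp
    show proj F (NaturalSL2.uni (r ^ 2 * x₀)) ∈ B
    rw [show r = ((Units.mk0 r hr : Fˣ) : F) from rfl, ← proj_torus_conj]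
    exact (mem_normalizer_iff.mp (hN (torus_mem_normalizer _)) _).mp hy
  have hall : ∀ r : F, r ∈ R := by
    intro r
    by_cases h2 : ringChar F = 2
    · have := Fintype.ofFinite F
      obtain ⟨s, rfl⟩ := FiniteField.isSquare_of_char_two h2 r
      simpa [sq] using hsq s
    · have h2' : (2 : F) ≠ 0 := Ring.two_ne_zero h2
      have h4 : (4 : F) ≠ 0 := by
        rw [show (4 : F) = 2 * 2 by norm_num]; exact mul_ne_zero h2' h2'
      have h := R.sub_mem (hsq (r / 4 + 1)) (hsq (r / 4 - 1))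
      rwa [show (r / 4 + 1) ^ 2 - (r / 4 - 1) ^ 2 = r by field_simp; ring] at h
  refine le_antisymm hB fun z hz => ?_
  obtain ⟨x, rfl⟩ := mem_uniP.mp hz
  have := hall (x / x₀)
  show proj F (NaturalSL2.uni x) ∈ B
  have h' : proj F (NaturalSL2.uni (x / x₀ * x₀)) ∈ B := this
  rwa [div_mul_cancel₀ x hx₀] at h'

/-- The image of the upper unitriangular group is not normal. -/
theorem not_normal_uniP : ¬ (uniP F).Normal := by
  intro hn
  let w : SL(2, F) := ⟨!![0, 1; -1, 0], by simp [Matrix.det_fin_two]⟩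
  let l : SL(2, F) := ⟨!![1, 0; -1, 1], by simp [Matrix.det_fin_two]⟩
  have hw : w * NaturalSL2.uni 1 = l * w := by
    refine Matrix.SpecialLinearGroup.ext _ _ fun i j => ?_
    simp only [Matrix.SpecialLinearGroup.coe_mul]
    fin_cases i <;> fin_cases j <;> simp [w, l, NaturalSL2.uni, Matrix.mul_apply, Fin.sum_univ_two]
  have h1 : proj F l ∈ uniP F := by
    have := hn.conj_mem _ (mem_uniP.mpr ⟨(1 : F), rfl⟩) (proj F w)
    rwa [← map_mul, hw, map_mul, mul_inv_cancel_right] at this
  obtain ⟨x, hx⟩ := mem_uniP.mp h1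
  obtain ⟨z, hz, e⟩ := (QuotientGroup.mk'_eq_mk' _).mp hx
  obtain ⟨r, -, hr⟩ := Matrix.SpecialLinearGroup.mem_center_iff.mp hz
  have e' := congrArg (fun A : SL(2, F) => (A : Matrix (Fin 2) (Fin 2) F) 1 0) e
  simp only [Matrix.SpecialLinearGroup.coe_mul, ← hr] at e'
  simp [l, NaturalSL2.uni, Matrix.mul_apply, Fin.sum_univ_two] at e'

variable {G : Type*} [Group G] [Finite G] {p : ℕ} [Fact p.Prime]

/-- Normalisers of images of Sylow subgroups lift. -/
theorem exists_normalizer_lift {H : Type*} [Group H] {f : G →* H} (hf : Function.Surjective f)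
    (S : Sylow p G) {y : H} (hy : y ∈ normalizer ((S : Subgroup G).map f : Set H)) :
    ∃ x ∈ normalizer ((S : Subgroup G) : Set G), f x = y := by
  obtain ⟨x, rfl⟩ := hf y
  set L := ((S : Subgroup G).map f).comap f
  have hS : (S : Subgroup G) ≤ L := le_comap_map _ _
  have hxS : ((x • S : Sylow p G) : Subgroup G) ≤ L := by
    intro g hg
    rw [Sylow.smul_def, Sylow.pointwise_smul_def] at hg
    obtain ⟨s, hs, rfl⟩ := hg
    show f (x * s * x⁻¹) ∈ (S : Subgroup G).map f
    rw [map_mul, map_mul, map_inv]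
    exact (mem_normalizer_iff.mp hy (f s)).mp ⟨s, hs, rfl⟩
  obtain ⟨h, hh⟩ := MulAction.exists_smul_eq ↥L (S.subtype hS) ((x • S).subtype hxS)
  rw [Sylow.smul_subtype] at hh
  have e : (h : G) • S = x • S := Sylow.subtype_injective hh
  have hn : (h : G)⁻¹ * x ∈ normalizer ((S : Subgroup G) : Set G) := by
    exact Sylow.smul_eq_iff_mem_normalizer.mp (by rw [mul_smul, ← e, inv_smul_smul])
  obtain ⟨s, hs, e1⟩ := (h.2 : f h ∈ (S : Subgroup G).map f)
  refine ⟨s * ((h : G)⁻¹ * x), mul_mem (le_normalizer hs) hn, ?_⟩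
  rw [map_mul, map_mul, map_inv, e1, mul_inv_cancel_left]

/-- An adapted surjection onto `PSL₂(F)`. -/
theorem exists_adapted [Fintype F] {n : ℕ} (hF : Fintype.card F = p ^ n) (S : Sylow p G)
    (θ : G →* PSL2) (hθ : Function.Surjective θ) :
    ∃ θ' : G →* PSL2, Function.Surjective θ' ∧ θ'.ker = θ.ker ∧
      (S : Subgroup G).map θ' = uniP F := by
  obtain ⟨P, hP⟩ := NaturalSL2.exists_sylow_upperUni (F := F) hF
  obtain ⟨g, hg⟩ := MulAction.exists_smul_eq PSL2 (S.mapSurjective hθ) (P.mapSurjective (proj_surjective F))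
  refine ⟨(MulAut.conj g).toMonoidHom.comp θ, (MulAut.conj g).surjective.comp hθ, ?_, ?_⟩
  · ext x
    rw [MonoidHom.mem_ker, MonoidHom.mem_ker, MonoidHom.comp_apply]
    exact map_eq_one_iff _ (MulAut.conj g).injective
  · rw [← Subgroup.map_map, uniP, ← hP]
    exact congrArg (fun R : Sylow p PSL2 => (R : Subgroup PSL2)) hg

end Cfsg.Agent.PushingUp
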