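import Cfsg.Agent.Lib.Coprime.Stabilize
import Mathlib

/-!
# Commutators with an abelian normalised subgroup

* `tau_mul`, `tau_left`, `tau_pow`, `tau_four`: the maps `x ↦ ⁅a, x⁆` on an abelian `W`
* `torus_action`: the element `a^l b^m a^l (a b a)⁻¹` scales the two lines
-/

set_option autoImplicit false
set_option linter.unusedSectionVars false
set_option linter.unusedVariables false

namespace Cfsg.Agent.PushingUp

open Subgroup
open scoped commutatorElement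

universe u

variable {H : Type u} [Group H] {W : Subgroup H} (hW : ∀ x ∈ W, ∀ y ∈ W, x * y = y * x)
include hW

theorem tau_mem {a x : H} (ha : a ∈ normalizer (W : Set H)) (hx : x ∈ W) : ⁅a, x⁆ ∈ W :=
  mul_mem ((mem_normalizer_iff.mp ha x).mp hx) (inv_mem hx)

theorem tau_mul {a x y : H} (ha : a ∈ normalizer (W : Set H)) (hx : x ∈ W) (hy : y ∈ W) :
    ⁅a, x * y⁆ = ⁅a, x⁆ * ⁅a, y⁆ := by
  calc ⁅a, x * y⁆ = ⁅a, x⁆ * (x * ⁅a, y⁆) * x⁻¹ := by simp only [commutatorElement_def]; group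
    _ = _ := by rw [hW x hx _ (tau_mem hW ha hy)]; group

theorem tau_left {a q x : H} (ha : a ∈ normalizer (W : Set H)) (hq : q ∈ W) (hx : x ∈ W) :
    ⁅q * a, x⁆ = ⁅a, x⁆ := by
  calc ⁅q * a, x⁆ = q * ⁅a, x⁆ * (x * q⁻¹) * x⁻¹ := by simp only [commutatorElement_def]; group
    _ = _ := by rw [hW x hx _ (inv_mem hq), hW q hq _ (tau_mem hW ha hx)]; group

theorem tau_one {a : H} : ⁅a, (1 : H)⁆ = 1 := by rw [commutatorElement_def]; group

theorem tau_npow {a x : H} (ha : a ∈ normalizer (W : Set H)) (hx : x ∈ W) :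
    ∀ n : ℕ, ⁅a, x ^ n⁆ = ⁅a, x⁆ ^ n := by
  intro n
  induction n with
  | zero => rw [pow_zero, pow_zero, tau_one hW]
  | succ n ih => rw [pow_succ, tau_mul hW ha (pow_mem hx n) hx, ih, pow_succ]

/-- `⁅aⁿ, y⁆ = ⁅a, y⁆ⁿ` when `a` fixes `⁅a, y⁆`. -/
theorem tau_pow {a y : H} (hfix : a * ⁅a, y⁆ = ⁅a, y⁆ * a) (n : ℕ) : ⁅a ^ n, y⁆ = ⁅a, y⁆ ^ n := by
  have h1 : a * y * a⁻¹ = ⁅a, y⁆ * y := by rw [commutatorElement_def]; group
  rw [commutatorElement_def (a ^ n), Coprime.conj_pow_eq_translate h1 hfix n, mul_inv_cancel_right]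

/-- The second iterate of `⁅aⁿ, ·⁆` is the `n²`-th power of that of `⁅a, ·⁆`. -/
theorem tau_four {a x : H} (ha : a ∈ normalizer (W : Set H)) (hx : x ∈ W)
    (hfix : a * ⁅a, ⁅a, x⁆⁆ = ⁅a, ⁅a, x⁆⁆ * a) (n : ℕ) :
    ⁅a ^ n, ⁅a ^ n, x⁆⁆ = ⁅a, ⁅a, x⁆⁆ ^ (n * n) := by
  set y := ⁅a, x⁆
  set z := ⁅a, y⁆
  have hy : y ∈ W := tau_mem hW ha hx
  have hz : z ∈ W := tau_mem hW ha hy
  have hpow : ∀ m, ∃ i : ℕ, ⁅a ^ m, x⁆ = z ^ i * y ^ m := by
    intro m
    induction m with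
    | zero => exact ⟨0, by rw [pow_zero, pow_zero, pow_zero, one_mul, commutatorElement_def]; group⟩
    | succ m ih =>
      obtain ⟨i, hi⟩ := ih
      refine ⟨i + m, ?_⟩
      calc ⁅a ^ (m + 1), x⁆ = (a * ⁅a ^ m, x⁆ * a⁻¹) * y := by
            rw [pow_succ']; simp only [y, commutatorElement_def]; group
        _ = (a * z ^ i * a⁻¹) * (a * y ^ m * a⁻¹) * y := by rw [hi]; group
        _ = z ^ i * (z * y) ^ m * y := by
          rw [← conj_pow, ← conj_pow, show a * y * a⁻¹ = z * y by simp only [z, commutatorElement_def]; group,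
            show a * z * a⁻¹ = z by rw [hfix, mul_inv_cancel_right]]
        _ = z ^ (i + m) * y ^ (m + 1) := by
          rw [Commute.mul_pow (hW z hz y hy), pow_add, pow_succ]; group
  obtain ⟨i, hi⟩ := hpow n
  have han : a ^ n ∈ normalizer (W : Set H) := pow_mem ha n
  rw [hi, tau_mul hW han (pow_mem hz _) (pow_mem hy _), tau_npow hW han hz, tau_npow hW han hy,
    tau_pow hW hfix n]
  have : ⁅a ^ n, z⁆ = 1 := commutatorElement_eq_one_iff_mul_comm.mpr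
    ((show Commute a z from hfix).pow_left n)
  rw [this, one_pow, one_mul, ← pow_mul]

/-- The torus_action element built from two opposite unipotent elements. -/
theorem torus_action {L L' : Subgroup H} {a b : H} (ha : a ∈ normalizer (W : Set H))
    (hL : L ≤ W) (hL' : L' ≤ W) (hdisj : L ⊓ L' = ⊥)
    (hAL : ∀ x ∈ L, a * x = x * a) (hBL' : ∀ y ∈ L', b * y = y * b)
    (hA : ∀ y ∈ L', ⁅a, y⁆ ∈ L) (hB : ∀ x ∈ L, ⁅b, x⁆ ∈ L')
    (hw : L'.map (MulAut.conj (a * b * a)).toMonoidHom = L) (l m : ℕ) (hexp : ∀ x ∈ W, x ^ (l * m) = x) :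
    (∀ x ∈ L, a ^ l * b ^ m * a ^ l * (a * b * a)⁻¹ * x * (a ^ l * b ^ m * a ^ l * (a * b * a)⁻¹)⁻¹ =
      x ^ l) ∧
    ∀ y ∈ L', a ^ l * b ^ m * a ^ l * (a * b * a)⁻¹ * y * (a ^ l * b ^ m * a ^ l * (a * b * a)⁻¹)⁻¹ =
      y ^ m := by
  set w := a * b * a
  set t := a ^ l * b ^ m * a ^ l * w⁻¹
  have key : ∀ y ∈ L', ⁅b, ⁅a, y⁆⁆ = y⁻¹ ∧ w * y * w⁻¹ = ⁅a, y⁆ := by
    intro y hy
    set x := ⁅a, y⁆
    have hx : x ∈ L := hA y hy
    set y' := ⁅b, x⁆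
    have hy' : y' ∈ L' := hB x hx
    have h1 : w * y * w⁻¹ = ⁅a, y' * y⁆ * (y' * y) * x := by
      calc w * y * w⁻¹ = a * (b * (x * y) * b⁻¹) * a⁻¹ := by
            simp only [w, x, commutatorElement_def]; group
        _ = a * ((b * x * b⁻¹) * (b * y * b⁻¹)) * a⁻¹ := by group
        _ = a * (y' * x * y) * a⁻¹ := by
          rw [hBL' y hy, mul_inv_cancel_right, show b * x * b⁻¹ = y' * x by
            simp only [y', commutatorElement_def]; group]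
        _ = a * (y' * y * x) * a⁻¹ := by
          rw [mul_assoc y', hW x (hL hx) y (hL' hy)]; simp only [mul_assoc]
        _ = a * (y' * y) * a⁻¹ * (a * x * a⁻¹) := by group
        _ = ⁅a, y' * y⁆ * (y' * y) * x := by
          rw [show a * x * a⁻¹ = x by rw [hAL x hx, mul_inv_cancel_right], commutatorElement_def a (y' * y)]
          group
    have hwy : w * y * w⁻¹ ∈ L := hw ▸ ⟨y, hy, rfl⟩
    rw [h1] at hwy ⊢
    have hm : y' * y = 1 := by
      refine mem_bot.mp (hdisj.le ⟨?_, mul_mem hy' hy⟩)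
      have := mul_mem (mul_mem (inv_mem (hA _ (mul_mem hy' hy))) hwy) (inv_mem hx)
      rw [show ⁅a, y' * y⁆⁻¹ * (⁅a, y' * y⁆ * (y' * y) * x) * x⁻¹ = y' * y by group] at this
      exact this
    refine ⟨eq_inv_of_mul_eq_one_left hm, ?_⟩
    rw [hm, tau_one hW, one_mul, one_mul]
  have hfix : ∀ x ∈ L, ∀ n : ℕ, a ^ n * x * (a ^ n)⁻¹ = x := fun x hx n => by
    rw [((show Commute a x from hAL x hx).pow_left n).eq, mul_inv_cancel_right]
  have ham : ∀ y ∈ L', ∀ n : ℕ, a ^ n * y * (a ^ n)⁻¹ = ⁅a, y⁆ ^ n * y := fun y hy n =>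
    Coprime.conj_pow_eq_translate (by rw [commutatorElement_def]; group) (hAL _ (hA y hy)) n
  have hbm : ∀ x ∈ L, ∀ n : ℕ, b ^ n * x * (b ^ n)⁻¹ = ⁅b, x⁆ ^ n * x := fun x hx n =>
    Coprime.conj_pow_eq_translate (by rw [commutatorElement_def]; group) (hBL' _ (hB x hx)) n
  have hbfix : ∀ y ∈ L', ∀ n : ℕ, b ^ n * y * (b ^ n)⁻¹ = y := fun y hy n => by
    rw [((show Commute b y from hBL' y hy).pow_left n).eq, mul_inv_cancel_right]
  constructor
  · intro x hx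
    obtain ⟨y, hy, rfl⟩ := hw.ge hx
    obtain ⟨e1, e2⟩ := key y hy
    show t * (w * y * w⁻¹) * t⁻¹ = (w * y * w⁻¹) ^ l
    rw [e2]
    set x := ⁅a, y⁆
    have hx' : x ∈ L := hA y hy
    calc t * x * t⁻¹ = a ^ l * (b ^ m * (a ^ l * y * (a ^ l)⁻¹) * (b ^ m)⁻¹) * (a ^ l)⁻¹ := by
          rw [← e2]; simp only [t]; group
      _ = a ^ l * ((b ^ m * x ^ l * (b ^ m)⁻¹) * (b ^ m * y * (b ^ m)⁻¹)) * (a ^ l)⁻¹ := by
        rw [show a ^ l * y * (a ^ l)⁻¹ = x ^ l * y from ham y hy l]; group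
      _ = a ^ l * (((y⁻¹) ^ m * x) ^ l * y) * (a ^ l)⁻¹ := by
        rw [hbfix y hy, ← conj_pow, hbm x hx' m, e1]
      _ = a ^ l * (x ^ l) * (a ^ l)⁻¹ := by
        rw [Commute.mul_pow (hW _ (pow_mem (inv_mem (hL' hy)) m) x (hL hx')), ← pow_mul, inv_pow,
          mul_comm m l, hexp y (hL' hy), mul_assoc y⁻¹, hW _ (pow_mem (hL hx') l) y (hL' hy),
          inv_mul_cancel_left]
      _ = x ^ l := hfix _ (pow_mem hx' l) l
  · intro y hy
    obtain ⟨e1, e2⟩ := key y hy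
    set x := ⁅a, y⁆
    have hx : x ∈ L := hA y hy
    have hwy : w⁻¹ * y * w = x⁻¹ := by
      have h1 : w * x * w⁻¹ = y⁻¹ := by
        calc w * x * w⁻¹ = a * (b * (a * x * a⁻¹) * b⁻¹) * a⁻¹ := by simp only [w]; group
          _ = a * (y⁻¹ * x) * a⁻¹ := by
            rw [show a * x * a⁻¹ = x by rw [hAL x hx, mul_inv_cancel_right],
              show b * x * b⁻¹ = ⁅b, x⁆ * x by rw [commutatorElement_def]; group, e1]
          _ = (a * y * a⁻¹)⁻¹ * (a * x * a⁻¹) := by group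
          _ = _ := by
            rw [show a * x * a⁻¹ = x by rw [hAL x hx, mul_inv_cancel_right],
              show a * y * a⁻¹ = x * y by simp only [x, commutatorElement_def]; group]
            group
      calc w⁻¹ * y * w = w⁻¹ * (w * x * w⁻¹)⁻¹ * w := by rw [h1, inv_inv]
        _ = x⁻¹ := by group
    calc t * y * t⁻¹ = a ^ l * (b ^ m * (a ^ l * (w⁻¹ * y * w) * (a ^ l)⁻¹) * (b ^ m)⁻¹) * (a ^ l)⁻¹ := by
          simp only [t]; group
      _ = a ^ l * (b ^ m * x⁻¹ * (b ^ m)⁻¹) * (a ^ l)⁻¹ := by rw [hwy, hfix _ (inv_mem hx)]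
      _ = a ^ l * ((y⁻¹) ^ m * x)⁻¹ * (a ^ l)⁻¹ := by
        rw [show b ^ m * x⁻¹ * (b ^ m)⁻¹ = (b ^ m * x * (b ^ m)⁻¹)⁻¹ by group, hbm x hx m, e1]
      _ = a ^ l * x⁻¹ * (a ^ l)⁻¹ * (a ^ l * y * (a ^ l)⁻¹) ^ m := by rw [conj_pow, inv_pow]; group
      _ = x⁻¹ * (x ^ l * y) ^ m := by rw [hfix _ (inv_mem hx), show a ^ l * y * (a ^ l)⁻¹ = x ^ l * y from ham y hy l]
      _ = y ^ m := by
        rw [Commute.mul_pow (hW _ (pow_mem (hL hx) l) y (hL' hy)), ← pow_mul, hexp x (hL hx),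
          inv_mul_cancel_left]

end Cfsg.Agent.PushingUp
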