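import Cfsg.Agent.Lib.PushingUp.Common
import Cfsg.Agent.Lib.PushingUp.Paths

/-!
# Distance two: the data

`Two c k g g'`: two neighbouring windows of an alternating critical path around the vertices `G`, `G^k`.
`Dat p S M V' Q' A E₀ g`: the same inside `G`: `V' = V^k`, `Q' = Q^k`, `A` the far translate moving `V`,
`E₀ = Q ∩ Q' ∩ C(A)`-part with `Q ∩ Q' = V E₀`.

* `exists_two`, `Two.symm`, `Two.data`, `dat_of_two`
-/

set_option autoImplicit false
set_option linter.unusedSectionVars false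

namespace Cfsg.Agent.PushingUp

open Subgroup
open FFPair (cj mem_cj cj_cj)
open scoped commutatorElement

universe u v

section

variable {Γ : Type u} [Group Γ] {p : ℕ} {c : Cfg Γ}

/-- Two neighbouring noncommuting windows. -/
structure Two (c : Cfg Γ) (k g g' : Γ) : Prop where
  memN : k ∈ normalizer (c.S : Set Γ)
  memG : g ∈ c.G
  memG' : g' ∈ c.G
  mov : cj g c.Zs ≠ c.Zs
  mov' : cj g' c.Zs ≠ c.Zs
  moves : ¬ cj (g * k) c.V ≤ centralizer (cj k c.V : Set Γ)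
  moves' : ¬ cj (k * g' * k⁻¹) c.V ≤ centralizer (c.V : Set Γ)

theorem Two.symm {k g g' : Γ} (t : Two c k g g') : Two c k⁻¹ g' g where
  memN := inv_mem t.memN
  memG := t.memG'
  memG' := t.memG
  mov := t.mov'
  mov' := t.mov
  moves hc := t.moves' (by
    rw [← cj_le_cj (e := k⁻¹), cj_centralizer, cj_cj, show k⁻¹ * (k * g' * k⁻¹) = g' * k⁻¹ by group]
    exact hc)
  moves' hc := t.moves (by
    rw [← cj_le_cj (e := k⁻¹), cj_centralizer, cj_cj, cj_cj, inv_mul_cancel, cj_one]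
    rwa [inv_inv, show k⁻¹ * g * k = k⁻¹ * (g * k) by group] at hc)

variable [Finite Γ]

theorem exists_two (h : Base p c) (hnc : NoCommon c) (hg : Good c 1) {e₀ : ℕ → Γ} (hc : Crit c 1 e₀) :
    ∃ k g g' : Γ, Two c k g g' := by
  obtain ⟨k, e, ha⟩ := h.exists_alt hnc hg le_rfl hc 4
  obtain ⟨g0, hg0, hm0, e1⟩ := ha.step 0 (by omega)
  obtain ⟨g1, hg1, hm1, e2⟩ := ha.step 1 (by omega)
  obtain ⟨g2, hg2, -, e3⟩ := ha.step 2 (by omega)
  rw [show alt k 0 = k by simp [alt]] at e1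
  rw [show alt k 1 = k⁻¹ by simp [alt]] at e2
  rw [show alt k 2 = k by simp [alt]] at e3
  have hm0' : cj g0⁻¹ c.Zs ≠ c.Zs := fun e => hm0 (by
    conv_lhs => rw [← e]
    rw [cj_cj, mul_inv_cancel, cj_one])
  refine ⟨k⁻¹, g0⁻¹, g1, inv_mem ha.memN, inv_mem hg0, hg1, hm0', hm1, fun hc' => ?_, fun hc' => ?_⟩
  · refine (ha.window 0 (by omega)).moves ?_
    show cj (e 0) c.V ≤ centralizer (cj (e 2) c.V : Set Γ)
    rw [show e 2 = e 1 * k⁻¹ * g1 from e2, ← cj_cj (e 1 * k⁻¹) g1, h.conj_V hg1, ← cj_cj (e 1) k⁻¹,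
      show e 0 = e 1 * (g0⁻¹ * k⁻¹) by rw [show e 1 = e 0 * k * g0 from e1]; group,
      ← cj_cj (e 1), le_centralizer_cj_iff]
    exact hc'
  · refine (ha.window 1 (by omega)).moves ?_
    show cj (e 1) c.V ≤ centralizer (cj (e 3) c.V : Set Γ)
    rw [le_centralizer_iff, show e 3 = e 2 * k * g2 from e3, ← cj_cj (e 2 * k) g2, h.conj_V hg2,
      show e 2 * k = e 1 * (k⁻¹ * g1 * k⁻¹⁻¹) by rw [show e 2 = e 1 * k⁻¹ * g1 from e2]; group,
      ← cj_cj (e 1), le_centralizer_cj_iff]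
    exact hc'

/-- The consequences of two windows. -/
theorem Two.data (h : Base p c) (hg : Good c 1) {k g g' : Γ} (t : Two c k g g') :
    cj k c.S = c.S ∧ cj k c.Zs = c.Zs ∧ cj k c.V ≤ c.Q ∧ c.V ≤ cj k c.Q ∧
    cj (k * g' * k⁻¹) c.V ≤ cj k c.Q ∧
    cj (g * k) c.V ⊔ cj k c.Q = c.S ∧ cj (g * k) c.V ⊓ cj k c.Q = cj g c.Zs ∧
    cj k c.V ⊔ cj (g * k) c.Q = cj g c.S ∧ cj k c.V ⊓ cj (g * k) c.Q = c.Zs ∧
    cj (k * g' * k⁻¹) c.V ⊔ c.Q = c.S ∧
    c.V ⊔ cj (k * g' * k⁻¹) c.Q = cj (k * g' * k⁻¹) c.S ∧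
    cj k c.Q ≤ cj (k * g' * k⁻¹) c.S := by
  have hkS : cj k c.S = c.S := Base.conj_S t.memN
  have hkS' : cj k⁻¹ c.S = c.S := Base.conj_S (inv_mem t.memN)
  have hkZ : cj k c.Zs = c.Zs := h.conj_Zs t.memN
  have h1 : cj k c.V ≤ c.Q := by
    have := h.good_le hg (by simpa using step_mem_ball (c := c) t.memN (one_mem c.G) :
      k ∈ ball c 1)
    exact this
  have h2 : cj k⁻¹ c.V ≤ c.Q :=
    h.good_le hg (by simpa using step_mem_ball (c := c) (inv_mem t.memN) (one_mem c.G))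
  have h2' : c.V ≤ cj k c.Q := by rw [le_cj_iff]; exact h2
  set e := k * g' * k⁻¹
  have heS : cj k c.Q ≤ cj e c.S := by
    rw [show e = k * (g' * k⁻¹) by simp only [e, mul_assoc], ← cj_cj, cj_le_cj, ← cj_cj, hkS',
      ← h.conj_Q t.memG', cj_le_cj]
    exact h.QS
  have hA : cj e c.V ≤ cj k c.Q := by
    rw [show e = k * (g' * k⁻¹) by simp only [e, mul_assoc], ← cj_cj, cj_le_cj, ← cj_cj,
      ← h.conj_Q t.memG', cj_le_cj]
    exact h2
  have hAS : cj e c.V ≤ c.S := hA.trans (hkS ▸ cj_le_cj.mpr h.QS)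
  have c1 := h.cover hAS (h2'.trans heS) fun hh => t.moves' (le_centralizer_iff.mp hh)
  have c2 := (h.conj e).cover (e := e⁻¹)
  simp only [Cfg.conj, cj_cj, inv_mul_cancel, cj_one] at c2
  have hB : cj (g * k) c.V ≤ c.Q := by
    rw [← cj_cj, ← h.conj_Q t.memG, cj_le_cj]; exact h1
  have hV' : cj k c.V ≤ cj g c.S := h1.trans ((h.conj_Q t.memG).ge.trans (cj_le_cj.mpr h.QS))
  have c3 := (h.conj k).cover (e := g)
  simp only [Cfg.conj] at c3
  rw [hkS, hkZ, cj_cj g k c.V] at c3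
  have c3' := c3 (hB.trans h.QS) hV' fun hh => t.moves (le_centralizer_iff.mp hh)
  have c4 := (h.conj (g * k)).cover (e := g⁻¹)
  simp only [Cfg.conj, cj_cj, inv_mul_cancel_left] at c4
  rw [hkS, hkZ, ← cj_cj g k c.S, hkS] at c4
  have c4' := c4 hV' (hB.trans h.QS) t.moves
  exact ⟨hkS, hkZ, h1, h2', hA, c3'.1, c3'.2, c4'.1, c4'.2, c1.1,
    (c2 (h2'.trans heS) hAS fun hh => t.moves' hh).1, heS⟩

end

/-- The data inside `G`. -/
structure Dat {G : Type v} [Group G] (p : ℕ) (S : Sylow p G) (M V' Q' A E₀ : Subgroup G) (g : G) :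
    Prop where
  notMem : g ∉ M
  Q'S : Q' ≤ (S : Subgroup G)
  normQ' : (S : Subgroup G) ≤ normalizer (Q' : Set G)
  V'Q : V' ≤ pCore p G
  VQ' : vQ p G ≤ Q'
  V'Q' : V' ≤ Q'
  Q'V' : Q' ≤ centralizer (V' : Set G)
  elem' : IsElementaryAbelian p V'
  cardV' : Nat.card ↥V' ≤ Nat.card ↥(vQ p G)
  ne' : ¬ V' ≤ (S : Subgroup G) ⊓ centralizer ((S : Subgroup G) : Set G)
  quad' : ∀ s ∈ (S : Subgroup G), ∀ v ∈ V', s * v * s⁻¹ * v⁻¹ ∈
    (S : Subgroup G) ⊓ centralizer ((S : Subgroup G) : Set G)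
  ZsV' : (S : Subgroup G) ⊓ centralizer ((S : Subgroup G) : Set G) ≤ V'
  Bsup : cj g V' ⊔ Q' = (S : Subgroup G)
  Binf : cj g V' ⊓ Q' = cj g ((S : Subgroup G) ⊓ centralizer ((S : Subgroup G) : Set G))
  Csup : V' ⊔ cj g Q' = cj g (S : Subgroup G)
  Cinf : V' ⊓ cj g Q' = (S : Subgroup G) ⊓ centralizer ((S : Subgroup G) : Set G)
  AQ' : A ≤ Q'
  elemA : IsElementaryAbelian p A
  Asup : A ⊔ pCore p G = (S : Subgroup G)
  ZsE₀ : (S : Subgroup G) ⊓ centralizer ((S : Subgroup G) : Set G) ≤ E₀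
  E₀le : E₀ ≤ pCore p G ⊓ Q'
  E₀A : E₀ ≤ centralizer (A : Set G)
  dec : pCore p G ⊓ Q' ≤ vQ p G ⊔ E₀

variable {G : Type v} [Group G] [Finite G] {Γ : Type u} [Group Γ] [Finite Γ] {p : ℕ} [Fact p.Prime]
  {S : Sylow p G} {M : Subgroup G} (h : Hyp p S M) (f : G →* Γ) (hf : Function.Injective f)
  (hb : Base p (cfg p S f))
include h hf hb

/-- Two windows give data inside `G`. -/
theorem dat_of_two (hg : Good (cfg p S f) 1) {k g g' : Γ}
    (t : Two (cfg p S f) k g g') :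
    ∃ (V' Q' A E₀ : Subgroup G) (g₀ : G), f g₀ = g ∧
      V'.map f = cj k (cfg p S f).V ∧ Q'.map f = cj k (cfg p S f).Q ∧
      E₀.map f = (cfg p S f).Q ⊓ cj k (cfg p S f).Q ⊓ cj (k * g' * k⁻¹) (cfg p S f).Q ∧
      Dat p S M V' Q' A E₀ g₀ := by
  set c := cfg p S f with hc
  obtain ⟨hkS, hkZ, h1, h2, hA, c3, c3', c4, c4', c1, c2, heS⟩ := t.data hb hg
  have hpull : ∀ X : Subgroup Γ, X ≤ c.S → (X.comap f).map f = X := fun X hX =>
    map_comap_eq_self (hX.trans (map_le_range f _))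
  have hQ'S : cj k c.Q ≤ c.S := hkS ▸ cj_le_cj.mpr hb.QS
  obtain ⟨g₀, -, hg₀⟩ := t.memG
  set V' := (cj k c.V).comap f
  set Q' := (cj k c.Q).comap f
  set A := (cj (k * g' * k⁻¹) c.V).comap f
  set E₀ := (c.Q ⊓ cj k c.Q ⊓ cj (k * g' * k⁻¹) c.Q).comap f
  have eV : V'.map f = cj k c.V := hpull _ (h1.trans hb.QS)
  have eQ : Q'.map f = cj k c.Q := hpull _ hQ'S
  have eA : A.map f = cj (k * g' * k⁻¹) c.V := hpull _ (hA.trans hQ'S)
  have eE : E₀.map f = c.Q ⊓ cj k c.Q ⊓ cj (k * g' * k⁻¹) c.Q :=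
    hpull _ ((inf_le_left.trans inf_le_left).trans hb.QS)
  have hmap : ∀ {X Y : Subgroup G}, X.map f ≤ Y.map f ↔ X ≤ Y := fun {_ _} =>
    map_le_map_iff_of_injective hf
  have hcj : ∀ X : Subgroup G, (cj g₀ X).map f = cj g (X.map f) := fun X => by rw [map_cj, hg₀]
  have hcent : ∀ {X Y : Subgroup G}, X.map f ≤ centralizer (Y.map f : Set Γ) → X ≤ centralizer (Y : Set G) :=
    fun {X Y} hXY x hx y hy => hf (by rw [map_mul, map_mul]; exact hXY (mem_map_of_mem f hx) _ (mem_map_of_mem f hy))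
  have hbk := hb.conj k
  refine ⟨V', Q', A, E₀, g₀, hg₀, eV, eQ, eE,
  { notMem := ?_
    Q'S := hmap.mp (eQ.le.trans hQ'S)
    normQ' := ?_
    V'Q := hmap.mp (eV.le.trans h1)
    VQ' := hmap.mp (h2.trans eQ.ge)
    V'Q' := hmap.mp (eV.le.trans ((cj_le_cj.mpr hb.VQ).trans eQ.ge))
    Q'V' := hcent (by rw [eQ, eV]; exact hbk.QV)
    elem' := (PGroup.isElementaryAbelian_map_iff hf).mp (by rw [eV]; exact hbk.elem)
    cardV' := by
      rw [← card_map_of_injective hf, eV, card_cj]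
      exact (card_map_of_injective hf).le
    ne' := fun hle => by
      have h5 : cj k c.V ≤ c.Zs := eV.ge.trans (map_mono hle |>.trans (map_inf_centralizer f hf _ _).le
        |>.trans hb.Zs_eq.ge)
      rw [← hkZ, cj_le_cj] at h5
      exact hb.ne fun s hs => hb.centV ⟨hs, fun v hv => by
        have := hb.Zs_central (h5 hv) hs
        rwa [mul_inv_eq_iff_eq_mul, eq_comm] at this⟩
    quad' := ?_
    ZsV' := hmap.mp (le_trans (le_trans hkZ.ge (cj_le_cj.mpr hb.ZsV)) eV.ge)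
    Bsup := map_injective hf (by rw [Subgroup.map_sup, hcj, eV, eQ, cj_cj]; exact c3)
    Binf := map_injective hf (by rw [Subgroup.map_inf _ _ f hf, hcj, hcj, eV, eQ, cj_cj]; exact c3')
    Csup := map_injective hf (by rw [Subgroup.map_sup, hcj, hcj, eV, eQ, cj_cj]; exact c4)
    Cinf := map_injective hf (by rw [Subgroup.map_inf _ _ f hf, hcj, eV, eQ, cj_cj]; exact c4')
    AQ' := hmap.mp (eA.le.trans (hA.trans eQ.ge))
    elemA := (PGroup.isElementaryAbelian_map_iff hf).mp (by rw [eA]; exact (hb.conj _).elem)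
    Asup := map_injective hf (by rw [Subgroup.map_sup, eA]; exact c1)
    ZsE₀ := by
      refine hmap.mp (le_trans ?_ eE.ge)
      refine le_inf (le_inf (hb.ZsV.trans hb.VQ) (hb.ZsV.trans h2)) ?_
      have h3 : c.V ≤ cj g' (cj k⁻¹ c.Q) := by
        rw [← hb.conj_V t.memG', cj_le_cj, le_cj_iff, inv_inv]
        exact h1
      have h4 : cj k c.Zs ≤ cj k (cj g' (cj k⁻¹ c.Q)) := cj_le_cj.mpr (hb.ZsV.trans h3)
      rw [hkZ, cj_cj, cj_cj] at h4
      exact h4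
    E₀le := hmap.mp (by rw [Subgroup.map_inf _ _ f hf, eE, eQ]; exact inf_le_left)
    E₀A := hcent (by rw [eE, eA]; exact inf_le_right.trans (hb.conj _).QV)
    dec := hmap.mp ?_ }⟩
  · intro hgM
    obtain ⟨y, hy⟩ := h.exists_not_mem
    -- elements of `M` fix `Z(S)`
    rcases hb.dich g t.memG with he | ⟨hsup, -, -⟩
    · exact t.mov he
    · have hle : (S : Subgroup G) ⊔ cj g₀ (S : Subgroup G) ≤ M := sup_le h.SM (by
        rintro _ ⟨s, hs, rfl⟩
        exact mul_mem (mul_mem hgM (h.SM hs)) (inv_mem hgM))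
      refine hy (hle ?_)
      have htop : (S : Subgroup G) ⊔ cj g₀ (S : Subgroup G) = ⊤ := map_injective hf (by
        rw [Subgroup.map_sup, hcj]; exact hsup)
      rw [htop]; exact mem_top y
  · have hS : (S : Subgroup G).map f ≤ normalizer (Q'.map f : Set Γ) := by
      rw [eQ, show (S : Subgroup G).map f = cj k c.S from hkS.symm]
      exact (cj_le_cj.mpr hb.SG).trans hbk.GQ
    intro s hs
    refine PGroup.mem_normalizer_of_map_conj_eq (map_injective hf ?_)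
    show (cj s Q').map f = Q'.map f
    rw [map_cj, cj_eq_self_of_mem_normalizer (hS (mem_map_of_mem f hs))]
  · intro s hs v hv
    have := hbk.quad (f s) (show f s ∈ cj k c.S from hkS.ge (mem_map_of_mem f hs)) (f v) hv
    simp only [Cfg.conj, hkZ, ← map_inv, ← map_mul] at this
    exact (Subgroup.mem_map_iff_mem hf).mp this
  · rw [Subgroup.map_sup, Subgroup.map_inf _ _ f hf, eE, eQ]
    intro d hd'
    have hVn : c.V ≤ normalizer (cj (k * g' * k⁻¹) c.Q : Set Γ) := by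
      rw [← cj_normalizer]
      exact (h2.trans heS).trans (cj_le_cj.mpr (hb.SG.trans hb.GQ))
    obtain ⟨v, hv, r, hr, rfl⟩ := (Coprime.mem_sup_iff_of_le_normalizer hVn).mp (c2.ge (heS hd'.2))
    refine mul_mem_sup hv ⟨⟨?_, ?_⟩, hr⟩
    · have := mul_mem (inv_mem (hb.VQ hv)) hd'.1
      rwa [inv_mul_cancel_left] at this
    · have := mul_mem (inv_mem (h2 hv)) hd'.2
      rwa [inv_mul_cancel_left] at this

end Cfsg.Agent.PushingUp
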