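import Cfsg.Agent.Lib.PushingUp.TwoStruct

/-!
# Distance two: the natural layer `Q / E`

* `Dat.bar_act`: the action of `G / E` on `Q / E` is a rank-one action
* `Dat.bar`: the consequences inside `G`
-/

set_option autoImplicit false
set_option linter.unusedSectionVars false

namespace Cfsg.Agent.PushingUp

open Subgroup
open FFPair (cj mem_cj cj_cj)
open scoped commutatorElement

universe u

variable {G : Type u} [Group G] [Finite G] {p : ℕ} [Fact p.Prime] {S : Sylow p G} {M : Subgroup G}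

namespace Dat

variable {V' Q' A E₀ : Subgroup G} {g : G} (h : Hyp p S M)
  (hB : Basics p S M)
  (d : Dat p S M V' Q' A E₀ g)
include h hB d

theorem S_centralizes {s x : G} (hs : s ∈ (S : Subgroup G)) (hx : x ∈ pCore p G ⊓ Q') :
    s * x * s⁻¹ * x⁻¹ ∈ E p Q' g := by
  have := E_normal h hB d
  obtain ⟨-, hZsV, -⟩ := id hB
  obtain ⟨a, ha, q, hq, rfl⟩ := (Coprime.mem_sup_iff_of_le_normalizer
    One.le_normalizer_pCore).mp (d.Asup.ge hs)
  have h1 : q * x * q⁻¹ * x⁻¹ ∈ E p Q' g := by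
    rw [← commutatorElement_def]
    exact N_le_E h hB d (QQ_le h hB d (commutator_mem_commutator hq hx.1))
  have h2 := vQ_le_E h d (hZsV (comm_AD h hB d ha hx))
  have := mul_mem ((E_normal h hB d).conj_mem _ h1 a) h2
  convert this using 1
  group

/-- The quotient action. -/
theorem bar_act [hE : (E p Q' g).Normal] :
    Act p (S.mapSurjective (QuotientGroup.mk'_surjective (E p Q' g)))
      (M.map (QuotientGroup.mk' (E p Q' g))) ((pCore p G).map (QuotientGroup.mk' (E p Q' g))) := by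
  obtain ⟨hA, hZsV, hV⟩ := id hB
  set π := QuotientGroup.mk' (E p Q' g) with hπ
  set Q := pCore p G
  have hπs : Function.Surjective π := QuotientGroup.mk'_surjective _
  have hQS : Q ≤ (S : Subgroup G) := PCore.pCore_le_sylow S
  have hEQ : E p Q' g ≤ Q := inf_le_left.trans inf_le_left
  have hEM : π.ker ≤ M := (QuotientGroup.ker_mk' _).le.trans (hEQ.trans (hQS.trans h.SM))
  have hQQ : ⁅Q, Q⁆ ≤ E p Q' g := (QQ_le h hB d).trans (N_le_E h hB d)
  have hQc : Q.map π ≤ centralizer (Q.map π : Set (G ⧸ E p Q' g)) := commutator_le_iff_map.mp hQQ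
  set C₂ := (centralizer (Q.map π : Set (G ⧸ E p Q' g))).comap π
  have : C₂.Normal := by
    have : (Q.map π).Normal := PCore.pCore_normal.map π hπs
    exact inferInstance
  have hC₂M : C₂ ≤ M := by
    by_contra hc
    have hfix : cj g (Q ⊓ Q') = Q ⊓ Q' := by
      have htop := h.sup_eq_top hc
      obtain ⟨c, hc', s, hs, hcs⟩ := Subgroup.mem_sup_of_normal_left.mp (htop.ge (mem_top g))
      rw [← hcs, ← cj_cj, cj_eq_self_of_mem_normalizer (normD h d hs)]
      refine eq_of_le_of_card_ge ?_ (card_cj c _).ge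
      rintro _ ⟨x, hx, rfl⟩
      have h1 : π (c * x * c⁻¹ * x⁻¹) = 1 := by
        rw [map_mul, map_mul, map_mul, map_inv, map_inv, ← hc' _ (mem_map_of_mem π hx.1),
          mul_inv_cancel_right, mul_inv_cancel]
      have h2 := mul_mem ((show E p Q' g ≤ Q ⊓ Q' from inf_le_left) ((QuotientGroup.eq_one_iff _).mp h1)) hx
      rwa [inv_mul_cancel_right] at h2
    have e1 : E p Q' g = Q ⊓ Q' := by
      rw [cj_inter] at hfix
      calc E p Q' g = Q ⊓ Q' ⊓ (Q ⊓ cj g Q') := by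
            show Q ⊓ Q' ⊓ cj g Q' = _
            rw [inf_inf_inf_comm, inf_idem, inf_assoc]
        _ = _ := by rw [hfix, inf_idem]
    refine d.ne' ?_
    rw [← d.Cinf]
    exact le_inf le_rfl ((le_inf d.V'Q d.V'Q').trans (e1.ge.trans inf_le_right))
  have hSC : ∀ s ∈ (S : Subgroup G), s ∈ C₂ → s ∈ Q := fun s hs hs' =>
    h.inf_le_pCore hC₂M ⟨hs, hs'⟩
  have hQC₂ : Q ≤ C₂ := fun q hq => hQc (mem_map_of_mem π hq)
  have hmemM : ∀ {x : G}, π x ∈ M.map π → x ∈ M := fun {x} hx => by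
    have : x ∈ (M.map π).comap π := hx
    rwa [comap_map_eq_self hEM] at this
  have hES : π.ker ≤ (S : Subgroup G) := (QuotientGroup.ker_mk' _).le.trans (hEQ.trans hQS)
  have hS' : ((S.mapSurjective hπs : Sylow p (G ⧸ E p Q' g)) : Subgroup (G ⧸ E p Q' g)) =
      (S : Subgroup G).map π := rfl
  have hinf : (S : Subgroup G).map π ⊓ centralizer (Q.map π : Set (G ⧸ E p Q' g)) = Q.map π := by
    refine le_antisymm ?_ (le_inf (map_mono hQS) hQc)
    rintro _ ⟨⟨s, hs, rfl⟩, hc⟩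
    exact mem_map_of_mem π (hSC s hs hc)
  refine ⟨⟨PGroup.isMulCommutative_of_forall fun a ha b hb => hQc hb a ha, ?_⟩, ?_, map_mono h.SM,
    ?_, ?_, ?_, ?_, ?_, ?_, ?_⟩
  · rintro _ ⟨q, hq, rfl⟩
    have hq' : q ∈ cj g V' ⊔ V' ⊔ E p Q' g := (Q_eq h d).le hq
    have hle : (cj g V' ⊔ V' ⊔ E p Q' g).map π ≤
        (cj g V').map π ⊔ V'.map π := by
      rw [Subgroup.map_sup, Subgroup.map_sup, (Subgroup.map_eq_bot_iff (E p Q' g)).mpr
        (QuotientGroup.ker_mk' _).ge, sup_bot_eq]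
    have hn : (cj g V').map π ≤ normalizer (V'.map π : Set (G ⧸ E p Q' g)) :=
      ((map_mono (BleQ h d)).trans hQc).trans
        ((centralizer_le (map_mono d.V'Q)).trans (centralizer_le_normalizer _))
    obtain ⟨_, ⟨b, hb, rfl⟩, _, ⟨v, hv, rfl⟩, e⟩ :=
      (Coprime.mem_sup_iff_of_le_normalizer hn).mp (hle (mem_map_of_mem π hq'))
    have hc : Commute (π b) (π v) :=
      hQc (mem_map_of_mem π (d.V'Q hv)) _ (mem_map_of_mem π (BleQ h d hb))
    rw [← e, hc.mul_pow, ← map_pow, ← map_pow, (PGroup.isElementaryAbelian_map d.elem' _).2 b hb,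
      d.elem'.2 v hv, map_one, one_mul]
  · intro e
    exact h.ne_top (top_le_iff.mp fun x _ => hmemM (e ▸ mem_top (π x)))
  · intro y hy
    obtain ⟨x, rfl⟩ := hπs y
    have hx : x ∉ M := fun hx => hy (mem_map_of_mem π hx)
    have := congrArg (Subgroup.map π) (h.gen hx)
    rw [Subgroup.map_sup, map_top_of_surjective π hπs] at this
    rw [hS', ← this]
    congr 1
    exact (map_cj π x _).symm
  · exact (map_comap_eq_self_of_surjective hπs _).ge.trans (map_mono hC₂M)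
  · rintro _ ⟨a, ha, rfl⟩ _ ⟨b, hb, rfl⟩
    rw [← map_commutatorElement]
    exact hQc (mem_map_of_mem π (h.comm a ha b hb))
  · rintro _ ⟨a, ha, rfl⟩
    rw [← map_pow]
    exact hQc (mem_map_of_mem π (h.pow a ha))
  · intro B hB hBS hN
    rw [hS', hinf] at hB ⊢
    rw [hS'] at hBS hN
    have h1 : Q ≤ B.comap π := map_le_iff_le_comap.mp hB
    have h2 : B.comap π ≤ (S : Subgroup G) :=
      (comap_mono hBS).trans (comap_map_eq_self hES).le
    have h3 : normalizer ((S : Subgroup G) : Set G) ≤ normalizer (B.comap π : Set G) := by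
      intro n hn
      have hn' := mem_normalizer_iff.mp (hN (le_normalizer_map π ⟨n, hn, rfl⟩))
      refine mem_normalizer_iff.mpr fun x => ?_
      rw [mem_comap, mem_comap, map_mul, map_mul, map_inv]
      exact hn' (π x)
    rcases h.irred _ h1 h2 h3 with e | e
    · exact Or.inl (by rw [← map_comap_eq_self_of_surjective hπs B, e])
    · exact Or.inr (by rw [← map_comap_eq_self_of_surjective hπs B, e])
  · rintro _ ⟨s, hs, rfl⟩ hall
    refine hQc (mem_map_of_mem π (h.inf_le_pCore (N := M.normalCore) (normalCore_le M) ⟨hs, fun x => ?_⟩))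
    refine hmemM ?_
    rw [map_mul, map_mul, map_inv]
    exact hall (π x)
  · refine ⟨(S : Subgroup G).map π, le_rfl, fun hc => h.not_le fun s hs =>
      hSC s hs (hc (mem_map_of_mem π hs)), ?_⟩
    rw [hinf]
    have hle : (Q ⊓ Q').map π ≤ Q.map π ⊓ centralizer ((S : Subgroup G).map π : Set (G ⧸ E p Q' g)) := by
      rintro _ ⟨x, hx, rfl⟩
      refine ⟨mem_map_of_mem π hx.1, ?_⟩
      rintro _ ⟨s, hs, rfl⟩
      have h1 : π (s * x * s⁻¹ * x⁻¹) = 1 := (QuotientGroup.eq_one_iff _).mpr (S_centralizes h hB d hs hx)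
      rwa [map_mul, map_mul, map_mul, map_inv, map_inv, mul_inv_eq_one, mul_inv_eq_iff_eq_mul] at h1
    refine le_trans ?_ (Nat.mul_le_mul_left _ (card_le_of_le hle))
    refine Nat.le_of_mul_le_mul_right ?_ (Nat.mul_pos (Nat.card_pos (α := ↥(E p Q' g)))
      (Nat.card_pos (α := ↥(E p Q' g))))
    have k1 := card_map_mk' (E p Q' g) hEQ
    have k2 := card_map_mk' (E p Q' g) (hEQ.trans hQS)
    have k3 := card_map_mk' (E p Q' g) (inf_le_left : E p Q' g ≤ Q ⊓ Q')
    calc _ = (Nat.card ↥(Q.map π) * Nat.card ↥(E p Q' g)) *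
          (Nat.card ↥(Q.map π) * Nat.card ↥(E p Q' g)) := by ring
      _ = Nat.card ↥Q * Nat.card ↥Q := by rw [k1]
      _ ≤ Nat.card (S : Subgroup G) * Nat.card ↥(Q ⊓ Q' : Subgroup G) := cardD_le h hB d
      _ = (Nat.card ↥((S : Subgroup G).map π) * Nat.card ↥(E p Q' g)) *
          (Nat.card ↥((Q ⊓ Q').map π) * Nat.card ↥(E p Q' g)) := by rw [k2, k3]
      _ = _ := by ring

/-- `|Q|² = |S| |Q ∩ Q'|`. -/
theorem cardD : Nat.card ↥(pCore p G) * Nat.card ↥(pCore p G) =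
    Nat.card (S : Subgroup G) * Nat.card ↥(pCore p G ⊓ Q' : Subgroup G) := by
  refine le_antisymm (cardD_le h hB d) ?_
  have := E_normal h hB d
  set π := QuotientGroup.mk' (E p Q' g) with hπ
  set Q := pCore p G
  set S' := S.mapSurjective (QuotientGroup.mk'_surjective (E p Q' g))
  have hπs : Function.Surjective π := QuotientGroup.mk'_surjective _
  have hQS : Q ≤ (S : Subgroup G) := PCore.pCore_le_sylow S
  have hEQ : E p Q' g ≤ Q := inf_le_left.trans inf_le_left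
  have : (Q.map π).Normal := PCore.pCore_normal.map π hπs
  have hb : Act p S' (M.map π) (Q.map π) := bar_act h hB d
  have hle : Q.map π ≤ (S' : Subgroup (G ⧸ E p Q' g)) ⊓ centralizer (Q.map π : Set (G ⧸ E p Q' g)) :=
    le_inf (map_mono hQS) (commutator_le_iff_map.mp ((QQ_le h hB d).trans (N_le_E h hB d)))
  have hfix : (Q ⊓ Q').map π ≤ Q.map π ⊓ centralizer ((S' : Subgroup (G ⧸ E p Q' g)) : Set (G ⧸ E p Q' g)) := by
    rintro _ ⟨x, hx, rfl⟩
    refine ⟨mem_map_of_mem π hx.1, ?_⟩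
    rintro _ ⟨s, hs, rfl⟩
    have h1 : π (s * x * s⁻¹ * x⁻¹) = 1 := (QuotientGroup.eq_one_iff _).mpr (S_centralizes h hB d hs hx)
    rwa [map_mul, map_mul, map_mul, map_inv, map_inv, mul_inv_eq_one, mul_inv_eq_iff_eq_mul] at h1
  have hinf : (S' : Subgroup (G ⧸ E p Q' g)) ⊓ centralizer (Q.map π : Set (G ⧸ E p Q' g)) = Q.map π := by
    refine le_antisymm ?_ hle
    rintro _ ⟨⟨s, hs, rfl⟩, hc⟩
    refine mem_map_of_mem π (h.inf_le_pCore (N := (centralizer (Q.map π : Set (G ⧸ E p Q' g))).comap π)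
      ?_ ⟨hs, hc⟩)
    exact (comap_mono hb.CM).trans (comap_map_eq_self ((QuotientGroup.ker_mk' _).le.trans
      (hEQ.trans (hQS.trans h.SM)))).le
  have e := hb.card_eq
  rw [hinf] at e
  have kQ : Nat.card ↥(Q.map π) * Nat.card ↥(E p Q' g) = Nat.card ↥Q := card_map_mk' (E p Q' g) hEQ
  have kS : Nat.card ↥((S : Subgroup G).map π) * Nat.card ↥(E p Q' g) = Nat.card (S : Subgroup G) :=
    card_map_mk' (E p Q' g) (hEQ.trans hQS)
  have kD : Nat.card ↥((Q ⊓ Q').map π) * Nat.card ↥(E p Q' g) = Nat.card ↥(Q ⊓ Q' : Subgroup G) :=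
    card_map_mk' (E p Q' g) (inf_le_left : E p Q' g ≤ Q ⊓ Q')
  calc Nat.card (S : Subgroup G) * Nat.card ↥(Q ⊓ Q' : Subgroup G)
      = (Nat.card ↥((S : Subgroup G).map π) * Nat.card ↥((Q ⊓ Q').map π)) *
          (Nat.card ↥(E p Q' g) * Nat.card ↥(E p Q' g)) := by rw [← kS, ← kD]; ring
    _ ≤ (Nat.card ↥(Q.map π) * Nat.card ↥(Q.map π)) *
          (Nat.card ↥(E p Q' g) * Nat.card ↥(E p Q' g)) := by
        rw [e]
        exact Nat.mul_le_mul_right _ (Nat.mul_le_mul_left _ (card_le_of_le hfix))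
    _ = Nat.card ↥Q * Nat.card ↥Q := by rw [← kQ]; ring

/-- `|V'| = |V|`. -/
theorem cardV'_eq : Nat.card ↥V' = Nat.card ↥(vQ p G) := by
  obtain ⟨hA, hZsV, hV⟩ := id hB
  have hfix : vQ p G ⊓ centralizer ((S : Subgroup G) : Set G) =
      (S : Subgroup G) ⊓ centralizer ((S : Subgroup G) : Set G) :=
    le_antisymm (inf_le_inf_right _ h.vQ_le_sylow) (le_inf hZsV inf_le_right)
  have e := hA.card_eq
  rw [hfix, h.inf_centralizer_vQ hV] at e
  refine Nat.eq_of_mul_eq_mul_right (Nat.mul_pos (Nat.card_pos (α := ↥(pCore p G)))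
    (Nat.card_pos (α := ↥(pCore p G ⊓ Q' : Subgroup G)))) ?_
  set s := Nat.card ↥((S : Subgroup G) ⊓ centralizer ((S : Subgroup G) : Set G))
  set q := Nat.card ↥(pCore p G)
  set d₀ := Nat.card ↥(pCore p G ⊓ Q' : Subgroup G)
  calc Nat.card ↥V' * (q * d₀) = q * (Nat.card ↥V' * d₀) := by ring
    _ = (q * q) * s := by rw [← cardQ_eq h hB d]; ring
    _ = (Nat.card (S : Subgroup G) * s) * d₀ := by rw [cardD h hB d]; ring
    _ = _ := by rw [← e]; ring

theorem cardE : Nat.card ↥(pCore p G ⊓ Q' : Subgroup G) * Nat.card ↥(pCore p G) =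
    Nat.card (S : Subgroup G) * Nat.card ↥(E p Q' g) := by
  obtain ⟨hA, hZsV, hV⟩ := id hB
  have := E_normal h hB d
  have hfix : vQ p G ⊓ centralizer ((S : Subgroup G) : Set G) =
      (S : Subgroup G) ⊓ centralizer ((S : Subgroup G) : Set G) :=
    le_antisymm (inf_le_inf_right _ h.vQ_le_sylow) (le_inf hZsV inf_le_right)
  have e := hA.card_eq
  rw [hfix, h.inf_centralizer_vQ hV] at e
  have h1 := Offender.card_sup_mul_card_inf
    (le_top.trans (normalizer_eq_top_iff.mpr (E_normal h hB d)).ge : V' ≤ normalizer (E p Q' g : Set G))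
  have es : V' ⊔ E p Q' g = pCore p G ⊓ Q' :=
    le_antisymm (sup_le (le_inf d.V'Q d.V'Q') inf_le_left) fun q hq => by
      obtain ⟨b, hb, r, hr, rfl⟩ := Ddec h d hq
      exact mul_mem_sup hb hr
  have ei : V' ⊓ E p Q' g = (S : Subgroup G) ⊓ centralizer ((S : Subgroup G) : Set G) := by
    rw [E, ← inf_assoc, inf_eq_left.mpr (le_inf d.V'Q d.V'Q'), d.Cinf]
  rw [es, ei, cardV'_eq h hB d] at h1
  refine Nat.eq_of_mul_eq_mul_right (Nat.card_pos
    (α := ↥((S : Subgroup G) ⊓ centralizer ((S : Subgroup G) : Set G)))) ?_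
  rw [mul_right_comm (Nat.card ↥(pCore p G ⊓ Q' : Subgroup G)), h1, mul_right_comm, e]
  ring

/-- `Q / E` is a natural layer with fixed points `D / E`. -/
theorem bar : (∀ s ∈ (S : Subgroup G), ∀ q ∈ pCore p G, s * q * s⁻¹ * q⁻¹ ∈ pCore p G ⊓ Q') ∧
    (∀ s ∈ (S : Subgroup G), s ∉ pCore p G → ∀ q ∈ pCore p G,
      s * q * s⁻¹ * q⁻¹ ∈ E p Q' g → q ∈ pCore p G ⊓ Q') ∧
    (∀ x ∈ M, cj x (pCore p G ⊓ Q') = pCore p G ⊓ Q') ∧
    ∃ (F : Type) (_ : Field F) (_ : Fintype F),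
      Fintype.card F * Nat.card ↥(pCore p G) = Nat.card (S : Subgroup G) ∧
      IsLayer F (E p Q' g) (pCore p G) := by
  have := E_normal h hB d
  set π := QuotientGroup.mk' (E p Q' g) with hπ
  set Q := pCore p G
  set S' := S.mapSurjective (QuotientGroup.mk'_surjective (E p Q' g))
  have hπs : Function.Surjective π := QuotientGroup.mk'_surjective _
  have hQS : Q ≤ (S : Subgroup G) := PCore.pCore_le_sylow S
  have hEQ : E p Q' g ≤ Q := inf_le_left.trans inf_le_left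
  have hQQ : ⁅Q, Q⁆ ≤ E p Q' g := (QQ_le h hB d).trans (N_le_E h hB d)
  have hS' : (S' : Subgroup (G ⧸ E p Q' g)) = (S : Subgroup G).map π := rfl
  have hED : E p Q' g ≤ Q ⊓ Q' := inf_le_left
  have : (Q.map π).Normal := PCore.pCore_normal.map π hπs
  have hb : Act p S' (M.map π) (Q.map π) := bar_act h hB d
  have hinf : (S' : Subgroup (G ⧸ E p Q' g)) ⊓ centralizer (Q.map π : Set (G ⧸ E p Q' g)) = Q.map π := by
    refine le_antisymm ?_ (le_inf (map_mono hQS) (commutator_le_iff_map.mp hQQ))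
    rintro _ ⟨⟨s, hs, rfl⟩, hc⟩
    refine mem_map_of_mem π (h.inf_le_pCore (N := (centralizer (Q.map π : Set (G ⧸ E p Q' g))).comap π)
      ?_ ⟨hs, hc⟩)
    exact (comap_mono hb.CM).trans (comap_map_eq_self ((QuotientGroup.ker_mk' _).le.trans
      (hEQ.trans (hQS.trans h.SM)))).le
  have kQ : Nat.card ↥(Q.map π) * Nat.card ↥(E p Q' g) = Nat.card ↥Q :=
    card_map_mk' (E p Q' g) hEQ
  have kS : Nat.card ↥((S : Subgroup G).map π) * Nat.card ↥(E p Q' g) = Nat.card (S : Subgroup G) :=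
    card_map_mk' (E p Q' g) (hEQ.trans hQS)
  have kD : Nat.card ↥((Q ⊓ Q').map π) * Nat.card ↥(E p Q' g) = Nat.card ↥(Q ⊓ Q' : Subgroup G) :=
    card_map_mk' (E p Q' g) hED
  have hEpos : 0 < Nat.card ↥(E p Q' g) := Nat.card_pos
  have hfix : (Q ⊓ Q').map π = Q.map π ⊓ centralizer ((S' : Subgroup (G ⧸ E p Q' g)) : Set (G ⧸ E p Q' g)) := by
    refine eq_of_le_of_card_ge ?_ ?_
    · rintro _ ⟨x, hx, rfl⟩
      refine ⟨mem_map_of_mem π hx.1, ?_⟩
      rintro _ ⟨s, hs, rfl⟩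
      have h1 : π (s * x * s⁻¹ * x⁻¹) = 1 := (QuotientGroup.eq_one_iff _).mpr (S_centralizes h hB d hs hx)
      rwa [map_mul, map_mul, map_mul, map_inv, map_inv, mul_inv_eq_one, mul_inv_eq_iff_eq_mul] at h1
    · have e := hb.card_eq
      rw [hinf, hS'] at e
      rw [hS']
      refine le_of_eq (Nat.eq_of_mul_eq_mul_left (Nat.mul_pos
        (Nat.card_pos (α := ↥((S : Subgroup G).map π))) (Nat.mul_pos hEpos hEpos)) ?_).symm
      calc _ = (Nat.card ↥((S : Subgroup G).map π) * Nat.card ↥(E p Q' g)) *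
            (Nat.card ↥((Q ⊓ Q').map π) * Nat.card ↥(E p Q' g)) := by ring
        _ = Nat.card ↥Q * Nat.card ↥Q := by rw [kS, kD, cardD h hB d]
        _ = (Nat.card ↥(Q.map π) * Nat.card ↥(Q.map π)) *
            (Nat.card ↥(E p Q' g) * Nat.card ↥(E p Q' g)) := by rw [← kQ]; ring
        _ = _ := by rw [e]; ring
  have hmemD : ∀ {x : G}, π x ∈ (Q ⊓ Q').map π → x ∈ Q ⊓ Q' := fun {x} hx => by
    have : x ∈ ((Q ⊓ Q').map π).comap π := hx
    rwa [comap_map_eq_self (show π.ker ≤ Q ⊓ Q' from (QuotientGroup.ker_mk' _).le.trans hED)] at this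
  have hmap : ∀ s q : G, π (s * q * s⁻¹ * q⁻¹) = π s * π q * (π s)⁻¹ * (π q)⁻¹ := fun s q => by simp
  refine ⟨fun s hs q hq => hmemD ?_, fun s hs hsQ q hq hc => hmemD ?_, fun x hx => ?_, ?_⟩
  · rw [hfix, hmap]
    exact hb.quad (mem_map_of_mem π hs) (mem_map_of_mem π hq)
  · rw [hfix]
    refine hb.sharp (a := π s) (mem_map_of_mem π hs) (fun hc' => hsQ ?_) (mem_map_of_mem π hq) ?_
    · obtain ⟨q', hq', e⟩ := (hinf.le ⟨mem_map_of_mem π hs, hc'⟩ : π s ∈ Q.map π)
      obtain ⟨z, hz, rfl⟩ := (QuotientGroup.mk'_eq_mk' _).mp e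
      exact mul_mem hq' (hEQ hz)
    · rw [← hmap, show π (s * q * s⁻¹ * q⁻¹) = 1 from (QuotientGroup.eq_one_iff _).mpr hc]
      exact one_mem _
  · refine eq_of_le_of_card_ge ?_ (card_cj x _).ge
    rintro _ ⟨y, hy, rfl⟩
    refine hmemD ?_
    rw [hfix, ← hb.fixed_of_mem (mem_map_of_mem π hx), ← hfix, ← map_cj]
    exact mem_map_of_mem π (mem_cj_conj hy)
  · obtain ⟨F, hF, hFt, hcard, hlay, -⟩ := hb.layer
    have hZ : Q.map π ⊓ Subgroup.center (G ⧸ E p Q' g) = ⊥ := by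
      refine Subgroup.eq_bot_of_card_eq _ (Nat.eq_of_mul_eq_mul_left (Nat.mul_pos
        (Nat.card_pos (α := ↥((S : Subgroup G).map π))) (Nat.mul_pos hEpos hEpos)) ?_)
      have e := hb.card_fixed_eq
      rw [hinf, ← hfix, hS'] at e
      calc _ = (Nat.card ↥((Q ⊓ Q').map π) * Nat.card ↥(Q.map π)) *
            (Nat.card ↥(E p Q' g) * Nat.card ↥(E p Q' g)) := by rw [e]; ring
        _ = Nat.card ↥(Q ⊓ Q' : Subgroup G) * Nat.card ↥Q := by rw [← kQ, ← kD]; ring
        _ = _ := by rw [cardE h hB d, ← kS]; ring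
    obtain ⟨ρ, ψ, hρ, hψ, hker, hact⟩ := hlay
    refine ⟨F, hF, hFt, ?_, ρ.comp π, ψ.comp (π.subgroupMap Q), hρ.comp hπs,
      hψ.comp (π.subgroupMap_surjective Q), fun u => ?_, fun x u => ?_⟩
    · rw [hinf, hS'] at hcard
      rw [← kQ, ← kS, ← hcard]; ring
    · rw [MonoidHom.comp_apply, hker, hZ, mem_bot]
      exact QuotientGroup.eq_one_iff (u : G)
    · obtain ⟨w, hw, hwe⟩ := hact (π x) (π.subgroupMap Q u)
      refine ⟨⟨x * u * x⁻¹, PCore.pCore_normal.conj_mem _ u.2 x⟩, rfl, ?_⟩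
      rw [MonoidHom.comp_apply, MonoidHom.comp_apply, MonoidHom.comp_apply, ← hwe]
      congr 2
      refine Subtype.ext ?_
      rw [hw]
      show π (x * u * x⁻¹) = π x * π u * (π x)⁻¹
      rw [map_mul, map_mul, map_inv]

end Dat

end Cfsg.Agent.PushingUp
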