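import Cfsg.Agent.Lib.PushingUp.TwoSharp
import Cfsg.Agent.Lib.PushingUp.Tau

/-!
# Distance two: `C_G(V) ≤ O_p(G)` and `p ≠ 2`

* `Dat.nondeg`, `Dat.cover_D`, `Dat.cent`, `Dat.p_ne_two`
-/

set_option autoImplicit false
set_option linter.unusedSectionVars false
set_option linter.unusedVariables false

namespace Cfsg.Agent.PushingUp

open Subgroup
open FFPair (cj mem_cj cj_cj)
open scoped commutatorElement

universe u

variable {G : Type u} [Group G] [Finite G] {p : ℕ} [Fact p.Prime] {S : Sylow p G} {M : Subgroup G}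

namespace Dat

variable {V' Q' A E₀ : Subgroup G} {g : G} (h : Hyp p S M)
  (hB : Basics p S M)
  (d : Dat p S M V' Q' A E₀ g)
  (hsh : ∀ u ∈ pCore p G, u ∉ Q' → ∀ a ∈ A, u * a * u⁻¹ * a⁻¹ ∈ E₀ → a ∈ pCore p G)
include h hB d hsh

theorem nondeg {a u : G} (ha : a ∈ A) (haQ : a ∉ pCore p G) (hu : u ∈ pCore p G) (huQ : u ∉ Q') :
    ⁅a, ⁅a, u⁆⁆ ∈ vQ p G ∧ ⁅a, ⁅a, u⁆⁆ ∉ N p Q' g := by
  obtain ⟨hA, hZsV, hV⟩ := id hB
  have haS : a ∈ (S : Subgroup G) := d.AQ'.trans d.Q'S ha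
  have hD : a * u * a⁻¹ * u⁻¹ ∈ pCore p G ⊓ Q' := (bar h hB d).1 a haS u hu
  have hz := comm_AD h hB d ha hD
  rw [commutatorElement_def a u, commutatorElement_def]
  refine ⟨hZsV hz, fun hN => ?_⟩
  have hzZ := N_inf h hB d ⟨hN, hZsV hz⟩
  obtain ⟨v, hv, e, he, eq⟩ := (Coprime.mem_sup_iff_of_le_normalizer' (H := E₀) (N := vQ p G)
    (le_top.trans (normalizer_eq_top_iff.mpr vQ_normal).ge)).mp (sup_comm (vQ p G) E₀ ▸ d.dec hD)
  rw [← eq, show a * (v * e) * a⁻¹ * (v * e)⁻¹ = a * v * (e * a⁻¹) * (e⁻¹ * v⁻¹) by group,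
    ← d.E₀A he a⁻¹ (inv_mem ha), show a * v * (a⁻¹ * e) * (e⁻¹ * v⁻¹) = a * v * a⁻¹ * v⁻¹ by group] at hzZ
  have hvF := hA.sharp haS (fun haC => haQ ((h.inf_centralizer_vQ hV).le ⟨haS, haC⟩)) hv hzZ
  have hvE : v ∈ E₀ := d.ZsE₀ ⟨h.vQ_le_sylow hv, hvF.2⟩
  refine haQ (hsh u hu huQ a ha ?_)
  have := inv_mem (mul_mem hvE he)
  rw [eq] at this
  convert this using 1
  group

theorem exists_a : ∃ a ∈ A, a ∉ pCore p G := by
  by_contra hc
  push Not at hc
  exact h.not_le (d.Asup.ge.trans (sup_le hc le_rfl))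

theorem exists_u : ∃ u ∈ pCore p G, u ∉ Q' := by
  by_contra hc
  push Not at hc
  have hD : pCore p G ⊓ Q' = pCore p G := inf_eq_left.mpr hc
  have e := cardD h hB d
  rw [hD] at e
  exact h.not_le (eq_of_le_of_card_ge (PCore.pCore_le_sylow S)
    (Nat.eq_of_mul_eq_mul_right Nat.card_pos e).ge).ge

/-- `⁅a, Q⁆` covers `D / E`. -/
theorem cover_D {a : G} (ha : a ∈ A) (haQ : a ∉ pCore p G) {x : G} (hx : x ∈ pCore p G ⊓ Q') :
    ∃ u ∈ pCore p G, ⁅a, u⁆⁻¹ * x ∈ E p Q' g := by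
  have := E_normal h hB d
  obtain ⟨hquad, hsharp, -, -⟩ := bar h hB d
  set π := QuotientGroup.mk' (E p Q' g)
  set Q := pCore p G
  have haS : a ∈ (S : Subgroup G) := d.AQ'.trans d.Q'S ha
  have hQc : Q.map π ≤ centralizer (Q.map π : Set (G ⧸ E p Q' g)) :=
    commutator_le_iff_map.mp ((QQ_le h hB d).trans (N_le_E h hB d))
  have hW : ∀ x ∈ Q.map π, ∀ y ∈ Q.map π, x * y = y * x := fun x hx y hy => hQc hy x hx
  have ha' : π a ∈ normalizer (Q.map π : Set (G ⧸ E p Q' g)) := le_normalizer_map π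
    ⟨a, (normalizer_eq_top_iff.mpr PCore.pCore_normal).ge (mem_top a), rfl⟩
  let φ : ↥Q →* G ⧸ E p Q' g := MonoidHom.mk' (fun u => ⁅π a, π u⁆) fun u v => by
    rw [Subgroup.coe_mul, map_mul, tau_mul hW ha' (mem_map_of_mem π u.2) (mem_map_of_mem π v.2)]
  have hle : φ.range ≤ (Q ⊓ Q').map π := by
    rintro _ ⟨u, rfl⟩
    refine ⟨⁅a, (u : G)⁆, ?_, map_commutatorElement π _ _⟩
    rw [commutatorElement_def]
    exact hquad a haS u u.2
  have hker : φ.ker = (Q ⊓ Q').subgroupOf Q := by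
    ext ⟨u, hu⟩
    rw [MonoidHom.mem_ker, mem_subgroupOf]
    show ⁅π a, π u⁆ = 1 ↔ u ∈ Q ⊓ Q'
    rw [← map_commutatorElement, ← MonoidHom.mem_ker, QuotientGroup.ker_mk', commutatorElement_def]
    exact ⟨fun hc => hsharp a haS haQ u hu hc, fun hc => S_centralizes h hB d haS hc⟩
  have h1 := φ.ker.card_mul_index
  rw [index_ker, hker, Nat.card_congr (subgroupOfEquivOfLe (inf_le_left : Q ⊓ Q' ≤ Q)).toEquiv] at h1
  have kD : Nat.card ↥((Q ⊓ Q').map π) * Nat.card ↥(E p Q' g) = Nat.card ↥(Q ⊓ Q' : Subgroup G) :=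
    card_map_mk' (E p Q' g) inf_le_left
  have heq : φ.range = (Q ⊓ Q').map π := by
    refine eq_of_le_of_card_ge hle (le_of_eq (Nat.eq_of_mul_eq_mul_left (Nat.mul_pos
      (Nat.card_pos (α := ↥(E p Q' g))) (Nat.mul_pos (Nat.card_pos (α := ↥(Q ⊓ Q' : Subgroup G)))
        (Nat.card_pos (α := (S : Subgroup G))))) ?_))
    calc _ = Nat.card ↥(Q ⊓ Q' : Subgroup G) * (Nat.card (S : Subgroup G) *
          (Nat.card ↥((Q ⊓ Q').map π) * Nat.card ↥(E p Q' g))) := by ring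
      _ = Nat.card ↥(Q ⊓ Q' : Subgroup G) * (Nat.card ↥Q * Nat.card ↥Q) := by
        rw [kD, ← cardD h hB d]
      _ = (Nat.card ↥(Q ⊓ Q' : Subgroup G) * Nat.card ↥Q) * Nat.card ↥Q := by ring
      _ = (Nat.card (S : Subgroup G) * Nat.card ↥(E p Q' g)) *
          (Nat.card ↥(Q ⊓ Q' : Subgroup G) * Nat.card ↥φ.range) := by rw [cardE h hB d, h1]
      _ = _ := by ring
  obtain ⟨⟨u, hu⟩, hue⟩ := heq.ge (mem_map_of_mem π hx)
  refine ⟨u, hu, (QuotientGroup.eq_one_iff _).mp ?_⟩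
  show π (⁅a, u⁆⁻¹ * x) = 1
  rw [map_mul, map_inv, map_commutatorElement]
  exact inv_mul_eq_one.mpr hue

/-- `C_G(V) ≤ O_p(G)`. -/
theorem cent : centralizer (vQ p G : Set G) ≤ pCore p G := by
  obtain ⟨hA, hZsV, hV⟩ := id hB
  obtain ⟨hquad, hsharp, hfixM, -⟩ := bar h hB d
  have := E_normal h hB d
  have := N_normal h hB d
  set Q := pCore p G
  set C := centralizer (vQ p G : Set G)
  set Eg := E p Q' g
  have hQS : Q ≤ (S : Subgroup G) := PCore.pCore_le_sylow S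
  have hDM : ∀ {x : G}, x ∈ M → ∀ {y : G}, y ∈ Q ⊓ Q' → x * y * x⁻¹ ∈ Q ⊓ Q' :=
    fun hx _ hy => (hfixM _ hx).le (mem_cj_conj hy)
  have hpsub : ∀ P : Subgroup G, IsPGroup p ↥P → P ≤ C → P ≤ Q := by
    intro P hP hPC
    obtain ⟨P', hP'⟩ := hP.exists_le_sylow
    obtain ⟨x, rfl⟩ := MulAction.exists_smul_eq G S P'
    intro y hy
    obtain ⟨s, hs, rfl⟩ : y ∈ cj x (S : Subgroup G) := hP' hy
    have hsC : s ∈ C := by
      have := (normal_centralizer (H := vQ p G)).conj_mem _ (hPC hy) x⁻¹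
      simpa [mul_assoc] using this
    exact PCore.pCore_normal.conj_mem s (h.inf_le_pCore hV ⟨hs, hsC⟩) x
  let T : Subgroup G :=
    { carrier := {x | x ∈ M ∧ (∀ y ∈ Q ⊓ Q', x * y * x⁻¹ * y⁻¹ ∈ Eg) ∧
        ∀ q ∈ Q, x * q * x⁻¹ * q⁻¹ ∈ Q ⊓ Q'}
      one_mem' := ⟨one_mem _, fun y _ => by simp, fun q _ => by simp⟩
      mul_mem' := by
        rintro x y ⟨hxM, hx1, hx2⟩ ⟨hyM, hy1, hy2⟩
        refine ⟨mul_mem hxM hyM, fun z hz => ?_, fun q hq => ?_⟩
        · have := mul_mem ((E_normal h hB d).conj_mem _ (hy1 z hz) x) (hx1 z hz)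
          convert this using 1
          group
        · have := mul_mem (hDM hxM (hy2 q hq)) (hx2 q hq)
          convert this using 1
          group
      inv_mem' := by
        rintro x ⟨hxM, hx1, hx2⟩
        refine ⟨inv_mem hxM, fun z hz => ?_, fun q hq => ?_⟩
        · have := (E_normal h hB d).conj_mem _ (inv_mem (hx1 z hz)) x⁻¹
          convert this using 1
          group
        · have := hDM (inv_mem hxM) (inv_mem (hx2 q hq))
          convert this using 1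
          group }
  have hST : (S : Subgroup G) ≤ T := fun s hs =>
    ⟨h.SM hs, fun y hy => S_centralizes h hB d hs hy, fun q hq => hquad s hs q hq⟩
  have hLQ : T ⊓ C ≤ Q := by
    refine hpsub _ (isPGroup_of_coprime fun y hy hyp => ?_) inf_le_right
    obtain ⟨⟨hyM, hy1, hy2⟩, hyC⟩ := hy
    have hbar := bar_act h hB d
    set π := QuotientGroup.mk' Eg
    have h1 : ∀ q ∈ Q, y * q * y⁻¹ * q⁻¹ ∈ Eg := by
      intro q hq
      set z := y * q * y⁻¹ * q⁻¹
      have hz := hy2 q hq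
      have hc : π y * π q = π q * π y := by
        refine commute_of_translate' (p := p) (k := 1) (z := π z)
          (hyp.coprime_dvd_left (orderOf_map_dvd π y)) ?_ ?_ ?_
        · rw [pow_one]; exact hbar.elem.2 _ (mem_map_of_mem π hz.1)
        · simp only [z, map_mul, map_inv]; group
        · have e1 : π (y * z * y⁻¹ * z⁻¹) = 1 := (QuotientGroup.eq_one_iff _).mpr (hy1 z hz)
          rwa [map_mul, map_mul, map_mul, map_inv, map_inv, mul_inv_eq_one, mul_inv_eq_iff_eq_mul] at e1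
      refine (QuotientGroup.eq_one_iff _).mp ?_
      show π (y * q * y⁻¹ * q⁻¹) = 1
      rw [map_mul, map_mul, map_mul, map_inv, map_inv, hc, mul_inv_cancel_right, mul_inv_cancel]
    set π' := QuotientGroup.mk' (vQ p G)
    have : (Eg.map π').Normal := (E_normal h hB d).map π' (QuotientGroup.mk'_surjective _)
    set K := (centralizer (Eg.map π' : Set (G ⧸ vQ p G))).comap π'
    have hEA : ⁅Eg, A⁆ ≤ vQ p G := by
      rw [commutator_comm, commutator_le]
      intro a ha e he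
      rw [commutatorElement_def]
      exact hZsV (comm_AD h hB d ha he.1)
    have hK : A ⊔ cj g A ≤ K := by
      rw [← map_le_iff_le_comap, ← commutator_le_iff_map, commutator_comm]
      refine commutator_sup_le hEA ?_
      have h2 := map_mono (f := (MulAut.conj g).toMonoidHom) hEA
      rw [Subgroup.map_commutator] at h2
      refine le_trans (le_of_eq ?_) (h2.trans (cj_vQ g).le)
      congr 1
      exact (cj_eq_self_of_mem_normalizer
        ((normalizer_eq_top_iff.mpr (E_normal h hB d)).ge (mem_top g) : g ∈ normalizer (Eg : Set G))).symm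
    have hyK : y ∈ K := mem_of_coprime PCore.isPGroup_pCore
      (top_le_iff.mp ((gen h d).ge.trans (sup_le_sup_right hK _))) hyp
    have h2 : ∀ e ∈ Eg, y * e = e * y := by
      intro e he
      have hz : y * e * y⁻¹ * e⁻¹ ∈ vQ p G := by
        refine (QuotientGroup.eq_one_iff _).mp ?_
        show π' (y * e * y⁻¹ * e⁻¹) = 1
        rw [map_mul, map_mul, map_mul, map_inv, map_inv, ← hyK _ (mem_map_of_mem π' he),
          mul_inv_cancel_right, mul_inv_cancel]
      exact commute_of_translate' (z := y * e * y⁻¹ * e⁻¹) hyp (k := 1)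
        (by rw [pow_one]; exact hA.elem.2 _ hz) (by group) (hyC _ hz).symm
    have hyQ : y ∈ centralizer (Q : Set G) := by
      intro q hq
      obtain ⟨k, hk⟩ := (PCore.isPGroup_pCore (p := p) (G := G)) ⟨_, ((inf_le_left.trans inf_le_left :
        Eg ≤ Q) (h1 q hq))⟩
      exact (commute_of_translate' (z := y * q * y⁻¹ * q⁻¹) hyp (k := k) (congrArg Subtype.val hk)
        (by group) (h2 _ (h1 q hq))).symm
    obtain ⟨k, hk⟩ := IsPGroup.iff_orderOf.mp PCore.isPGroup_pCore ⟨y, h.cent hyQ⟩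
    rw [Subgroup.orderOf_mk] at hk
    refine orderOf_eq_one_iff.mp ?_
    rw [hk] at hyp ⊢
    exact (Nat.coprime_self _).mp (hyp.pow_right k)
  have hCS : ∀ c ∈ C, ∀ s ∈ (S : Subgroup G), c * s * c⁻¹ * s⁻¹ ∈ Q := by
    intro c hc s hs
    refine hLQ ⟨T.mul_mem ?_ (T.inv_mem (hST hs)), ?_⟩
    · refine ⟨mul_mem (mul_mem (hV hc) (h.SM hs)) (inv_mem (hV hc)), fun y hy => ?_, fun q hq => ?_⟩
      · have hy' : c⁻¹ * y * c ∈ Q ⊓ Q' := by simpa using hDM (inv_mem (hV hc)) hy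
        have := (E_normal h hB d).conj_mem _ (S_centralizes h hB d hs hy') c
        convert this using 1
        group
      · have hq' : c⁻¹ * q * c ∈ Q := by simpa using PCore.pCore_normal.conj_mem q hq c⁻¹
        have := hDM (hV hc) (hquad s hs _ hq')
        convert this using 1
        group
    · have hn := normal_centralizer (H := vQ p G)
      have := C.mul_mem hc (hn.conj_mem c⁻¹ (inv_mem hc) s)
      rw [show c * (s * c⁻¹ * s⁻¹) = c * s * c⁻¹ * s⁻¹ by group] at this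
      exact this
  refine PCore.le_pCore (isPGroup_of_coprime fun c hc hcp => ?_)
  obtain ⟨a, ha, haQ⟩ := exists_a h hB d hsh
  have haS : a ∈ (S : Subgroup G) := d.AQ'.trans d.Q'S ha
  set π := QuotientGroup.mk' (N p Q' g)
  have hQc : Q.map π ≤ centralizer (Q.map π : Set (G ⧸ N p Q' g)) :=
    commutator_le_iff_map.mp (QQ_le h hB d)
  have hW : ∀ x ∈ Q.map π, ∀ y ∈ Q.map π, x * y = y * x := fun x hx y hy => hQc hy x hx
  have hπa : π a ∈ normalizer (Q.map π : Set (G ⧸ N p Q' g)) := le_normalizer_map π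
    ⟨a, (normalizer_eq_top_iff.mpr PCore.pCore_normal).ge (mem_top a), rfl⟩
  have hq0 := hCS c hc a haS
  set q₀ := c * a * c⁻¹ * a⁻¹
  have hwQ : ∀ u ∈ Q, c * u * c⁻¹ * u⁻¹ ∈ Q ⊓ Q' := by
    intro u hu
    set w := c * u * c⁻¹ * u⁻¹
    have hwQ : w ∈ Q := mul_mem (PCore.pCore_normal.conj_mem u hu c) (inv_mem hu)
    by_contra hw
    have hwQ' : w ∉ Q' := fun hc' => hw ⟨hwQ, hc'⟩
    refine (nondeg h hB d hsh ha haQ hwQ hwQ').2 ((QuotientGroup.eq_one_iff _).mp ?_)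
    show π ⁅a, ⁅a, w⁆⁆ = 1
    rw [map_commutatorElement, map_commutatorElement]
    have hz : ⁅a, ⁅a, u⁆⁆ ∈ vQ p G := by
      rw [commutatorElement_def a u, commutatorElement_def]
      exact hZsV (comm_AD h hB d ha (hquad a haS u hu))
    have hfix : π (c * ⁅a, ⁅a, u⁆⁆ * c⁻¹) = π ⁅a, ⁅a, u⁆⁆ := by
      rw [← hc _ hz, mul_inv_cancel_right]
    have e : c * ⁅a, ⁅a, u⁆⁆ * c⁻¹ = ⁅q₀ * a, ⁅q₀ * a, w * u⁆⁆ := by
      simp only [q₀, w, commutatorElement_def]; group
    clear_value w q₀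
    rw [e, map_commutatorElement, map_commutatorElement, map_mul, map_mul, map_commutatorElement,
      map_commutatorElement] at hfix
    have hu' := mem_map_of_mem π hu
    have hw' := mem_map_of_mem π hwQ
    rw [tau_left hW hπa (mem_map_of_mem π hq0) (mul_mem hw' hu'), tau_left hW hπa (mem_map_of_mem π hq0)
      (tau_mem hW hπa (mul_mem hw' hu')), tau_mul hW hπa hw' hu',
      tau_mul hW hπa (tau_mem hW hπa hw') (tau_mem hW hπa hu')] at hfix
    exact mul_right_cancel (hfix.trans (one_mul _).symm)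
  have hcT : c ∈ T := by
    refine ⟨hV hc, fun x hx => ?_, hwQ⟩
    obtain ⟨u, hu, hux⟩ := cover_D h hB d hsh ha haQ hx
    set π₂ := QuotientGroup.mk' Eg
    have hW₂ : ∀ x ∈ Q.map π₂, ∀ y ∈ Q.map π₂, x * y = y * x := fun x hx y hy =>
      commutator_le_iff_map.mp ((QQ_le h hB d).trans (N_le_E h hB d)) hy x hx
    have hπa₂ : π₂ a ∈ normalizer (Q.map π₂ : Set (G ⧸ Eg)) := le_normalizer_map π₂
      ⟨a, (normalizer_eq_top_iff.mpr PCore.pCore_normal).ge (mem_top a), rfl⟩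
    have ex : π₂ x = ⁅π₂ a, π₂ u⁆ := by
      rw [← map_commutatorElement]
      exact (QuotientGroup.eq.mpr hux).symm
    set w := c * u * c⁻¹ * u⁻¹
    have hw : w ∈ Q ⊓ Q' := hwQ u hu
    have h1 : ⁅π₂ a, π₂ w⁆ = 1 := by
      rw [← map_commutatorElement, commutatorElement_def]
      exact (QuotientGroup.eq_one_iff _).mpr (vQ_le_E h d (hZsV (comm_AD h hB d ha hw)))
    refine (QuotientGroup.eq_one_iff _).mp ?_
    show π₂ (c * x * c⁻¹ * x⁻¹) = 1
    rw [map_mul, map_inv, mul_inv_eq_one]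
    have e2 : π₂ (c * x * c⁻¹) = π₂ (c * ⁅a, u⁆ * c⁻¹) := by
      simp only [map_mul, map_inv, ex, map_commutatorElement]
    have e3 : c * ⁅a, u⁆ * c⁻¹ = ⁅q₀ * a, w * u⁆ := by
      simp only [q₀, w, commutatorElement_def]; group
    clear_value w q₀
    rw [e2, ex, e3, map_commutatorElement, map_mul, map_mul,
      tau_left hW₂ hπa₂ (mem_map_of_mem π₂ hq0) (mul_mem (mem_map_of_mem π₂ hw.1) (mem_map_of_mem π₂ hu)),
      tau_mul hW₂ hπa₂ (mem_map_of_mem π₂ hw.1) (mem_map_of_mem π₂ hu), h1, one_mul]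
  obtain ⟨k, hk⟩ := IsPGroup.iff_orderOf.mp PCore.isPGroup_pCore ⟨c, hLQ ⟨hcT, hc⟩⟩
  rw [Subgroup.orderOf_mk] at hk
  refine orderOf_eq_one_iff.mp ?_
  rw [hk] at hcp ⊢
  exact (Nat.coprime_self _).mp (hcp.pow_right k)

theorem p_ne_two : p ≠ 2 := by
  rintro rfl
  obtain ⟨hA, hZsV, hV⟩ := id hB
  obtain ⟨a, ha, haQ⟩ := exists_a h hB d hsh
  obtain ⟨u, hu, huQ⟩ := exists_u h hB d hsh
  obtain ⟨hzV, hzN⟩ := nondeg h hB d hsh ha haQ hu huQ
  have := N_normal h hB d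
  have haS : a ∈ (S : Subgroup G) := d.AQ'.trans d.Q'S ha
  have hD : a * u * a⁻¹ * u⁻¹ ∈ pCore 2 G ⊓ Q' := (bar h hB d).1 a haS u hu
  set x := ⁅a, u⁆ with hxdef
  have hxD : x ∈ pCore 2 G ⊓ Q' := by rw [hxdef, commutatorElement_def]; exact hD
  have ha2 : a⁻¹ = a := inv_eq_of_mul_eq_one_right (by rw [← sq]; exact d.elemA.2 a ha)
  have h1 : a * x * a⁻¹ = x⁻¹ := by
    simp only [x, commutatorElement_def, ha2]
    rw [show (a * u * a * u⁻¹)⁻¹ = u * a⁻¹ * u⁻¹ * a⁻¹ by group, ha2,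
      show a * (a * u * a * u⁻¹) * a = (a * a) * (u * a * u⁻¹ * a) by group,
      show a * a = 1 by rw [← sq]; exact d.elemA.2 a ha, one_mul]
  have hz : ⁅a, x⁆ = (x * x)⁻¹ := by rw [commutatorElement_def a x, h1]; group
  obtain ⟨v, hv, e, he, eq⟩ := Ddec h d hxD
  have hve : v * e = e * v := d.Q'V' he.1.2 v hv
  have hv2 : v * v = 1 := by rw [← sq]; exact d.elem'.2 v hv
  have hxe : x * x = e * e := by
    rw [← eq, show v * e * (v * e) = v * (e * v) * e by group, ← hve, ← mul_assoc, hv2, one_mul]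
  have hzS := comm_AD h hB d ha hxD
  rw [← commutatorElement_def, hz, hxe] at hzS
  have heS : e * e ∈ (S : Subgroup G) ⊓ centralizer ((S : Subgroup G) : Set G) := by
    simpa using inv_mem hzS
  have hle : A ⊔ cj g A ⊔ pCore 2 G ≤ centralizer ({e * e} : Set G) := by
    refine sup_le (sup_le ?_ ?_) ?_ <;> intro y hy <;> rw [mem_centralizer_iff] <;> intro _ hw <;>
      rw [Set.mem_singleton_iff.mp hw]
    · exact (heS.2 y (d.AQ'.trans d.Q'S hy)).symm
    · obtain ⟨b, hb, rfl⟩ := hy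
      set e' := g⁻¹ * e * g
      have he' : e' ∈ pCore 2 G ⊓ Q' :=
        ⟨by simpa [e'] using PCore.pCore_normal.conj_mem e he.1.1 g⁻¹, mem_cj.mp he.2⟩
      have hz' := comm_AD h hB d hb he'
      set z := b * e' * b⁻¹ * e'⁻¹
      have h2 : b * (e' * e') * b⁻¹ = e' * e' := by
        calc b * (e' * e') * b⁻¹ = z * (e' * z) * e' := by simp only [z]; group
          _ = z * (z * e') * e' := by rw [hz'.2 e' (PCore.pCore_le_sylow S he'.1)]
          _ = (z * z) * (e' * e') := by group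
          _ = e' * e' := by rw [← sq z, hA.elem.2 z (hZsV hz'), one_mul]
      have h3 := ((show Commute b (e' * e') from mul_inv_eq_iff_eq_mul.mp h2).map
        (MulAut.conj g).toMonoidHom).eq
      simp only [MulEquiv.coe_toMonoidHom, MulAut.conj_apply, e'] at h3 ⊢
      rw [show g * (g⁻¹ * e * g * (g⁻¹ * e * g)) * g⁻¹ = e * e by group] at h3
      exact h3.symm
    · exact (heS.2 y (PCore.pCore_le_sylow S hy)).symm
  have hcen : e * e ∈ vQ 2 G ⊓ Subgroup.center G := ⟨hZsV heS, Subgroup.mem_center_iff.mpr fun y =>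
    ((hle ((gen h d).ge (mem_top y))) _ rfl).symm⟩
  refine hzN (mem_sup_left ?_)
  rw [hz, hxe]
  exact inv_mem hcen

end Dat

end Cfsg.Agent.PushingUp
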