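import Cfsg.Agent.Lib.PushingUp.TwoBar

/-!
# Distance two: transporting sharpness to the neighbouring vertex

* `exists_dat`: a critical path with `m = 1` gives data together with the sharpness of `A` on `Q'`
-/

set_option autoImplicit false

namespace Cfsg.Agent.PushingUp

open Subgroup
open FFPair (cj mem_cj cj_cj)
open scoped commutatorElement

universe u v

variable {G : Type v} [Group G] [Finite G] {Γ : Type u} [Group Γ] [Finite Γ] {p : ℕ} [Fact p.Prime]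
  {S : Sylow p G} {M : Subgroup G}

/-- Data at distance two, with sharpness at the neighbouring vertex. -/
theorem exists_dat (h : Hyp p S M)
    (hB : Basics p S M)
    (f : G →* Γ) (hf : Function.Injective f) (hb : Base p (cfg p S f))
    (hnc : NoCommon (cfg p S f)) (hg : Good (cfg p S f) 1)
    {e : ℕ → Γ} (hc : Crit (cfg p S f) 1 e) :
    ∃ (V' Q' A E₀ : Subgroup G) (g : G), Dat p S M V' Q' A E₀ g ∧
      ∀ u ∈ pCore p G, u ∉ Q' → ∀ a ∈ A, u * a * u⁻¹ * a⁻¹ ∈ E₀ → a ∈ pCore p G := by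
  obtain ⟨k, g, g', t⟩ := exists_two hb hnc hg hc
  obtain ⟨V', Q', A, E₀, g₀, -, -, eQ, eE, d⟩ := dat_of_two h f hf hb hg t
  obtain ⟨V'', Q'', A'', E₀'', g₁, hg₁, -, eQ', -, d'⟩ := dat_of_two h f hf hb hg t.symm
  obtain ⟨-, hsharp, -, -⟩ := Dat.bar h hB d'
  refine ⟨V', Q', A, E₀, g₀, d, fun u hu huQ a ha hcomm => ?_⟩
  set c := cfg p S f
  have hmem : ∀ {X : Subgroup G} {x : G}, f x ∈ X.map f ↔ x ∈ X := fun {_ _} =>
    Subgroup.mem_map_iff_mem hf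
  have hkS : cj k⁻¹ c.S = c.S := Base.conj_S (inv_mem t.memN)
  obtain ⟨s, hs, es⟩ : k⁻¹ * f u * k⁻¹⁻¹ ∈ c.S := hkS.le (mem_cj_conj
    (mem_map_of_mem f (PCore.pCore_le_sylow S hu)))
  have haQ : f a ∈ cj k c.Q := eQ.le (mem_map_of_mem f (d.AQ' ha))
  obtain ⟨q, hq, eq⟩ : k⁻¹ * f a * k ∈ c.Q := mem_cj.mp haQ
  rw [inv_inv] at es
  have hsQ : s ∉ pCore p G := fun hsQ => huQ (hmem.mp (eQ.ge (mem_cj.mpr (es ▸ mem_map_of_mem f hsQ))))
  have hE : s * q * s⁻¹ * q⁻¹ ∈ Dat.E p Q'' g₁ := by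
    refine hmem.mp ?_
    have hel : f (s * q * s⁻¹ * q⁻¹) = k⁻¹ * (f u * f a * (f u)⁻¹ * (f a)⁻¹) * k := by
      rw [map_mul, map_mul, map_mul, map_inv, map_inv, es, eq]; group
    have h0 : f u * f a * (f u)⁻¹ * (f a)⁻¹ ∈ c.Q ⊓ cj k c.Q ⊓ cj (k * g' * k⁻¹) c.Q := by
      rw [← eE, ← map_inv, ← map_inv, ← map_mul, ← map_mul, ← map_mul]
      exact mem_map_of_mem f hcomm
    obtain ⟨⟨h1, h2⟩, h3⟩ := h0
    have h1' : k⁻¹ * (f u * f a * (f u)⁻¹ * (f a)⁻¹) * k ∈ cj k⁻¹ c.Q := by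
      have := mem_cj_conj (e := k⁻¹) h1
      rwa [inv_inv] at this
    have h3' : k⁻¹ * (f u * f a * (f u)⁻¹ * (f a)⁻¹) * k ∈ cj g' (cj k⁻¹ c.Q) := by
      rw [cj_cj]
      refine mem_cj.mpr ?_
      have := mem_cj.mp h3
      convert this using 1
      group
    have hE' : Dat.E p Q'' g₁ = pCore p G ⊓ Q'' ⊓ cj g₁ Q'' := rfl
    rw [hE', Subgroup.map_inf _ _ f hf, Subgroup.map_inf _ _ f hf, map_cj, eQ', hg₁, hel]
    exact ⟨⟨mem_cj.mp h2, h1'⟩, h3'⟩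
  have hq' : q ∈ Q'' := (hsharp s hs hsQ q hq hE).2
  refine hmem.mp ?_
  have := eQ'.le (mem_map_of_mem f hq')
  rw [eq, mem_cj, inv_inv] at this
  simp only [show k * (k⁻¹ * f a * k) * k⁻¹ = f a by group] at this
  exact this

end Cfsg.Agent.PushingUp
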