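import Cfsg.Agent.Lib.PushingUp.Two
import Cfsg.Agent.Lib.PushingUp.One

/-!
# Distance two: the structure of `O_p(G)`

With `D = Q ∩ Q'`, `E = D ∩ D^g`: `E` is normal, `[Q, Q] ≤ Z [E, E]`, and `Q / E` is a natural layer with
fixed points `D / E`.

* `Act.fixed_of_mem`: the maximal subgroup fixes `C_V(S)`
* `Dat.E_normal`, `Dat.QQ_le`, `Dat.bar`
-/

set_option autoImplicit false
set_option linter.unusedSectionVars false
set_option linter.unusedVariables false

namespace Cfsg.Agent.PushingUp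

open Subgroup
open FFPair (cj mem_cj cj_cj)
open scoped commutatorElement

universe u

variable {G : Type u} [Group G] [Finite G] {p : ℕ} [Fact p.Prime] {S : Sylow p G} {M : Subgroup G}

/-- `M` fixes `C_V(S)`. -/
theorem Act.fixed_of_mem {V : Subgroup G} [hVn : V.Normal] (h : Act p S M V) {x : G} (hxM : x ∈ M) :
    cj x (V ⊓ centralizer ((S : Subgroup G) : Set G)) = V ⊓ centralizer ((S : Subgroup G) : Set G) := by
  set Fx := V ⊓ centralizer ((S : Subgroup G) : Set G)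
  set Z := V ⊓ Subgroup.center G
  have hVc : ∀ a ∈ V, ∀ b ∈ V, a * b = b * a := fun a ha b hb =>
    PGroup.mul_comm_of_isMulCommutative h.elem.1 ha hb
  have hZle : Z ≤ Fx := inf_le_inf_left _ (Subgroup.center_le_centralizer _)
  have hcover : ∀ {v z : G}, v ∈ V → v ∉ Fx → z ∈ Fx →
      ∃ a ∈ (S : Subgroup G), (a * v * a⁻¹ * v⁻¹)⁻¹ * z ∈ Z := fun hv hvF hz =>
    elem_cover_aux (Q := (S : Subgroup G) ⊓ centralizer (V : Set G)) inf_le_left hZle inf_le_left hVc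
      inf_le_right (fun z hz a ha => by rw [hz.2 a ha, mul_inv_cancel_right])
      (fun a ha v hv => h.quad ha hv)
      (fun a ha haQ v hv hc => h.sharp ha (fun haC => haQ ⟨ha, haC⟩) hv hc) h.card_fixed_eq hv hvF hz
  have hFx : ∀ y : G, ∀ b ∈ V ⊓ centralizer (((S : Subgroup G).map (MulAut.conj y).toMonoidHom :
      Subgroup G) : Set G), y⁻¹ * b * y ∈ Fx := fun y b hb => by
    refine ⟨by simpa using hVn.conj_mem b hb.1 y⁻¹, fun s hs => ?_⟩
    calc s * (y⁻¹ * b * y) = y⁻¹ * (y * s * y⁻¹ * b) * y := by group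
      _ = y⁻¹ * b * y * s := by
        rw [show y * s * y⁻¹ * b = b * (y * s * y⁻¹) from hb.2 _ ⟨s, hs, rfl⟩]; group
  obtain ⟨y, hy⟩ := h.exists_not_mem
  refine eq_of_le_of_card_ge ?_ (card_cj x Fx).ge
  rintro _ ⟨w₀, hw₀, rfl⟩
  set w := x * w₀ * x⁻¹
  by_contra hwF
  change w ∉ Fx at hwF
  obtain ⟨z, hz, b, hb, e⟩ := h.split hy (hVn.conj_mem w₀ hw₀.1 x)
  change z * b = w at e
  have hbF : b ∉ Fx := fun hc => hwF (e ▸ mul_mem hz hc)
  obtain ⟨a, ha, hr⟩ := hcover hb.1 hbF hz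
  set r := (a * b * a⁻¹ * b⁻¹)⁻¹ * z
  have ew : w = a * b * a⁻¹ * r := by
    have hc := hVc _ (h.quad ha hb.1).1 _ hb.1
    calc w = z * b := e.symm
      _ = b * z := hVc _ hz.1 _ hb.1
      _ = b * (a * b * a⁻¹ * b⁻¹) * r := by simp only [r]; group
      _ = a * b * a⁻¹ * r := by rw [← hc]; group
  have hb' : x⁻¹ * (a * y) ∉ M := fun hm => hy (by
    have := mul_mem (mul_mem (inv_mem (h.SM ha)) hxM) hm
    rwa [show a⁻¹ * x * (x⁻¹ * (a * y)) = y by group] at this)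
  set t := x⁻¹ * (a * y)
  have h1 : t⁻¹ * w₀ * t ∈ Fx := by
    rw [show w₀ = x⁻¹ * w * x by simp only [w]; group, ew, show
      t⁻¹ * (x⁻¹ * (a * b * a⁻¹ * r) * x) * t = (y⁻¹ * b * y) * (y⁻¹ * a⁻¹ * r * (a * y)) by
        simp only [t]; group]
    refine mul_mem (hFx y b hb) ?_
    rw [show y⁻¹ * a⁻¹ * r * (a * y) = r by
      rw [Subgroup.mem_center_iff.mp hr.2 (y⁻¹ * a⁻¹)]; group]
    exact hZle hr
  have hle : (S : Subgroup G) ⊔ cj t (S : Subgroup G) ≤ centralizer ({w₀} : Set G) := by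
    refine sup_le (fun s hs => ?_) ?_
    · rw [mem_centralizer_iff]; intro _ hu; rw [Set.mem_singleton_iff.mp hu]; exact (hw₀.2 s hs).symm
    · rintro _ ⟨s, hs, rfl⟩
      rw [mem_centralizer_iff]; intro _ hu; rw [Set.mem_singleton_iff.mp hu]
      have := ((show Commute (t⁻¹ * w₀ * t) s from (h1.2 s hs).symm).map (MulAut.conj t).toMonoidHom).eq
      simp only [MulEquiv.coe_toMonoidHom, MulAut.conj_apply,
        show t * (t⁻¹ * w₀ * t) * t⁻¹ = w₀ by group] at this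
      exact this
  refine hwF ?_
  have : x * w₀ = w₀ * x := ((hle ((h.gen t hb').ge (mem_top x))) w₀ rfl).symm
  simp only [w, this, mul_inv_cancel_right]
  exact hw₀

theorem centralizes_commutator {a : G} {E Zs : Subgroup G} (ha : ∀ e ∈ E, a * e * a⁻¹ * e⁻¹ ∈ Zs)
    (hZE : Zs ≤ centralizer (E : Set G)) (hZZ : Zs ≤ centralizer (Zs : Set G)) :
    a ∈ centralizer ((⁅E, E⁆ : Subgroup G) : Set G) := by
  suffices ⁅E, E⁆ ≤ centralizer ({a} : Set G) from fun y hy => ((this hy) a rfl).symm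
  refine commutator_le.mpr fun e he e' he' => ?_
  rw [mem_centralizer_iff]
  intro _ hu
  rw [Set.mem_singleton_iff.mp hu]
  have hz := ha e he
  have hz' := ha e' he'
  refine mul_inv_eq_iff_eq_mul.mp ?_
  set z := a * e * a⁻¹ * e⁻¹
  set z' := a * e' * a⁻¹ * e'⁻¹
  calc a * ⁅e, e'⁆ * a⁻¹ = ⁅z * e, z' * e'⁆ := by
        simp only [z, z', commutatorElement_def]; group
    _ = z * ((e * z') * e' * (e⁻¹ * z⁻¹) * e'⁻¹ * z'⁻¹) := by rw [commutatorElement_def]; group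
    _ = z * (z' * e * e' * (z⁻¹ * e⁻¹) * e'⁻¹ * z'⁻¹) := by
      rw [hZE hz' e he, ← hZE (inv_mem hz) e⁻¹ (inv_mem he)]
    _ = z * z' * ((e * e') * z⁻¹) * e⁻¹ * e'⁻¹ * z'⁻¹ := by group
    _ = z * z' * (z⁻¹ * (e * e')) * e⁻¹ * e'⁻¹ * z'⁻¹ := by
      rw [hZE (inv_mem hz) (e * e') (mul_mem he he')]
    _ = z * (z' * z⁻¹) * (⁅e, e'⁆ * z'⁻¹) := by rw [commutatorElement_def]; group
    _ = z * (z⁻¹ * z') * (z'⁻¹ * ⁅e, e'⁆) := by
      rw [hZZ (inv_mem hz) z' hz', hZE (inv_mem hz') ⁅e, e'⁆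
        (mul_mem (mul_mem (mul_mem he he') (inv_mem he)) (inv_mem he'))]
    _ = ⁅e, e'⁆ := by group

theorem card_map_mk' (N : Subgroup G) [N.Normal] {X : Subgroup G} (hX : N ≤ X) :
    Nat.card ↥(X.map (QuotientGroup.mk' N)) * Nat.card ↥N = Nat.card ↥X := by
  have h1 := ((QuotientGroup.mk' N).comp X.subtype).ker.card_mul_index
  rw [index_ker, MonoidHom.range_comp, Subgroup.range_subtype,
    show ((QuotientGroup.mk' N).comp X.subtype).ker = N.subgroupOf X by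
      rw [← MonoidHom.comap_ker, QuotientGroup.ker_mk']; rfl,
    Nat.card_congr (subgroupOfEquivOfLe hX).toEquiv, mul_comm] at h1
  exact h1

namespace Dat

variable {V' Q' A E₀ : Subgroup G} {g : G} (h : Hyp p S M)
  (hB : Basics p S M)
  (d : Dat p S M V' Q' A E₀ g)

/-- `E = Q ∩ Q' ∩ Q'^g`. -/
def E (p : ℕ) (Q' : Subgroup G) (g : G) : Subgroup G := pCore p G ⊓ Q' ⊓ cj g Q'

/-- `N = C_V(G) [E, E]`. -/
def N (p : ℕ) (Q' : Subgroup G) (g : G) : Subgroup G :=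
  (vQ p G ⊓ Subgroup.center G) ⊔ ⁅E p Q' g, E p Q' g⁆

theorem cj_pCore (x : G) : cj x (pCore p G) = pCore p G :=
  cj_eq_self_of_mem_normalizer ((normalizer_eq_top_iff.mpr PCore.pCore_normal).ge (mem_top x))

theorem cj_vQ (x : G) : cj x (vQ p G) = vQ p G :=
  cj_eq_self_of_mem_normalizer ((normalizer_eq_top_iff.mpr vQ_normal).ge (mem_top x))

theorem cj_inter (Q' : Subgroup G) (x : G) : cj x (pCore p G ⊓ Q') = pCore p G ⊓ cj x Q' := by
  rw [cj_inf, cj_pCore]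

include h d

theorem gen : A ⊔ cj g A ⊔ pCore p G = ⊤ := by
  refine top_le_iff.mp ((h.gen d.notMem).ge.trans (sup_le ?_ ?_))
  · exact d.Asup.ge.trans (sup_le (le_sup_left.trans le_sup_left) le_sup_right)
  · show cj g (S : Subgroup G) ≤ _
    rw [← d.Asup, cj_sup, cj_pCore]
    exact sup_le (le_sup_right.trans le_sup_left) le_sup_right

theorem BleQ : cj g V' ≤ pCore p G := (cj_le_cj.mpr d.V'Q).trans (cj_pCore g).le

theorem normD : (S : Subgroup G) ≤ normalizer ((pCore p G ⊓ Q' : Subgroup G) : Set G) := fun s hs =>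
  PGroup.mem_normalizer_of_map_conj_eq (by
    show cj s (pCore p G ⊓ Q') = _
    rw [cj_inter, cj_eq_self_of_mem_normalizer (d.normQ' hs)])

theorem Qdec {q : G} (hq : q ∈ pCore p G) :
    ∃ b ∈ cj g V', ∃ r ∈ pCore p G ⊓ Q', b * r = q := by
  obtain ⟨b, hb, r, hr, rfl⟩ := (Coprime.mem_sup_iff_of_le_normalizer
    ((le_sup_left.trans d.Bsup.le).trans d.normQ')).mp (d.Bsup.ge (PCore.pCore_le_sylow S hq))
  refine ⟨b, hb, r, ⟨?_, hr⟩, rfl⟩
  have := mul_mem (inv_mem (BleQ h d hb)) hq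
  rwa [inv_mul_cancel_left] at this

theorem Ddec {x : G} (hx : x ∈ pCore p G ⊓ Q') :
    ∃ v ∈ V', ∃ r ∈ E p Q' g, v * r = x := by
  have hn : V' ≤ normalizer (cj g Q' : Set G) := by
    rw [← cj_normalizer]
    exact (le_sup_left.trans d.Csup.le).trans (cj_le_cj.mpr d.normQ')
  have hxS : x ∈ cj g (S : Subgroup G) :=
    cj_le_cj.mpr (PCore.pCore_le_sylow S) ((cj_pCore g).ge hx.1)
  obtain ⟨v, hv, r, hr, rfl⟩ := (Coprime.mem_sup_iff_of_le_normalizer hn).mp (d.Csup.ge hxS)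
  refine ⟨v, hv, r, ⟨?_, hr⟩, rfl⟩
  have := mul_mem (inv_mem (show v ∈ pCore p G ⊓ Q' from ⟨d.V'Q hv, d.V'Q' hv⟩)) hx
  rwa [inv_mul_cancel_left] at this

theorem Q_eq : pCore p G = cj g V' ⊔ V' ⊔ E p Q' g := by
  refine le_antisymm (fun q hq => ?_) (sup_le (sup_le (BleQ h d) d.V'Q) (inf_le_left.trans inf_le_left))
  obtain ⟨b, hb, r, hr, rfl⟩ := Qdec h d hq
  obtain ⟨v, hv, e, he, rfl⟩ := Ddec h d hr
  rw [← mul_assoc]
  exact mul_mem_sup (mul_mem_sup hb hv) he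

theorem vQ_le_E : vQ p G ≤ E p Q' g :=
  le_inf (le_inf h.vQ_le_pCore d.VQ') ((cj_vQ g).ge.trans (cj_le_cj.mpr d.VQ'))

include hB

theorem zs_inf : ((S : Subgroup G) ⊓ centralizer ((S : Subgroup G) : Set G)) ⊓
    cj g ((S : Subgroup G) ⊓ centralizer ((S : Subgroup G) : Set G)) ≤ vQ p G ⊓ Subgroup.center G := by
  obtain ⟨-, hZsV, -⟩ := id hB
  intro z hz
  refine ⟨hZsV hz.1, Subgroup.mem_center_iff.mpr fun x => ?_⟩
  have hle : (S : Subgroup G) ⊔ cj g (S : Subgroup G) ≤ centralizer ({z} : Set G) := by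
    refine sup_le (fun s hs => ?_) ?_
    · rw [mem_centralizer_iff]; intro _ hu; rw [Set.mem_singleton_iff.mp hu]; exact (hz.1.2 s hs).symm
    · rintro _ ⟨s, hs, rfl⟩
      rw [mem_centralizer_iff]; intro _ hu; rw [Set.mem_singleton_iff.mp hu]
      obtain ⟨w, hw, rfl⟩ := hz.2
      exact ((show Commute w s from (hw.2 s hs).symm).map (MulAut.conj g).toMonoidHom).eq
  exact ((hle ((h.gen d.notMem).ge (mem_top x))) z rfl).symm

theorem comm_B_V' {b v : G} (hb : b ∈ cj g V') (hv : v ∈ V') :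
    b * v * b⁻¹ * v⁻¹ ∈ vQ p G ⊓ Subgroup.center G := by
  refine zs_inf h hB d ⟨d.quad' b ((le_sup_left.trans d.Bsup.le) hb) v hv, mem_cj.mpr ?_⟩
  have hvS : g⁻¹ * v * g ∈ (S : Subgroup G) :=
    PCore.pCore_le_sylow S (by simpa using PCore.pCore_normal.conj_mem v (d.V'Q hv) g⁻¹)
  have := inv_mem (d.quad' _ hvS _ (mem_cj.mp hb))
  convert this using 1
  group

theorem comm_AD {a x : G} (ha : a ∈ A) (hx : x ∈ pCore p G ⊓ Q') :
    a * x * a⁻¹ * x⁻¹ ∈ (S : Subgroup G) ⊓ centralizer ((S : Subgroup G) : Set G) := by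
  obtain ⟨hA, -, -⟩ := id hB
  obtain ⟨v, hv, e, he, rfl⟩ := (Coprime.mem_sup_iff_of_le_normalizer' (H := E₀) (N := vQ p G)
    (le_top.trans (normalizer_eq_top_iff.mpr vQ_normal).ge)).mp (sup_comm (vQ p G) E₀ ▸ d.dec hx)
  rw [show a * (v * e) * a⁻¹ * (v * e)⁻¹ = a * v * (e * a⁻¹) * (e⁻¹ * v⁻¹) by group,
    ← d.E₀A he a⁻¹ (inv_mem ha), show a * v * (a⁻¹ * e) * (e⁻¹ * v⁻¹) = a * v * a⁻¹ * v⁻¹ by group]
  have := hA.quad (d.AQ'.trans d.Q'S ha) hv
  exact ⟨h.vQ_le_sylow this.1, this.2⟩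

theorem E_normal : (E p Q' g).Normal := by
  obtain ⟨hA, hZsV, -⟩ := id hB
  set Eg := E p Q' g
  have hAn : ∀ a ∈ A, ∀ e ∈ pCore p G ⊓ Q', a * e * a⁻¹ * e⁻¹ ∈ Eg := fun a ha e he =>
    vQ_le_E h d (hZsV (comm_AD h hB d ha he))
  refine normalizer_eq_top_iff.mp (top_le_iff.mp ((gen h d).ge.trans (sup_le (sup_le ?_ ?_) ?_))) <;>
    intro y hy <;> refine PGroup.mem_normalizer_of_map_conj_eq (eq_of_le_of_card_ge ?_ (card_cj y _).ge) <;>
    rintro _ ⟨e, he, rfl⟩ <;> show y * e * y⁻¹ ∈ Eg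
  · have := mul_mem (hAn y hy e he.1) he
    rwa [inv_mul_cancel_right] at this
  · obtain ⟨a, ha, rfl⟩ := hy
    have he' : g⁻¹ * e * g ∈ pCore p G ⊓ Q' :=
      ⟨by simpa using PCore.pCore_normal.conj_mem e he.1.1 g⁻¹, mem_cj.mp he.2⟩
    have h1 : g * (a * (g⁻¹ * e * g) * a⁻¹ * (g⁻¹ * e * g)⁻¹) * g⁻¹ ∈ Eg := by
      refine vQ_le_E h d ((cj_vQ g).le (mem_cj_conj ?_))
      exact hZsV (comm_AD h hB d ha he')
    have := mul_mem h1 he
    simp only [MulEquiv.coe_toMonoidHom, MulAut.conj_apply]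
    convert this using 1
    group
  · refine ⟨⟨PCore.pCore_normal.conj_mem e he.1.1 y,
      (mem_normalizer_iff.mp (d.normQ' (PCore.pCore_le_sylow S hy)) e).mp he.1.2⟩, ?_⟩
    have hy' : y ∈ normalizer (cj g Q' : Set G) := by
      rw [← cj_normalizer]
      exact cj_le_cj.mpr ((PCore.pCore_le_sylow S).trans d.normQ') ((cj_pCore g).ge hy)
    exact (mem_normalizer_iff.mp hy' e).mp he.2

theorem A_centralizes : A ≤ centralizer ((⁅E p Q' g, E p Q' g⁆ : Subgroup G) : Set G) := fun a ha =>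
  centralizes_commutator (fun e he => comm_AD h hB d ha he.1)
    (inf_le_right.trans (centralizer_le ((inf_le_left.trans inf_le_left).trans (PCore.pCore_le_sylow S))))
    (inf_le_right.trans (centralizer_le inf_le_left))

theorem gA_centralizes : cj g A ≤ centralizer ((⁅E p Q' g, E p Q' g⁆ : Subgroup G) : Set G) := by
  have := E_normal h hB d
  refine (cj_le_cj.mpr (A_centralizes h hB d)).trans ?_
  rw [cj_centralizer, cj_eq_self_of_mem_normalizer
    ((normalizer_eq_top_iff.mpr (Subgroup.commutator_normal _ _)).ge (mem_top g) :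
      g ∈ normalizer ((⁅E p Q' g, E p Q' g⁆ : Subgroup G) : Set G))]

theorem N_normal : (N p Q' g).Normal := by
  have := E_normal h hB d
  have : (vQ p G ⊓ Subgroup.center G).Normal := inferInstance
  exact inferInstanceAs ((vQ p G ⊓ Subgroup.center G) ⊔ ⁅E p Q' g, E p Q' g⁆).Normal

theorem N_le_E : N p Q' g ≤ E p Q' g :=
  sup_le (inf_le_left.trans (vQ_le_E h d)) (Subgroup.commutator_le_self _)

theorem N_inf : N p Q' g ⊓ vQ p G ≤ vQ p G ⊓ Subgroup.center G := by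
  have := E_normal h hB d
  intro x hx
  have hn : (vQ p G ⊓ Subgroup.center G) ≤ normalizer ((⁅E p Q' g, E p Q' g⁆ : Subgroup G) : Set G) :=
    le_top.trans (normalizer_eq_top_iff.mpr (Subgroup.commutator_normal _ _)).ge
  obtain ⟨z, hz, w, hw, rfl⟩ := (Coprime.mem_sup_iff_of_le_normalizer hn).mp hx.1
  refine mul_mem hz ?_
  have hwV : w ∈ vQ p G := by
    have := mul_mem (inv_mem (show z ∈ vQ p G from hz.1)) hx.2
    rwa [inv_mul_cancel_left] at this
  refine ⟨hwV, Subgroup.mem_center_iff.mpr fun y => ?_⟩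
  have hle : A ⊔ cj g A ⊔ pCore p G ≤ centralizer ({w} : Set G) := by
    refine sup_le (sup_le ?_ ?_) ?_ <;> intro y hy <;> rw [mem_centralizer_iff] <;> intro _ hu <;>
      rw [Set.mem_singleton_iff.mp hu]
    · exact A_centralizes h hB d hy _ hw
    · exact gA_centralizes h hB d hy _ hw
    · exact Hyp.pCore_le_centralizer_vQ hy _ hwV
  exact ((hle ((gen h d).ge (mem_top y))) w rfl).symm

/-- `[Q, Q] ≤ N`. -/
theorem QQ_le : ⁅pCore p G, pCore p G⁆ ≤ N p Q' g := by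
  have := N_normal h hB d
  set B := cj g V'
  set Eg := E p Q' g
  have hBV : ⁅B, V'⁆ ≤ N p Q' g := commutator_le.mpr fun b hb v hv =>
    mem_sup_left (comm_B_V' h hB d hb hv)
  have hBB : ⁅B, B⁆ ≤ N p Q' g := (commutator_eq_bot_iff_le_centralizer.mpr
    (PGroup.le_centralizer_of_isMulCommutative (PGroup.isElementaryAbelian_map d.elem' _).1)).le.trans bot_le
  have hBE : ⁅B, Eg⁆ ≤ N p Q' g := by
    refine (commutator_eq_bot_iff_le_centralizer.mpr ?_).le.trans bot_le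
    rw [le_centralizer_iff]
    exact inf_le_right.trans ((cj_le_cj.mpr d.Q'V').trans (cj_centralizer g V').le)
  have hVE : ⁅V', Eg⁆ ≤ N p Q' g := by
    refine (commutator_eq_bot_iff_le_centralizer.mpr ?_).le.trans bot_le
    rw [le_centralizer_iff]
    exact (inf_le_left.trans inf_le_right).trans d.Q'V'
  have hVV : ⁅V', V'⁆ ≤ N p Q' g := (commutator_eq_bot_iff_le_centralizer.mpr
    (PGroup.le_centralizer_of_isMulCommutative d.elem'.1)).le.trans bot_le
  have hEE : ⁅Eg, Eg⁆ ≤ N p Q' g := le_sup_right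
  rw [Q_eq h d]
  refine sup_commutator_le (sup_commutator_le ?_ ?_) ?_ <;>
    refine commutator_sup_le (commutator_sup_le ?_ ?_) ?_
  · exact hBB
  · exact hBV
  · exact hBE
  · rw [commutator_comm]; exact hBV
  · exact hVV
  · exact hVE
  · rw [commutator_comm]; exact hBE
  · rw [commutator_comm]; exact hVE
  · exact hEE

theorem cardQ_eq : Nat.card ↥(pCore p G) * Nat.card ↥((S : Subgroup G) ⊓ centralizer ((S : Subgroup G) : Set G)) =
    Nat.card ↥V' * Nat.card ↥(pCore p G ⊓ Q' : Subgroup G) := by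
  obtain ⟨hA, hZsV, hV⟩ := id hB
  have hfix : vQ p G ⊓ centralizer ((S : Subgroup G) : Set G) =
      (S : Subgroup G) ⊓ centralizer ((S : Subgroup G) : Set G) :=
    le_antisymm (inf_le_inf_right _ h.vQ_le_sylow) (le_inf hZsV inf_le_right)
  have e := hA.card_eq
  rw [hfix, h.inf_centralizer_vQ hV] at e
  have hn : cj g V' ≤ normalizer ((pCore p G ⊓ Q' : Subgroup G) : Set G) :=
    (le_sup_left.trans d.Bsup.le).trans (normD h d)
  have h1 := Offender.card_sup_mul_card_inf hn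
  have es : cj g V' ⊔ (pCore p G ⊓ Q') = pCore p G :=
    le_antisymm (sup_le (BleQ h d) inf_le_left) fun q hq => by
      obtain ⟨b, hb, r, hr, rfl⟩ := Qdec h d hq
      exact mul_mem_sup hb hr
  rw [es, ← inf_assoc, inf_eq_left.mpr (BleQ h d), d.Binf, card_cj, card_cj] at h1
  exact h1

/-- `|Q|² ≤ |S| |Q ∩ Q'|`. -/
theorem cardD_le : Nat.card ↥(pCore p G) * Nat.card ↥(pCore p G) ≤
    Nat.card (S : Subgroup G) * Nat.card ↥(pCore p G ⊓ Q' : Subgroup G) := by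
  obtain ⟨hA, hZsV, hV⟩ := id hB
  have hfix : vQ p G ⊓ centralizer ((S : Subgroup G) : Set G) =
      (S : Subgroup G) ⊓ centralizer ((S : Subgroup G) : Set G) :=
    le_antisymm (inf_le_inf_right _ h.vQ_le_sylow) (le_inf hZsV inf_le_right)
  have e := hA.card_eq
  rw [hfix, h.inf_centralizer_vQ hV] at e
  refine Nat.le_of_mul_le_mul_right ?_ (Nat.card_pos
    (α := ↥((S : Subgroup G) ⊓ centralizer ((S : Subgroup G) : Set G))))
  rw [mul_assoc, cardQ_eq h hB d, ← mul_assoc, mul_comm (Nat.card ↥(pCore p G)), mul_right_comm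
    (Nat.card (S : Subgroup G)), ← e]
  exact Nat.mul_le_mul_right _ (Nat.mul_le_mul_right _ d.cardV')

end Dat

end Cfsg.Agent.PushingUp
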