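import Cfsg.Agent.Lib.PushingUp.TwoTorus

/-!
# Distance two: class three, exponent nine

* `Dat.hyper`, `Dat.lcs_eq_bot`, `Dat.lcs_two_ne`, `Dat.exponent_eq`
-/

set_option autoImplicit false
set_option linter.unusedSectionVars false
set_option linter.unusedVariables false

namespace Cfsg.Agent.PushingUp

open Subgroup
open FFPair (cj mem_cj cj_cj)
open scoped commutatorElement

universe u

variable {G : Type u} [Group G] [Finite G] {p : ℕ} [Fact p.Prime] {S : Sylow p G} {M : Subgroup G}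

theorem pc_lcs_characteristic (S : Subgroup G) (n k : ℕ) :
    ((powerClosure p n (S.lowerCentralSeries k)).subgroupOf S).Characteristic := by
  rw [← Subgroup.top_subtype_lowerCentralSeries, ← PGroup.map_powerClosure, Subgroup.subgroupOf,
    comap_map_eq_self_of_injective S.subtype_injective]
  refine Subgroup.characteristic_iff_map_eq.mpr fun α => ?_
  rw [PGroup.map_powerClosure, Subgroup.map_lowerCentralSeries, map_top_of_surjective _ α.surjective]

namespace Dat

variable {V' Q' A E₀ : Subgroup G} {g : G} (h : Hyp p S M)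
  (hd : ∀ T : Subgroup ↥(S : Subgroup G), T ≠ ⊥ → T.Characteristic →
    ¬ (T.map (S : Subgroup G).subtype).Normal)
  (d : Dat p S M V' Q' A E₀ g)
  (hsh : ∀ u ∈ pCore p G, u ∉ Q' → ∀ a ∈ A, u * a * u⁻¹ * a⁻¹ ∈ E₀ → a ∈ pCore p G)
include h hd d hsh

theorem hyper : ∃ k, iterCommutator (E p Q' g) ⊤ k ≤ vQ p G := by
  obtain ⟨-, hZsV, -⟩ := h.basics hd
  have := E_normal h (h.basics hd) d
  have hEA : ⁅E p Q' g, A⁆ ≤ vQ p G := by
    rw [commutator_comm, commutator_le]
    intro a ha e he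
    rw [commutatorElement_def]
    exact hZsV (comm_AD h (h.basics hd) d ha he.1)
  refine exists_iter_le (gen h d) (commutator_sup_le hEA ?_) (inf_le_left.trans inf_le_left)
    PCore.isPGroup_pCore.isNilpotent
  have h2 := map_mono (f := (MulAut.conj g).toMonoidHom) hEA
  rw [Subgroup.map_commutator] at h2
  refine le_trans (le_of_eq ?_) (h2.trans (cj_vQ g).le)
  congr 1
  exact (cj_eq_self_of_mem_normalizer ((normalizer_eq_top_iff.mpr (E_normal h (h.basics hd) d)).ge (mem_top g) :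
    g ∈ normalizer (E p Q' g : Set G))).symm

theorem lcs_one_le : (S : Subgroup G).lowerCentralSeries 1 ≤ pCore p G ⊓ Q' := by
  obtain ⟨hquad, -, -, -⟩ := bar h (h.basics hd) d
  rw [Subgroup.lowerCentralSeries_succ, Subgroup.lowerCentralSeries_zero, commutator_le]
  intro s hs t ht
  have hdec : ∀ s ∈ (S : Subgroup G), ∃ a ∈ A, ∃ q ∈ pCore p G, a * q = s := fun s hs =>
    (Coprime.mem_sup_iff_of_le_normalizer One.le_normalizer_pCore).mp (d.Asup.ge hs)
  obtain ⟨a, ha, q, hq, rfl⟩ := hdec s hs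
  obtain ⟨b, hb, r, hr, rfl⟩ := hdec t ht
  have haS := d.AQ'.trans d.Q'S ha
  have hbS := d.AQ'.trans d.Q'S hb
  have hn : ∀ {y x : G}, y ∈ (S : Subgroup G) → x ∈ pCore p G ⊓ Q' → y * x * y⁻¹ ∈ pCore p G ⊓ Q' :=
    fun hy hx => (mem_normalizer_iff.mp (normD h d hy) _).mp hx
  have h1 : ⁅q, b⁆ ∈ pCore p G ⊓ Q' := by
    rw [← commutatorElement_inv]
    exact inv_mem (by rw [commutatorElement_def]; exact hquad b hbS q hq)
  have h2 : ⁅q, r⁆ ∈ pCore p G ⊓ Q' :=
    (inf_le_left : E p Q' g ≤ _) (N_le_E h (h.basics hd) d (QQ_le h (h.basics hd) d (commutator_mem_commutator hq hr)))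
  have h3 : ⁅a, r⁆ ∈ pCore p G ⊓ Q' := by rw [commutatorElement_def]; exact hquad a haS r hr
  have h4 : ⁅a, b⁆ = 1 := commutatorElement_eq_one_iff_mul_comm.mpr
    (PGroup.mul_comm_of_isMulCommutative d.elemA.1 ha hb)
  rw [show ⁅a * q, b * r⁆ = a * ⁅q, b⁆ * a⁻¹ * (a * b * ⁅q, r⁆ * (a * b)⁻¹) * ⁅a, b⁆ *
    (b * ⁅a, r⁆ * b⁻¹) by simp only [commutatorElement_def]; group, h4, mul_one]
  exact mul_mem (mul_mem (hn haS h1) (hn (mul_mem haS hbS) h2)) (hn hbS h3)

theorem lcs_two_le : (S : Subgroup G).lowerCentralSeries 2 ≤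
    ((S : Subgroup G) ⊓ centralizer ((S : Subgroup G) : Set G)) ⊔ ⁅E p Q' g, E p Q' g⁆ := by
  obtain ⟨-, hZsV, -⟩ := h.basics hd
  rw [Subgroup.lowerCentralSeries_succ]
  refine (commutator_mono (lcs_one_le h hd d hsh) le_rfl).trans (commutator_le.mpr fun x hx s hs => ?_)
  obtain ⟨a, ha, q, hq, rfl⟩ :=
    (Coprime.mem_sup_iff_of_le_normalizer One.le_normalizer_pCore).mp (d.Asup.ge hs)
  have h1 : ⁅x, a⁆ ∈ (S : Subgroup G) ⊓ centralizer ((S : Subgroup G) : Set G) := by
    rw [← commutatorElement_inv]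
    exact inv_mem (by rw [commutatorElement_def]; exact comm_AD h (h.basics hd) d ha hx)
  have h2 : a * ⁅x, q⁆ * a⁻¹ ∈ N p Q' g :=
    (N_normal h (h.basics hd) d).conj_mem _ (QQ_le h (h.basics hd) d (commutator_mem_commutator hx.1 hq)) a
  have hle : N p Q' g ≤ ((S : Subgroup G) ⊓ centralizer ((S : Subgroup G) : Set G)) ⊔
      ⁅E p Q' g, E p Q' g⁆ :=
    sup_le_sup_right (le_inf (inf_le_left.trans h.vQ_le_sylow)
      (inf_le_right.trans (Subgroup.center_le_centralizer _))) _
  rw [show ⁅x, a * q⁆ = ⁅x, a⁆ * (a * ⁅x, q⁆ * a⁻¹) by simp only [commutatorElement_def]; group]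
  exact mul_mem (mem_sup_left h1) (hle h2)

/-- `S` has class at most three. -/
theorem lcs_eq_bot : (S : Subgroup G).lowerCentralSeries 3 = ⊥ := by
  have := E_normal h (h.basics hd) d
  have hle : (S : Subgroup G).lowerCentralSeries 3 ≤ ⁅E p Q' g, E p Q' g⁆ := by
    rw [Subgroup.lowerCentralSeries_succ]
    refine (commutator_mono (lcs_two_le h hd d hsh) le_rfl).trans (commutator_le.mpr fun y hy s hs => ?_)
    obtain ⟨z, hz, w, hw, rfl⟩ := Subgroup.mem_sup_of_normal_right.mp hy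
    rw [show ⁅z * w, s⁆ = z * ⁅w, s⁆ * z⁻¹ * ⁅z, s⁆ by simp only [commutatorElement_def]; group,
      commutatorElement_eq_one_iff_mul_comm.mpr (hz.2 s hs).symm, mul_one]
    refine (Subgroup.commutator_normal _ _).conj_mem _ ?_ z
    exact Subgroup.commutator_le_left _ ⊤ (commutator_mem_commutator hw (mem_top s))
  refine eq_bot_of_normal hd (Subgroup.lowerCentralSeries_le_self _ _) (lcs_characteristic _ _) ?_
  refine normalizer_eq_top_iff.mp (top_le_iff.mp ((gen h d).ge.trans (sup_le (sup_le ?_ ?_) ?_)))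
  · exact ((A_centralizes h (h.basics hd) d).trans (centralizer_le hle)).trans (centralizer_le_normalizer _)
  · exact ((gA_centralizes h (h.basics hd) d).trans (centralizer_le hle)).trans (centralizer_le_normalizer _)
  · exact (PCore.pCore_le_sylow S).trans (Subgroup.self_le_normalizer_lowerCentralSeries _ _)

theorem lcs_two_ne : (S : Subgroup G).lowerCentralSeries 2 ≠ ⊥ := by
  intro hc
  obtain ⟨a, ha, haQ⟩ := exists_a h (h.basics hd) d hsh
  obtain ⟨u, hu, huQ⟩ := exists_u h (h.basics hd) d hsh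
  refine (nondeg h (h.basics hd) d hsh ha haQ hu huQ).2 ?_
  have haS := d.AQ'.trans d.Q'S ha
  have h1 : ⁅a, u⁆ ∈ (S : Subgroup G).lowerCentralSeries 1 :=
    commutator_mem_commutator haS (PCore.pCore_le_sylow S hu)
  have h2 : ⁅⁅a, u⁆, a⁆ ∈ (S : Subgroup G).lowerCentralSeries 2 := commutator_mem_commutator h1 haS
  rw [hc, mem_bot] at h2
  rw [← commutatorElement_inv, h2, inv_one]
  exact one_mem _

theorem pow_lcs_two {c : G} (hc : c ∈ (S : Subgroup G).lowerCentralSeries 2) : c ^ p = 1 := by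
  obtain ⟨hA, hZsV, -⟩ := h.basics hd
  have := E_normal h (h.basics hd) d
  have hle : powerClosure p 1 ((S : Subgroup G).lowerCentralSeries 2) ≤ ⁅E p Q' g, E p Q' g⁆ := by
    refine PGroup.powerClosure_le_iff.mpr fun y hy => ?_
    obtain ⟨z, hz, w, hw, rfl⟩ := Subgroup.mem_sup_of_normal_right.mp (lcs_two_le h hd d hsh hy)
    have hwS : w ∈ (S : Subgroup G) :=
      ((Subgroup.commutator_le_self _).trans ((inf_le_left.trans inf_le_left).trans
        (PCore.pCore_le_sylow S)) : ⁅E p Q' g, E p Q' g⁆ ≤ (S : Subgroup G)) hw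
    rw [pow_one, Commute.mul_pow (hz.2 w hwS).symm, hA.elem.2 z (hZsV hz), one_mul]
    exact pow_mem hw p
  have hb : powerClosure p 1 ((S : Subgroup G).lowerCentralSeries 2) = ⊥ := by
    refine eq_bot_of_normal hd ((PGroup.powerClosure_le _ _).trans
      (Subgroup.lowerCentralSeries_le_self _ _)) (pc_lcs_characteristic _ _ _) ?_
    refine normalizer_eq_top_iff.mp (top_le_iff.mp ((gen h d).ge.trans (sup_le (sup_le ?_ ?_) ?_)))
    · exact ((A_centralizes h (h.basics hd) d).trans (centralizer_le hle)).trans (centralizer_le_normalizer _)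
    · exact ((gA_centralizes h (h.basics hd) d).trans (centralizer_le hle)).trans (centralizer_le_normalizer _)
    · intro q hq
      refine PGroup.mem_normalizer_of_map_conj_eq ?_
      rw [PGroup.map_powerClosure, PGroup.map_conj_eq_of_mem_normalizer
        (Subgroup.self_le_normalizer_lowerCentralSeries _ _ (PCore.pCore_le_sylow S hq))]
  have := PGroup.pow_mem_powerClosure (p := p) hc 1
  rwa [hb, mem_bot, pow_one] at this

theorem central_lcs_two {c s : G} (hc : c ∈ (S : Subgroup G).lowerCentralSeries 2)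
    (hs : s ∈ (S : Subgroup G)) : s * c = c * s := by
  have h1 : ⁅c, s⁆ ∈ (S : Subgroup G).lowerCentralSeries 3 := commutator_mem_commutator hc hs
  rw [lcs_eq_bot h hd d hsh, mem_bot] at h1
  exact (commutatorElement_eq_one_iff_mul_comm.mp h1).symm

/-- The cube of `a q`. -/
theorem cube {a q : G} (hp : p = 3) (ha : a ∈ A) (hq : q ∈ pCore p G) :
    ∃ c ∈ (S : Subgroup G).lowerCentralSeries 2, c ∈ N p Q' g ∧
      (a * q) ^ 3 = ⁅a, ⁅a, q⁆⁆ * c * ((⁅a, q⁆) ^ 3 * q ^ 3) := by
  subst hp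
  have haS := d.AQ'.trans d.Q'S ha
  have hqS := PCore.pCore_le_sylow S hq
  have hx : ⁅a, q⁆ ∈ (S : Subgroup G).lowerCentralSeries 1 := commutator_mem_commutator haS hqS
  have hxD := lcs_one_le h hd d hsh hx
  set x := ⁅a, q⁆
  set z := ⁅a, x⁆
  have hz : z ∈ (S : Subgroup G) ⊓ centralizer ((S : Subgroup G) : Set G) := by
    simp only [z, commutatorElement_def]; exact comm_AD h (h.basics hd) d ha hxD
  refine ⟨⁅q, x ^ 2⁆, ?_, QQ_le h (h.basics hd) d (commutator_mem_commutator hq (pow_mem hxD.1 2)), ?_⟩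
  · rw [Subgroup.lowerCentralSeries_succ, commutator_comm]
    exact commutator_mem_commutator hqS (pow_mem hx 2)
  have hc2 : ⁅q, x ^ 2⁆ ∈ (S : Subgroup G).lowerCentralSeries 2 := by
    rw [Subgroup.lowerCentralSeries_succ, commutator_comm]
    exact commutator_mem_commutator hqS (pow_mem hx 2)
  have hxS : x ∈ (S : Subgroup G) := PCore.pCore_le_sylow S hxD.1
  have ex : a * q * a⁻¹ = x * q := by simp only [x, commutatorElement_def]; group
  have ez : a * x * a⁻¹ = z * x := by simp only [z, commutatorElement_def]; group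
  have ea : a * a * a = 1 := by rw [← sq, ← pow_succ]; exact d.elemA.2 a ha
  clear_value x z
  calc (a * q) ^ 3 = (a * q) * (a * q) * (a * q) := by rw [pow_succ, sq]
    _ = (a * q * a⁻¹) * (a * (a * q * a⁻¹) * a⁻¹) * (a * a * a * q) := by group
    _ = (x * q) * (a * (x * q) * a⁻¹) * q := by rw [ex, ea, one_mul]
    _ = (x * q) * ((a * x * a⁻¹) * (a * q * a⁻¹)) * q := by group
    _ = (x * q) * ((z * x) * (x * q)) * q := by rw [ez, ex]
    _ = (x * q) * z * (x * (x * q)) * q := by group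
    _ = z * (x * q) * (x * (x * q)) * q := by rw [hz.2 (x * q) (mul_mem hxS hqS)]
    _ = z * (x * ⁅q, x ^ 2⁆) * (x ^ 2 * q ^ 3) := by
      rw [commutatorElement_def, pow_succ q 2, sq q, sq x]; group
    _ = z * (⁅q, x ^ 2⁆ * x) * (x ^ 2 * q ^ 3) := by rw [central_lcs_two h hd d hsh hc2 hxS]
    _ = _ := by group

theorem exponent_eq (hp : p = 3) : Monoid.exponent ↥(S : Subgroup G) = 9 := by
  subst hp
  obtain ⟨hA, hZsV, -⟩ := h.basics hd
  have hdec : ∀ s ∈ (S : Subgroup G), ∃ a ∈ A, ∃ q ∈ pCore 3 G, a * q = s := fun s hs =>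
    (Coprime.mem_sup_iff_of_le_normalizer One.le_normalizer_pCore).mp (d.Asup.ge hs)
  have e : powerClosure 3 2 (S : Subgroup G) = powerClosure 3 2 (pCore 3 G) := by
    refine le_antisymm (PGroup.powerClosure_le_iff.mpr fun s hs => ?_)
      (PGroup.powerClosure_mono (PCore.pCore_le_sylow S) 2)
    obtain ⟨a, ha, q, hq, rfl⟩ := hdec s hs
    obtain ⟨c, hc, -, hcube⟩ := cube h hd d hsh rfl ha hq
    have haS := d.AQ'.trans d.Q'S ha
    have hqS := PCore.pCore_le_sylow S hq
    have hx : ⁅a, q⁆ ∈ (S : Subgroup G).lowerCentralSeries 1 := commutator_mem_commutator haS hqS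
    have hxD := lcs_one_le h hd d hsh hx
    set x := ⁅a, q⁆
    have hxS : x ∈ (S : Subgroup G) := PCore.pCore_le_sylow S hxD.1
    have hz : ⁅a, x⁆ ∈ (S : Subgroup G) ⊓ centralizer ((S : Subgroup G) : Set G) := by
      simp only [commutatorElement_def]; exact comm_AD h (h.basics hd) d ha hxD
    have hR : x ^ 3 * q ^ 3 ∈ (S : Subgroup G) := mul_mem (pow_mem hxS 3) (pow_mem hqS 3)
    have hw : ⁅q ^ 3, x ^ 3⁆ ∈ (S : Subgroup G).lowerCentralSeries 2 := by
      rw [Subgroup.lowerCentralSeries_succ, commutator_comm]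
      exact commutator_mem_commutator (pow_mem hqS 3) (pow_mem hx 3)
    have hzc : Commute ⁅a, x⁆ c :=
      (hz.2 c (Subgroup.lowerCentralSeries_le_self _ _ hc)).symm
    have hzR : Commute (⁅a, x⁆ * c) (x ^ 3 * q ^ 3) :=
      Commute.mul_left (hz.2 _ hR).symm (central_lcs_two h hd d hsh hc hR).symm
    have h9 : (a * q) ^ (3 ^ 2) = (x ^ 3) ^ 3 * (q ^ 3) ^ 3 := by
      rw [show (3 : ℕ) ^ 2 = 3 * 3 by norm_num, pow_mul, hcube, hzR.mul_pow, hzc.mul_pow,
        hA.elem.2 _ (hZsV hz), pow_lcs_two h hd d hsh hc, one_mul, one_mul,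
        pow_qa (z := ⁅q ^ 3, x ^ 3⁆) (by rw [commutatorElement_def]; group)
          (central_lcs_two h hd d hsh hw (pow_mem hxS 3)) (central_lcs_two h hd d hsh hw (pow_mem hqS 3)),
        show Nat.choose 3 2 = 3 from rfl, pow_lcs_two h hd d hsh hw, mul_one]
    rw [h9, ← pow_mul, ← pow_mul, show 3 * 3 = 3 ^ 2 by norm_num]
    exact mul_mem (PGroup.pow_mem_powerClosure hxD.1 2) (PGroup.pow_mem_powerClosure hq 2)
  have hb : powerClosure 3 2 (S : Subgroup G) = ⊥ := by
    refine eq_bot_of_normal hd (PGroup.powerClosure_le _ _) (pc_characteristic _ _) ?_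
    rw [e]
    refine ⟨fun y hy x => ?_⟩
    have hmem := mem_map_of_mem (MulAut.conj x).toMonoidHom hy
    rw [PGroup.map_powerClosure, show (pCore 3 G).map (MulAut.conj x).toMonoidHom = pCore 3 G from
      cj_pCore x] at hmem
    exact hmem
  have h9 : Monoid.exponent ↥(S : Subgroup G) ∣ 3 ^ 2 :=
    Monoid.exponent_dvd_of_forall_pow_eq_one fun s => Subtype.ext (by
      have := PGroup.pow_mem_powerClosure (p := 3) s.2 2
      rwa [hb, mem_bot] at this)
  obtain ⟨k, hk, e'⟩ := (Nat.dvd_prime_pow Nat.prime_three).mp h9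
  rcases Nat.lt_or_ge k 2 with hk2 | hk2
  · exfalso
    have key : ∀ s ∈ (S : Subgroup G), s ^ 3 = 1 := fun s hs => by
      have h1 : Monoid.exponent ↥(S : Subgroup G) ∣ 3 :=
        (e' ▸ pow_dvd_pow 3 (by omega : k ≤ 1)).trans (by norm_num)
      exact congrArg Subtype.val (orderOf_dvd_iff_pow_eq_one.mp
        ((Monoid.order_dvd_exponent (⟨s, hs⟩ : ↥(S : Subgroup G))).trans h1))
    obtain ⟨a, ha, haQ⟩ := exists_a h (h.basics hd) d hsh
    obtain ⟨u, hu, huQ⟩ := exists_u h (h.basics hd) d hsh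
    obtain ⟨c, -, hcN, hcube⟩ := cube h hd d hsh rfl ha hu
    have haS := d.AQ'.trans d.Q'S ha
    have huS := PCore.pCore_le_sylow S hu
    have hxS : ⁅a, u⁆ ∈ (S : Subgroup G) :=
      mul_mem (mul_mem (mul_mem haS huS) (inv_mem haS)) (inv_mem huS)
    rw [key _ (mul_mem haS huS), key _ hxS, key _ huS, mul_one, mul_one] at hcube
    refine (nondeg h (h.basics hd) d hsh ha haQ hu huQ).2 ?_
    rw [eq_inv_of_mul_eq_one_left hcube.symm]
    exact inv_mem hcN
  · rw [e', show k = 2 by omega]; norm_num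

end Dat

end Cfsg.Agent.PushingUp
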