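import Cfsg.Agent.Lib.PushingUp.TwoFinal

/-!
# Distance two: `p = 3`

A torus element scales `Z(S)`, `V / Z(S)`, `D / E` and `Q / D` compatibly; the triple commutator then
forces `p ∣ 6`.

* `Dat.p_eq_three`
-/

set_option autoImplicit false
set_option linter.unusedSectionVars false
set_option linter.unusedVariables false

namespace Cfsg.Agent.PushingUp

open Subgroup
open FFPair (cj mem_cj cj_cj)
open scoped commutatorElement

universe u

variable {G : Type u} [Group G] [Finite G] {p : ℕ} [Fact p.Prime] {S : Sylow p G} {M : Subgroup G}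

/-- An element trivial on `V / C_V(G)` centralises `V`. -/
theorem Act.mem_centralizer_of_trivial {V : Subgroup G} [V.Normal] (h : Act p S M V) {k : G}
    (hk : ∀ v ∈ V, k * v * k⁻¹ * v⁻¹ ∈ V ⊓ Subgroup.center G) : k ∈ centralizer (V : Set G) := by
  obtain ⟨F, _, _, ρ, ψ, -, -, hker, hψ, hψk, hact⟩ := h.exists_natural
  refine hker.le (MonoidHom.mem_ker.mpr (Matrix.SpecialLinearGroup.ext _ _ fun i j => ?_))
  obtain ⟨u, hu⟩ := hψ (Multiplicative.ofAdd (Pi.single j (1 : F)))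
  obtain ⟨w, hw, hwe⟩ := hact k u
  have e1 : ψ w = ψ u := by
    refine mul_inv_eq_one.mp ?_
    rw [← map_inv, ← map_mul, hψk, Subgroup.coe_mul, Subgroup.coe_inv, hw]
    exact hk u u.2
  rw [e1, hu, toAdd_ofAdd, Matrix.mulVec_single_one] at hwe
  have := congrFun hwe i
  rw [Matrix.SpecialLinearGroup.coe_one, Matrix.one_apply]
  simpa [Pi.single_apply] using this.symm

namespace Dat

variable {V' Q' A E₀ : Subgroup G} {g : G} (h : Hyp p S M)
  (hB : Basics p S M)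
  (d : Dat p S M V' Q' A E₀ g)
  (hsh : ∀ u ∈ pCore p G, u ∉ Q' → ∀ a ∈ A, u * a * u⁻¹ * a⁻¹ ∈ E₀ → a ∈ pCore p G)
include h hB d hsh

theorem p_eq_three : p = 3 := by
  by_contra h3
  have hp : p.Prime := Fact.out
  have hp2 := p_ne_two h hB d hsh
  have hp5 : 5 ≤ p := by
    have h4 : p ≠ 4 := fun e => absurd (e ▸ hp) (by norm_num)
    have := hp.two_le
    omega
  obtain ⟨hA, hZsV, hV⟩ := id hB
  obtain ⟨hquad, hsharp, hfixD, -⟩ := bar h hB d
  have := E_normal h hB d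
  have := N_normal h hB d
  set Sg := (S : Subgroup G) with hSg
  set Zs := Sg ⊓ centralizer (Sg : Set G)
  set Z := vQ p G ⊓ Subgroup.center G
  set Q := pCore p G
  have hQS : Q ≤ Sg := PCore.pCore_le_sylow S
  have hZle : Z ≤ Zs := le_inf (inf_le_left.trans h.vQ_le_sylow)
    (inf_le_right.trans (Subgroup.center_le_centralizer _))
  have hfix : vQ p G ⊓ centralizer (Sg : Set G) = Zs :=
    le_antisymm (inf_le_inf_right _ h.vQ_le_sylow) (le_inf hZsV inf_le_right)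
  have hinter : ∀ x ∉ M, Zs ⊓ cj x Zs ≤ Z := by
    intro x hx z hz
    refine ⟨hZsV hz.1, Subgroup.mem_center_iff.mpr fun y => ?_⟩
    have hle : Sg ⊔ cj x Sg ≤ centralizer ({z} : Set G) := by
      refine sup_le (fun s hs => ?_) ?_
      · rw [mem_centralizer_iff]; intro _ hu; rw [Set.mem_singleton_iff.mp hu]; exact (hz.1.2 s hs).symm
      · rintro _ ⟨s, hs, rfl⟩
        rw [mem_centralizer_iff]; intro _ hu; rw [Set.mem_singleton_iff.mp hu]
        obtain ⟨w, hw, rfl⟩ := hz.2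
        exact ((show Commute w s from (hw.2 s hs).symm).map (MulAut.conj x).toMonoidHom).eq
    exact ((hle ((h.gen hx).ge (mem_top y))) z rfl).symm
  have hgZs : cj g Zs ≤ vQ p G := (cj_le_cj.mpr hZsV).trans (cj_vQ g).le
  have hgQ : Q ≤ cj g Sg := (cj_pCore g).ge.trans (cj_le_cj.mpr hQS)
  -- choose the two root elements
  obtain ⟨a, ha, haQ⟩ := exists_a h hB d hsh
  have haS : a ∈ Sg := d.AQ'.trans d.Q'S ha
  obtain ⟨v, hv, hvZs⟩ : ∃ v ∈ cj g Zs, v ∉ Zs := by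
    by_contra hc
    push Not at hc
    have hle : Zs ≤ Z := by
      refine le_trans ?_ (hinter g d.notMem)
      rw [eq_of_le_of_card_ge hc (card_cj g Zs).ge, inf_idem]
    have e := hA.card_fixed_eq
    rw [hfix, h.inf_centralizer_vQ hV, le_antisymm hle hZle, mul_comm] at e
    exact h.not_le (eq_of_le_of_card_ge hQS (Nat.eq_of_mul_eq_mul_right Nat.card_pos e).ge).ge
  have haC : a ∉ centralizer (vQ p G : Set G) := fun hc =>
    haQ ((h.inf_centralizer_vQ hV).le ⟨haS, hc⟩)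
  set z := a * v * a⁻¹ * v⁻¹
  have hz : z ∈ Zs := hfix.le (hA.quad haS (hgZs hv))
  have hzg : z ∉ cj g Zs := fun hc =>
    hvZs (hfix.le (hA.sharp haS haC (hgZs hv) (hinter g d.notMem ⟨hz, hc⟩)))
  have hz0 : g⁻¹ * z * g ∈ vQ p G := by simpa using vQ_normal.conj_mem z (hZsV hz) g⁻¹
  obtain ⟨a₀, ha₀, hr⟩ := elem_cover_aux (S := Sg) (Q := Q) (V := vQ p G) (Zs := Zs) (Z := Z) hQS hZle
    hZsV (fun a ha b hb => PGroup.mul_comm_of_isMulCommutative hA.elem.1 ha hb)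
    Hyp.pCore_le_centralizer_vQ (fun z hz a ha => by rw [hz.2 a ha, mul_inv_cancel_right])
    (fun a ha v hv => hfix.le (hA.quad ha hv))
    (fun a ha haQ v hv hc => hfix.le (hA.sharp ha (fun hc' =>
      haQ ((h.inf_centralizer_vQ hV).le ⟨ha, hc'⟩)) hv hc))
    (by
      have e := hA.card_fixed_eq
      rw [hfix, h.inf_centralizer_vQ hV] at e
      exact e)
    hz0 (fun hc => hzg (mem_cj.mpr hc)) (inv_mem (mem_cj.mp hv) : (g⁻¹ * v * g)⁻¹ ∈ Zs)
  set b := g * a₀ * g⁻¹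
  have hb : b ∈ cj g Sg := mem_cj_conj ha₀
  set w := a * b * a
  -- the quotient by `Z`
  set π := QuotientGroup.mk' Z
  have hπ1 : ∀ {x : G}, x ∈ Z → π x = 1 := fun hx => (QuotientGroup.eq_one_iff _).mpr hx
  have hπ : ∀ {x y : G}, x * y⁻¹ ∈ Z → π x = π y := fun hxy => by
    have := hπ1 hxy
    rwa [map_mul, map_inv, mul_inv_eq_one] at this
  have hπ' : ∀ {x : G}, π x = 1 → x ∈ Z := fun hx => (QuotientGroup.eq_one_iff _).mp hx
  have hVc : ∀ x ∈ vQ p G, ∀ y ∈ vQ p G, x * y = y * x := fun x hx y hy =>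
    PGroup.mul_comm_of_isMulCommutative hA.elem.1 hx hy
  have hbv : b * v * b⁻¹ = v := by
    obtain ⟨v₀, hv₀, rfl⟩ := hv
    have h0 : a₀ * v₀ = v₀ * a₀ := hv₀.2 a₀ ha₀
    show g * a₀ * g⁻¹ * (g * v₀ * g⁻¹) * (g * a₀ * g⁻¹)⁻¹ = g * v₀ * g⁻¹
    rw [show g * a₀ * g⁻¹ * (g * v₀ * g⁻¹) * (g * a₀ * g⁻¹)⁻¹ = g * (a₀ * v₀ * a₀⁻¹) * g⁻¹ by group,
      h0, mul_inv_cancel_right]
  have hbz : π (b * z * b⁻¹) = π (v⁻¹ * z) := by
    have h1 : π (b * z * b⁻¹ * z⁻¹) = π v⁻¹ := by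
      have hc := hr.2
      refine hπ ?_
      have : b * z * b⁻¹ * z⁻¹ * v⁻¹⁻¹ =
          ((a₀ * (g⁻¹ * z * g) * a₀⁻¹ * (g⁻¹ * z * g)⁻¹)⁻¹ * (g⁻¹ * v * g)⁻¹)⁻¹ := by
        have := Subgroup.mem_center_iff.mp hc g
        set r := (a₀ * (g⁻¹ * z * g) * a₀⁻¹ * (g⁻¹ * z * g)⁻¹)⁻¹ * (g⁻¹ * v * g)⁻¹ with hrdef
        have hgr : g * r⁻¹ * g⁻¹ = r⁻¹ := by
          have h' := (show Commute g r from this).inv_right
          rw [h'.eq, mul_inv_cancel_right]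
        rw [← hgr]
        simp only [hrdef, b]
        have hvv : (g⁻¹ * v * g) * (a₀ * (g⁻¹ * z * g) * a₀⁻¹ * (g⁻¹ * z * g)⁻¹) =
            (a₀ * (g⁻¹ * z * g) * a₀⁻¹ * (g⁻¹ * z * g)⁻¹) * (g⁻¹ * v * g) :=
          hVc _ (by simpa using vQ_normal.conj_mem v (hgZs hv) g⁻¹) _
            (hA.quad ha₀ hz0).1
        rw [show ((a₀ * (g⁻¹ * z * g) * a₀⁻¹ * (g⁻¹ * z * g)⁻¹)⁻¹ * (g⁻¹ * v * g)⁻¹)⁻¹ =
          (g⁻¹ * v * g) * (a₀ * (g⁻¹ * z * g) * a₀⁻¹ * (g⁻¹ * z * g)⁻¹) by group, hvv]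
        group
      rw [this]
      exact inv_mem hr
    rw [show b * z * b⁻¹ = (b * z * b⁻¹ * z⁻¹) * z by group, map_mul, h1, ← map_mul]
  have hwv : π (w * v * w⁻¹) = π z := by
    have e1 : w * v * w⁻¹ = a * ((b * z * b⁻¹) * (b * v * b⁻¹)) * a⁻¹ := by
      simp only [w, z]; group
    have e2 : π (w * v * w⁻¹) = π (a * (v⁻¹ * z * v) * a⁻¹) := by
      rw [e1, hbv]; simp only [map_mul, map_inv] at hbz ⊢; rw [hbz]
    rw [e2, mul_assoc v⁻¹, hVc z (hZsV hz) v (hgZs hv), inv_mul_cancel_left, hz.2 a haS,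
      mul_inv_cancel_right]
  have hwgM : w * g ∈ M := by
    by_contra hc
    have h1 : w * v * w⁻¹ ∈ Zs := by
      obtain ⟨r, hr', e⟩ := (QuotientGroup.mk'_eq_mk' Z).mp hwv.symm
      exact e ▸ mul_mem hz (hZle hr')
    have h2 : w * v * w⁻¹ ∈ Z := by
      refine hinter _ hc ⟨h1, ?_⟩
      rw [← cj_cj]
      exact mem_cj_conj hv
    refine hvZs (hZle ?_)
    have hn : Z.Normal := inferInstance
    simpa [mul_assoc] using hn.conj_mem _ h2 w⁻¹
  have hwZs : cj w (cj g Zs) = Zs := by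
    rw [cj_cj, ← hfix]; exact hA.fixed_of_mem hwgM
  have hwD : cj w (cj g (Q ⊓ Q')) = Q ⊓ Q' := by rw [cj_cj]; exact hfixD _ hwgM
  obtain ⟨m, hm⟩ : ∃ m, 2 * m = p + 1 := by
    obtain ⟨r, hr'⟩ := hp.odd_of_ne_two hp2
    exact ⟨r + 1, by omega⟩
  set t := a ^ 2 * b ^ m * a ^ 2 * w⁻¹
  -- the torus on `V / Z`
  have hWV : ∀ x ∈ (vQ p G).map π, ∀ y ∈ (vQ p G).map π, x * y = y * x := by
    rintro _ ⟨x, hx, rfl⟩ _ ⟨y, hy, rfl⟩
    rw [← map_mul, ← map_mul, hVc x hx y hy]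
  have hnV : ∀ x : G, π x ∈ normalizer ((vQ p G).map π : Set (G ⧸ Z)) := fun x =>
    le_normalizer_map π ⟨x, (normalizer_eq_top_iff.mpr vQ_normal).ge (mem_top x), rfl⟩
  obtain ⟨tV, tV'⟩ := torus_action hWV (L := Zs.map π) (L' := (cj g Zs).map π) (a := π a) (b := π b)
    (hnV a) (map_mono hZsV) (map_mono hgZs) (by
      refine le_bot_iff.mp ?_
      rintro _ ⟨⟨x, hx, rfl⟩, ⟨y, hy, e⟩⟩
      obtain ⟨r, hr', rfl⟩ := (QuotientGroup.mk'_eq_mk' Z).mp e
      have hyZs : y ∈ Zs := by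
        have := Zs.mul_mem hx (Zs.inv_mem (hZle hr'))
        rwa [mul_inv_cancel_right] at this
      exact mem_bot.mpr (hπ1 (mul_mem (hinter g d.notMem ⟨hyZs, hy⟩) hr')))
    (by rintro _ ⟨x, hx, rfl⟩; rw [← map_mul, hx.2 a haS, map_mul])
    (by
      rintro _ ⟨_, ⟨y, hy, rfl⟩, rfl⟩
      rw [← map_mul, ← map_mul]
      congr 1
      have := ((show Commute a₀ y from hy.2 a₀ ha₀).map (MulAut.conj g).toMonoidHom).eq
      exact this)
    (by
      rintro _ ⟨y, hy, rfl⟩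
      rw [← map_commutatorElement]
      exact mem_map_of_mem π (hfix.le (hA.quad haS (hgZs hy))))
    (by
      rintro _ ⟨x, hx, rfl⟩
      rw [← map_commutatorElement]
      refine mem_map_of_mem π (mem_cj.mpr ?_)
      have h0 : g⁻¹ * x * g ∈ vQ p G := by simpa using vQ_normal.conj_mem x (hZsV hx) g⁻¹
      have := hfix.le (hA.quad ha₀ h0)
      convert this using 1
      simp only [b, commutatorElement_def]; group)
    (by
      show cj (π a * π b * π a) ((cj g Zs).map π) = _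
      rw [← map_mul, ← map_mul, ← map_cj, show cj (a * b * a) (cj g Zs) = Zs from hwZs])
    2 m (by
      rintro _ ⟨x, hx, rfl⟩
      rw [← map_pow, hm, pow_succ, hA.elem.2 x hx, one_mul])
  have ht : π a ^ 2 * π b ^ m * π a ^ 2 * (π a * π b * π a)⁻¹ = π t := by
    simp only [t, w, map_mul, map_pow, map_inv]
  rw [ht] at tV tV'
  -- `t a t⁻¹ = a⁴` modulo `Q`
  set a' := t * a * t⁻¹
  set k := (a ^ 4)⁻¹ * a'
  have hk : k ∈ Q := by
    refine cent h hB d hsh (hA.mem_centralizer_of_trivial fun x hx => hπ' ?_)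
    show π (k * x * k⁻¹ * x⁻¹) = 1
    have hAfix : ∀ y ∈ Zs, π a * π y = π y * π a := fun y hy => by rw [← map_mul, hy.2 a haS, map_mul]
    have hk1 : ∀ y ∈ Zs, π k * π y = π y * π k := by
      intro y hy
      have e1 : π t * π (y ^ m) * (π t)⁻¹ = π y := by
        rw [tV _ (mem_map_of_mem π (pow_mem hy m)), ← map_pow, ← pow_mul, mul_comm, hm, pow_succ,
          hA.elem.2 y (hZsV hy), one_mul]
      have h1 : π a' * π y * (π a')⁻¹ = π y := by
        calc π a' * π y * (π a')⁻¹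
            = π t * (π a * π (y ^ m) * (π a)⁻¹) * (π t)⁻¹ := by
              rw [← e1]; simp only [a', map_mul, map_inv]; group
          _ = π y := by rw [hAfix _ (pow_mem hy m), mul_inv_cancel_right, e1]
      have h2 : Commute (π a') (π y) := mul_inv_eq_iff_eq_mul.mp h1
      have h3 : Commute (π a ^ 4) (π y) := (show Commute (π a) (π y) from hAfix y hy).pow_left 4
      simp only [k, map_mul, map_inv, map_pow]
      exact (h3.inv_left.mul_left h2).eq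
    have hk2 : ∀ y ∈ cj g Zs, π k * π y = π y * π k := by
      intro y hy
      have hy2 : π t * π (y ^ 2) * (π t)⁻¹ = π y := by
        rw [tV' _ (mem_map_of_mem π (pow_mem hy 2)), ← map_pow, ← pow_mul, hm, pow_succ,
          hA.elem.2 y (hgZs hy), one_mul]
      set c := ⁅π a, π y⁆ with hc
      have hcZs : c ∈ Zs.map π := by
        rw [hc, ← map_commutatorElement]
        exact mem_map_of_mem π (hfix.le (hA.quad haS (hgZs hy)))
      have hcfix : π a * c = c * π a := by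
        obtain ⟨c₀, hc₀, e⟩ := hcZs
        rw [← e]; exact hAfix c₀ hc₀
      have hpow : ∀ n : ℕ, π a ^ n * π y * (π a ^ n)⁻¹ = c ^ n * π y := fun n =>
        Coprime.conj_pow_eq_translate (by rw [hc, commutatorElement_def]; group) hcfix n
      have h1 : π a' * π y * (π a')⁻¹ = c ^ 4 * π y := by
        calc π a' * π y * (π a')⁻¹
            = π t * (π a * π (y ^ 2) * (π a)⁻¹) * (π t)⁻¹ := by
              rw [← hy2]; simp only [a', map_mul, map_inv]; group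
          _ = π t * ((π a * π y * (π a)⁻¹) ^ 2) * (π t)⁻¹ := by rw [map_pow, conj_pow]
          _ = π t * c ^ 2 * (π t)⁻¹ * (π t * π (y ^ 2) * (π t)⁻¹) := by
            rw [show π a * π y * (π a)⁻¹ = c * π y by rw [hc, commutatorElement_def]; group,
              (show Commute c (π y) from hWV c (map_mono hZsV hcZs) _
                (mem_map_of_mem π (hgZs hy))).mul_pow, map_pow]
            group
          _ = c ^ 4 * π y := by rw [hy2, ← conj_pow, tV c hcZs, ← pow_mul]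
      have h4 : π a ^ 4 * π y * (π a ^ 4)⁻¹ = c ^ 4 * π y := hpow 4
      refine mul_inv_eq_iff_eq_mul.mp ?_
      calc π k * π y * (π k)⁻¹ = (π a ^ 4)⁻¹ * (π a' * π y * (π a')⁻¹) * π a ^ 4 := by
            simp only [k, map_mul, map_inv, map_pow]; group
        _ = π y := by rw [h1, ← h4]; group
    obtain ⟨z₁, hz₁, y₁, hy₁, rfl⟩ := hA.split d.notMem hx
    have hy₁' : y₁ ∈ cj g Zs := by
      refine mem_cj.mpr (hfix.le ⟨by simpa using vQ_normal.conj_mem y₁ hy₁.1 g⁻¹, fun s hs => ?_⟩)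
      calc s * (g⁻¹ * y₁ * g) = g⁻¹ * (g * s * g⁻¹ * y₁) * g := by group
        _ = g⁻¹ * y₁ * g * s := by
          rw [show g * s * g⁻¹ * y₁ = y₁ * (g * s * g⁻¹) from hy₁.2 _ ⟨s, hs, rfl⟩]; group
    have hc : Commute (π k) (π (z₁ * y₁)) := by
      rw [map_mul]; exact (show Commute _ _ from hk1 z₁ (hfix.le hz₁)).mul_right (hk2 y₁ hy₁')
    rw [map_mul, map_mul, map_mul, map_inv, map_inv, hc.eq, mul_inv_cancel_right, mul_inv_cancel]
  -- the torus on `Q / E`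
  set π₂ := QuotientGroup.mk' (E p Q' g)
  have hW₂ : ∀ x ∈ Q.map π₂, ∀ y ∈ Q.map π₂, x * y = y * x := fun x hx y hy =>
    commutator_le_iff_map.mp ((QQ_le h hB d).trans (N_le_E h hB d)) hy x hx
  have hbar := bar_act h hB d
  have hgD : cj g (Q ⊓ Q') ≤ Q := (cj_le_cj.mpr inf_le_left).trans (cj_pCore g).le
  have hn2 : ∀ x : G, π₂ x ∈ normalizer (Q.map π₂ : Set (G ⧸ E p Q' g)) := fun x =>
    le_normalizer_map π₂ ⟨x, (normalizer_eq_top_iff.mpr PCore.pCore_normal).ge (mem_top x), rfl⟩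
  have hED : E p Q' g ≤ Q ⊓ Q' := inf_le_left
  have hDgD : ∀ {y : G}, y ∈ Q ⊓ Q' → y ∈ cj g (Q ⊓ Q') → y ∈ E p Q' g := fun hy hy' => by
    rw [cj_inter] at hy'
    exact ⟨hy, hy'.2⟩
  obtain ⟨-, tQ'⟩ := torus_action hW₂ (L := (Q ⊓ Q').map π₂) (L' := (cj g (Q ⊓ Q')).map π₂)
    (a := π₂ a) (b := π₂ b) (hn2 a) (map_mono inf_le_left) (map_mono hgD) (by
      refine le_bot_iff.mp ?_
      rintro _ ⟨⟨x, hx, rfl⟩, ⟨y, hy, e⟩⟩
      obtain ⟨r, hr', rfl⟩ := (QuotientGroup.mk'_eq_mk' _).mp e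
      have hyD : y ∈ Q ⊓ Q' := by
        have := (Q ⊓ Q').mul_mem hx ((Q ⊓ Q').inv_mem (hED hr'))
        rwa [mul_inv_cancel_right] at this
      exact mem_bot.mpr ((QuotientGroup.eq_one_iff _).mpr (mul_mem (hDgD hyD hy) hr')))
    (by
      rintro _ ⟨x, hx, rfl⟩
      have h1 : π₂ (a * x * a⁻¹ * x⁻¹) = 1 := (QuotientGroup.eq_one_iff _).mpr (S_centralizes h hB d haS hx)
      rwa [map_mul, map_mul, map_mul, map_inv, map_inv, mul_inv_eq_one, mul_inv_eq_iff_eq_mul] at h1)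
    (by
      rintro _ ⟨_, ⟨y, hy, rfl⟩, rfl⟩
      have h0 := S_centralizes h hB d ha₀ hy
      have h1 : π₂ (g * (a₀ * y * a₀⁻¹ * y⁻¹) * g⁻¹) = 1 :=
        (QuotientGroup.eq_one_iff _).mpr ((E_normal h hB d).conj_mem _ h0 g)
      rw [show g * (a₀ * y * a₀⁻¹ * y⁻¹) * g⁻¹ =
        b * (g * y * g⁻¹) * b⁻¹ * (g * y * g⁻¹)⁻¹ by simp only [b]; group] at h1
      rwa [map_mul, map_mul, map_mul, map_inv, map_inv, mul_inv_eq_one, mul_inv_eq_iff_eq_mul] at h1)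
    (by
      rintro _ ⟨y, hy, rfl⟩
      rw [← map_commutatorElement]
      refine mem_map_of_mem π₂ ?_
      rw [commutatorElement_def]
      exact hquad a haS y (hgD hy))
    (by
      rintro _ ⟨x, hx, rfl⟩
      rw [← map_commutatorElement]
      refine mem_map_of_mem π₂ (mem_cj.mpr ?_)
      have h0 : g⁻¹ * x * g ∈ Q := by simpa using PCore.pCore_normal.conj_mem x hx.1 g⁻¹
      have := hquad a₀ ha₀ _ h0
      convert this using 1
      simp only [b, commutatorElement_def]; group)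
    (by
      show cj (π₂ a * π₂ b * π₂ a) ((cj g (Q ⊓ Q')).map π₂) = _
      rw [← map_mul, ← map_mul, ← map_cj, show cj (a * b * a) (cj g (Q ⊓ Q')) = Q ⊓ Q' from hwD])
    2 m (by
      intro x hx
      rw [hm, pow_succ, hbar.elem.2 x hx, one_mul])
  have ht₂ : π₂ a ^ 2 * π₂ b ^ m * π₂ a ^ 2 * (π₂ a * π₂ b * π₂ a)⁻¹ = π₂ t := by
    simp only [t, w, map_mul, map_pow, map_inv]
  rw [ht₂] at tQ'
  -- choose `u`
  obtain ⟨u₁, hu₁, hu₁Q'⟩ := exists_u h hB d hsh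
  obtain ⟨b₁, hb₁, r, hr', rfl⟩ := Qdec h d hu₁
  have hu : b₁ ∈ cj g (Q ⊓ Q') := cj_le_cj.mpr (le_inf d.V'Q d.V'Q') hb₁
  have huQ : b₁ ∉ Q' := fun hc => hu₁Q' (mul_mem hc hr'.2)
  obtain ⟨hzV, hzN⟩ := nondeg h hB d hsh ha haQ (hgD hu) huQ
  set Y := ⁅a, ⁅a, b₁⁆⁆
  have hYZs : Y ∈ Zs := by
    simp only [Y, commutatorElement_def]
    exact comm_AD h hB d ha (hquad a haS b₁ (hgD hu))
  have h2 : π (t * Y * t⁻¹) = π (Y ^ 2) := by
    rw [map_mul, map_mul, map_inv, map_pow]; exact tV _ (mem_map_of_mem π hYZs)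
  -- compute in `G / N`
  set π₃ := QuotientGroup.mk' (N p Q' g)
  have hW₃ : ∀ x ∈ Q.map π₃, ∀ y ∈ Q.map π₃, x * y = y * x := fun x hx y hy =>
    commutator_le_iff_map.mp (QQ_le h hB d) hy x hx
  have hn3 : ∀ x : G, π₃ x ∈ normalizer (Q.map π₃ : Set (G ⧸ N p Q' g)) := fun x =>
    le_normalizer_map π₃ ⟨x, (normalizer_eq_top_iff.mpr PCore.pCore_normal).ge (mem_top x), rfl⟩
  obtain ⟨e, he, heq⟩ : ∃ e ∈ E p Q' g, t * b₁ * t⁻¹ = b₁ ^ m * e := by
    have h1 : π₂ (b₁ ^ m) = π₂ (t * b₁ * t⁻¹) := by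
      rw [map_mul, map_mul, map_inv, map_pow]; exact (tQ' _ (mem_map_of_mem π₂ hu)).symm
    obtain ⟨e, he, e1⟩ := (QuotientGroup.mk'_eq_mk' _).mp h1
    exact ⟨e, he, e1.symm⟩
  set q₀ := a' * (a ^ 4)⁻¹
  have hq0 : q₀ ∈ Q := by
    have := PCore.pCore_normal.conj_mem k hk (a ^ 4)
    convert this using 1
    simp only [q₀, k]; group
  have eY : t * Y * t⁻¹ = ⁅q₀ * a ^ 4, ⁅q₀ * a ^ 4, b₁ ^ m * e⁆⁆ := by
    rw [← heq]; simp only [Y, q₀, a', commutatorElement_def]; group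
  have heQ : e ∈ Q := (inf_le_left.trans inf_le_left : E p Q' g ≤ Q) he
  have hb₁' : π₃ b₁ ∈ Q.map π₃ := mem_map_of_mem π₃ (hgD hu)
  have he' : π₃ e ∈ Q.map π₃ := mem_map_of_mem π₃ heQ
  have hue : π₃ b₁ ^ m * π₃ e ∈ Q.map π₃ := mul_mem (pow_mem hb₁' m) he'
  have hfix3 : ∀ {x : G}, x ∈ Q → π₃ a * ⁅π₃ a, ⁅π₃ a, π₃ x⁆⁆ = ⁅π₃ a, ⁅π₃ a, π₃ x⁆⁆ * π₃ a := by
    intro x hx
    have hx' : ⁅a, ⁅a, x⁆⁆ ∈ Zs := by
      simp only [commutatorElement_def]
      exact comm_AD h hB d ha (hquad a haS x hx)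
    rw [← map_commutatorElement, ← map_commutatorElement, ← map_mul, ← map_mul, hx'.2 a haS]
  have han : π₃ a ^ 4 ∈ normalizer (Q.map π₃ : Set (G ⧸ N p Q' g)) := pow_mem (hn3 a) 4
  clear_value q₀
  have h8 : π₃ (t * Y * t⁻¹) = π₃ Y ^ (16 * m) := by
    rw [eY, map_commutatorElement, map_commutatorElement, map_mul, map_mul, map_pow, map_pow]
    rw [tau_left hW₃ han (mem_map_of_mem π₃ hq0) hue,
      tau_left hW₃ han (mem_map_of_mem π₃ hq0) (tau_mem hW₃ han hue),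
      tau_mul hW₃ han (pow_mem hb₁' m) he',
      tau_mul hW₃ han (tau_mem hW₃ han (pow_mem hb₁' m)) (tau_mem hW₃ han he'),
      tau_four hW₃ (hn3 a) he' (hfix3 heQ), tau_npow hW₃ han hb₁',
      tau_npow hW₃ han (tau_mem hW₃ han hb₁'), tau_four hW₃ (hn3 a) hb₁' (hfix3 (hgD hu))]
    have he0 : ⁅π₃ a, ⁅π₃ a, π₃ e⁆⁆ = 1 := by
      rw [← map_commutatorElement, ← map_commutatorElement]
      have h1 : ⁅a, e⁆ ∈ Zs := by rw [commutatorElement_def]; exact comm_AD h hB d ha he.1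
      rw [commutatorElement_eq_one_iff_mul_comm.mpr (h1.2 a haS), map_one]
    rw [he0, one_pow, mul_one, ← pow_mul, ← map_commutatorElement, ← map_commutatorElement]
  have hN : ∀ {x y : G}, π x = π y → π₃ x = π₃ y := fun {x y} hxy => by
    obtain ⟨r, hr, rfl⟩ := (QuotientGroup.mk'_eq_mk' Z).mp hxy
    rw [map_mul, show π₃ r = 1 from (QuotientGroup.eq_one_iff _).mpr (mem_sup_left hr), mul_one]
  have hYp : π₃ Y ^ p = 1 := by rw [← map_pow, hA.elem.2 Y hzV, map_one]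
  have e2 := hN h2
  rw [h8, map_pow, show 16 * m = 8 * p + 8 by omega, pow_add, pow_mul', hYp, one_pow, one_mul] at e2
  have h6 : π₃ Y ^ 6 = 1 := by
    rw [show (8 : ℕ) = 6 + 2 from rfl, pow_add] at e2
    exact mul_right_cancel (e2.trans (one_mul _).symm)
  have hg : Nat.gcd 6 p = 1 := by
    rw [Nat.gcd_comm]
    refine (hp.coprime_iff_not_dvd.mpr fun hc => ?_)
    have := Nat.le_of_dvd (by norm_num) hc
    have h6 : p ≠ 6 := fun e => absurd (e ▸ hp) (by norm_num)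
    rw [show p = 5 by omega] at hc
    norm_num at hc
  have h1 := pow_gcd_eq_one.mpr ⟨h6, hYp⟩
  rw [hg, pow_one] at h1
  exact hzN ((QuotientGroup.eq_one_iff _).mp h1)

end Dat

end Cfsg.Agent.PushingUp
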