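import Cfsg.Agent.Lib.FFPair.Setting
import Cfsg.Agent.Lib.Offender.Thompson
import Cfsg.Agent.Lib.PGroup.Thompson

/-!
# Rank-one pushing up inside an ambient group

`Cfg Γ` records a subgroup `G`, a Sylow subgroup `S` of it, `Q = O_p(G)`, `V = Ω₁(Z(Q))`, `Zs = Z(S)` and
`Z = C_V(G)`.  `Base p c` says that `G` has the rank-one action on `V`; `NoCommon c` that no nontrivial
subgroup of `S` is normalised by `G` and by `N_Γ(S)`.  `Base.conj` moves the configuration to any other incidence.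

* `cj_*`: conjugate subgroups
* `fixed_eq`, `gen`, `comm_cover`, `elem_cover`: consequences at one vertex
* `cover`: a translate of `V` in `S` moving `V` covers `S / Q`
-/

set_option autoImplicit false

namespace Cfsg.Agent.PushingUp

open Subgroup
open FFPair (cj mem_cj cj_cj)
open scoped commutatorElement

universe u

variable {Γ : Type u} [Group Γ] {p : ℕ}

/-! ### Conjugates -/

theorem mem_cj_conj {e a : Γ} {H : Subgroup Γ} (ha : a ∈ H) : e * a * e⁻¹ ∈ cj e H := ⟨a, ha, rfl⟩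

theorem cj_one (H : Subgroup Γ) : cj (1 : Γ) H = H := by
  ext g
  rw [mem_cj, inv_one, one_mul, mul_one]

theorem cj_le_cj {e : Γ} {H K : Subgroup Γ} : cj e H ≤ cj e K ↔ H ≤ K :=
  ⟨fun h g hg => by
    have := mem_cj.mp (h (mem_cj_conj (e := e) hg))
    rwa [show e⁻¹ * (e * g * e⁻¹) * e = g by group] at this, fun h => map_mono h⟩

theorem le_cj_iff {e : Γ} {H K : Subgroup Γ} : H ≤ cj e K ↔ cj e⁻¹ H ≤ K := by
  rw [← cj_le_cj (e := e⁻¹), cj_cj, inv_mul_cancel, cj_one]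

theorem cj_inj {e : Γ} {H K : Subgroup Γ} (h : cj e H = cj e K) : H = K :=
  le_antisymm (cj_le_cj.mp h.le) (cj_le_cj.mp h.ge)

theorem cj_sup (e : Γ) (H K : Subgroup Γ) : cj e (H ⊔ K) = cj e H ⊔ cj e K := Subgroup.map_sup H K _

theorem cj_inf (e : Γ) (H K : Subgroup Γ) : cj e (H ⊓ K) = cj e H ⊓ cj e K :=
  Subgroup.map_inf H K _ (MulAut.conj e).injective

theorem card_cj (e : Γ) (H : Subgroup Γ) : Nat.card ↥(cj e H) = Nat.card ↥H :=
  card_map_of_injective (MulAut.conj e).injective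

theorem cj_centralizer (e : Γ) (H : Subgroup Γ) :
    cj e (centralizer (H : Set Γ)) = centralizer (cj e H : Set Γ) := by
  ext g
  rw [mem_cj, mem_centralizer_iff, mem_centralizer_iff]
  constructor
  · rintro h _ ⟨a, ha, rfl⟩
    show e * a * e⁻¹ * g = g * (e * a * e⁻¹)
    calc e * a * e⁻¹ * g = e * (a * (e⁻¹ * g * e)) * e⁻¹ := by group
      _ = g * (e * a * e⁻¹) := by rw [h a ha]; group
  · intro h a ha
    calc a * (e⁻¹ * g * e) = e⁻¹ * ((e * a * e⁻¹) * g) * e := by group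
      _ = e⁻¹ * g * e * a := by rw [h _ (mem_cj_conj ha)]; group

theorem cj_normalizer (e : Γ) (H : Subgroup Γ) :
    cj e (normalizer (H : Set Γ)) = normalizer (cj e H : Set Γ) :=
  Subgroup.map_equiv_normalizer_eq H (MulAut.conj e)

theorem cj_eq_self_of_mem_normalizer {e : Γ} {H : Subgroup Γ} (he : e ∈ normalizer (H : Set Γ)) :
    cj e H = H := PGroup.map_conj_eq_of_mem_normalizer he

theorem le_centralizer_cj_iff {e : Γ} {H K : Subgroup Γ} :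
    cj e H ≤ centralizer (cj e K : Set Γ) ↔ H ≤ centralizer (K : Set Γ) := by
  rw [← cj_centralizer, cj_le_cj]

/-- For `v ∈ V ∖ Z(S)` the commutator map `S → Z(S) / Z` is onto: stand-alone version. -/
theorem elem_cover_aux [Finite Γ] {S Q V Zs Z : Subgroup Γ} (hQS : Q ≤ S) (hZ : Z ≤ Zs) (hZsV : Zs ≤ V)
    (hcomm : ∀ a ∈ V, ∀ b ∈ V, a * b = b * a) (hQV : Q ≤ centralizer (V : Set Γ))
    (hcent : ∀ z ∈ Zs, ∀ a ∈ S, a * z * a⁻¹ = z)
    (hquad : ∀ a ∈ S, ∀ v ∈ V, a * v * a⁻¹ * v⁻¹ ∈ Zs)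
    (hsharp : ∀ a ∈ S, a ∉ Q → ∀ v ∈ V, a * v * a⁻¹ * v⁻¹ ∈ Z → v ∈ Zs)
    (hcard : Nat.card ↥Zs * Nat.card ↥Q = Nat.card ↥S * Nat.card ↥Z)
    {v z : Γ} (hv : v ∈ V) (hvZ : v ∉ Zs) (hz : z ∈ Zs) :
    ∃ a ∈ S, (a * v * a⁻¹ * v⁻¹)⁻¹ * z ∈ Z := by
  have hn : (Z.subgroupOf Zs).Normal := by
    refine ⟨fun y hy g => mem_subgroupOf.mpr ?_⟩
    show (g : Γ) * y * (g : Γ)⁻¹ ∈ Z
    rw [hcomm _ (hZsV g.2) _ (hZsV (hZ (mem_subgroupOf.mp hy))), mul_inv_cancel_right]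
    exact mem_subgroupOf.mp hy
  let k : ↥S → ↥Zs := fun a => ⟨_, hquad a a.2 v hv⟩
  let f : ↥S →* ↥Zs ⧸ Z.subgroupOf Zs :=
    MonoidHom.mk' (fun a => QuotientGroup.mk (k a)) fun a b => by
      rw [← QuotientGroup.mk_mul]
      congr 1
      refine Subtype.ext ?_
      show (a * b : Γ) * v * (a * b : Γ)⁻¹ * v⁻¹ = ((a : Γ) * v * (a : Γ)⁻¹ * v⁻¹) * ((b : Γ) * v * (b : Γ)⁻¹ * v⁻¹)
      have hb := hquad b b.2 v hv
      calc (a * b : Γ) * v * (a * b : Γ)⁻¹ * v⁻¹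
          = (a : Γ) * ((b : Γ) * v * (b : Γ)⁻¹ * v⁻¹) * (a : Γ)⁻¹ *
              ((a : Γ) * v * (a : Γ)⁻¹ * v⁻¹) := by group
        _ = _ := by rw [hcent _ hb a a.2, hcomm _ (hZsV hb) _ (hZsV (hquad a a.2 v hv))]
  have hker : f.ker = Q.subgroupOf S := by
    ext a
    rw [MonoidHom.mem_ker, mem_subgroupOf]
    refine (QuotientGroup.eq_one_iff _).trans ⟨fun ha => ?_, fun ha => mem_subgroupOf.mpr ?_⟩
    · by_contra haQ
      exact hvZ (hsharp a a.2 haQ v hv (mem_subgroupOf.mp ha))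
    · show (a : Γ) * v * (a : Γ)⁻¹ * v⁻¹ ∈ Z
      rw [← hQV ha v hv, mul_inv_cancel_right, mul_inv_cancel]
      exact one_mem _
  have h1 := f.ker.card_mul_index
  rw [index_ker, hker, Nat.card_congr (subgroupOfEquivOfLe hQS).toEquiv] at h1
  have h2 := card_eq_card_quotient_mul_card_subgroup (Z.subgroupOf Zs)
  rw [Nat.card_congr (subgroupOfEquivOfLe hZ).toEquiv] at h2
  have htop : f.range = ⊤ := by
    refine Subgroup.eq_top_of_card_eq _ (Nat.eq_of_mul_eq_mul_left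
      (Nat.mul_pos (Nat.card_pos (α := ↥Q)) (Nat.card_pos (α := ↥Z))) ?_)
    have e2 := hcard
    rw [← h1, h2] at e2
    calc Nat.card ↥Q * Nat.card ↥Z * Nat.card ↥f.range
        = Nat.card ↥Q * Nat.card ↥f.range * Nat.card ↥Z := by ring
      _ = _ := by rw [← e2]; ring
  have hmem : (QuotientGroup.mk (⟨z, hz⟩ : ↥Zs) : ↥Zs ⧸ Z.subgroupOf Zs) ∈ f.range :=
    htop ▸ mem_top _
  obtain ⟨a, ha⟩ := hmem
  have ha' : (k a)⁻¹ * ⟨z, hz⟩ ∈ Z.subgroupOf Zs := QuotientGroup.eq.mp ha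
  exact ⟨a, a.2, mem_subgroupOf.mp ha'⟩

/-! ### Configurations -/

/-- A subgroup with a Sylow subgroup and the standard attached subgroups. -/
structure Cfg (Γ : Type u) [Group Γ] where
  /-- the group -/
  G : Subgroup Γ
  /-- a Sylow subgroup -/
  S : Subgroup Γ
  /-- its `p`-core -/
  Q : Subgroup Γ
  /-- the module -/
  V : Subgroup Γ
  /-- the centre of `S` -/
  Zs : Subgroup Γ
  /-- the fixed points of `G` on `V` -/
  Z : Subgroup Γ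

/-- The configuration moved by `e`. -/
def Cfg.conj (c : Cfg Γ) (e : Γ) : Cfg Γ :=
  ⟨cj e c.G, cj e c.S, cj e c.Q, cj e c.V, cj e c.Zs, cj e c.Z⟩

/-- The hypotheses on a configuration. -/
structure Base (p : ℕ) (c : Cfg Γ) : Prop where
  SG : c.S ≤ c.G
  QS : c.Q ≤ c.S
  VQ : c.V ≤ c.Q
  GQ : c.G ≤ normalizer (c.Q : Set Γ)
  GV : c.G ≤ normalizer (c.V : Set Γ)
  elem : IsElementaryAbelian p c.V
  QV : c.Q ≤ centralizer (c.V : Set Γ)
  centV : c.S ⊓ centralizer (c.V : Set Γ) ≤ c.Q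
  Zs_eq : c.Zs = c.S ⊓ centralizer (c.S : Set Γ)
  ZsV : c.Zs ≤ c.V
  Z_eq : c.Z = c.V ⊓ centralizer (c.G : Set Γ)
  cardV : Nat.card ↥c.V * Nat.card ↥c.Q = Nat.card ↥c.S * Nat.card ↥c.Zs
  cardZs : Nat.card ↥c.Zs * Nat.card ↥c.Q = Nat.card ↥c.S * Nat.card ↥c.Z
  ne : ¬ c.S ≤ c.Q
  quad : ∀ a ∈ c.S, ∀ v ∈ c.V, a * v * a⁻¹ * v⁻¹ ∈ c.Zs
  sharp : ∀ a ∈ c.S, a ∉ c.Q → ∀ v ∈ c.V, a * v * a⁻¹ * v⁻¹ ∈ c.Z → v ∈ c.Zs
  comm : ∀ a ∈ c.S, ∀ b ∈ c.S, ⁅a, b⁆ ∈ c.Q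
  pow : ∀ a ∈ c.S, a ^ p ∈ c.Q
  dich : ∀ x ∈ c.G, cj x c.Zs = c.Zs ∨
    (c.S ⊔ cj x c.S = c.G ∧ c.Zs ⊔ cj x c.Zs = c.V ∧ c.Zs ⊓ cj x c.Zs = c.Z)
  moving : ∃ x ∈ c.G, cj x c.Zs ≠ c.Zs
  pgroup : IsPGroup p ↥c.S
  index : ¬ p ∣ c.S.relIndex c.G
  self : c.G ⊓ centralizer (c.Q : Set Γ) ≤ c.Q
  omega : ∀ y ∈ c.G, y ∈ centralizer (c.Q : Set Γ) → y ^ p = 1 → y ∈ c.V

/-- No nontrivial subgroup of `S` is normalised by `G` and by `N_Γ(S)`. -/
def NoCommon (c : Cfg Γ) : Prop :=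
  ∀ T : Subgroup Γ, T ≤ c.S → c.G ≤ normalizer (T : Set Γ) →
    normalizer (c.S : Set Γ) ≤ normalizer (T : Set Γ) → T = ⊥

namespace Base

variable {c : Cfg Γ} (h : Base p c)
include h

theorem conj (e : Γ) : Base p (c.conj e) where
  SG := map_mono h.SG
  QS := map_mono h.QS
  VQ := map_mono h.VQ
  GQ := (map_mono h.GQ).trans (cj_normalizer e c.Q).le
  GV := (map_mono h.GV).trans (cj_normalizer e c.V).le
  elem := PGroup.isElementaryAbelian_map h.elem _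
  QV := (map_mono h.QV).trans (cj_centralizer e c.V).le
  centV := by
    show cj e c.S ⊓ centralizer (cj e c.V : Set Γ) ≤ cj e c.Q
    rw [← cj_centralizer, ← cj_inf]
    exact map_mono h.centV
  Zs_eq := by
    show cj e c.Zs = cj e c.S ⊓ centralizer (cj e c.S : Set Γ)
    rw [← cj_centralizer, ← cj_inf, ← h.Zs_eq]
  ZsV := map_mono h.ZsV
  Z_eq := by
    show cj e c.Z = cj e c.V ⊓ centralizer (cj e c.G : Set Γ)
    rw [← cj_centralizer, ← cj_inf, ← h.Z_eq]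
  cardV := by simp only [Cfg.conj, card_cj]; exact h.cardV
  cardZs := by simp only [Cfg.conj, card_cj]; exact h.cardZs
  ne := fun hc => h.ne (cj_le_cj.mp hc)
  quad := by
    rintro _ ⟨a, ha, rfl⟩ _ ⟨v, hv, rfl⟩
    refine mem_cj.mpr ?_
    convert h.quad a ha v hv using 1
    simp only [MulEquiv.coe_toMonoidHom, MulAut.conj_apply]
    group
  sharp := by
    rintro _ ⟨a, ha, rfl⟩ haQ _ ⟨v, hv, rfl⟩ hc
    refine mem_cj_conj (h.sharp a ha (fun hq => haQ (mem_cj_conj hq)) v hv ?_)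
    convert mem_cj.mp hc using 1
    simp only [MulEquiv.coe_toMonoidHom, MulAut.conj_apply]
    group
  comm := by
    rintro _ ⟨a, ha, rfl⟩ _ ⟨b, hb, rfl⟩
    rw [← map_commutatorElement]
    exact mem_map_of_mem _ (h.comm a ha b hb)
  pow := by
    rintro _ ⟨a, ha, rfl⟩
    rw [← map_pow]
    exact mem_map_of_mem _ (h.pow a ha)
  dich := by
    rintro _ ⟨x, hx, rfl⟩
    show cj (e * x * e⁻¹) (cj e c.Zs) = cj e c.Zs ∨ _
    rw [cj_cj, show e * x * e⁻¹ * e = e * x by group, ← cj_cj]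
    rcases h.dich x hx with hd | ⟨h1, h2, h3⟩
    · exact Or.inl (by rw [hd])
    · refine Or.inr ⟨?_, ?_, ?_⟩
      · show cj e c.S ⊔ cj (e * x * e⁻¹) (cj e c.S) = cj e c.G
        rw [cj_cj, show e * x * e⁻¹ * e = e * x by group, ← cj_cj, ← cj_sup, h1]
      · show cj e c.Zs ⊔ cj (e * x * e⁻¹) (cj e c.Zs) = cj e c.V
        rw [cj_cj, show e * x * e⁻¹ * e = e * x by group, ← cj_cj, ← cj_sup, h2]
      · show cj e c.Zs ⊓ cj (e * x * e⁻¹) (cj e c.Zs) = cj e c.Z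
        rw [cj_cj, show e * x * e⁻¹ * e = e * x by group, ← cj_cj, ← cj_inf, h3]
  moving := by
    obtain ⟨x, hx, hne⟩ := h.moving
    refine ⟨e * x * e⁻¹, mem_cj_conj hx, fun hc => hne (cj_inj (e := e) ?_)⟩
    show cj e (cj x c.Zs) = cj e c.Zs
    rw [cj_cj, show e * x = e * x * e⁻¹ * e by group, ← cj_cj]
    exact hc
  pgroup := h.pgroup.map _
  index := by
    show ¬ p ∣ (cj e c.S).relIndex (cj e c.G)
    rw [Subgroup.relIndex_map_map_of_injective _ _ (MulAut.conj e).injective]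
    exact h.index
  self := by
    show cj e c.G ⊓ centralizer (cj e c.Q : Set Γ) ≤ cj e c.Q
    rw [← cj_centralizer, ← cj_inf]
    exact map_mono h.self
  omega := by
    rintro _ ⟨y, hy, rfl⟩ hyQ hyp
    refine mem_cj_conj (h.omega y hy ?_ ?_)
    · have := (cj_centralizer e c.Q).ge hyQ
      exact (Subgroup.mem_map_iff_mem (MulAut.conj e).injective).mp this
    · rw [← map_pow] at hyp
      exact (map_eq_one_iff _ (MulAut.conj e).injective).mp hyp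

omit h in
theorem conj_G {g : Γ} (hg : g ∈ c.G) : cj g c.G = c.G :=
  cj_eq_self_of_mem_normalizer (le_normalizer hg)

theorem conj_Q {g : Γ} (hg : g ∈ c.G) : cj g c.Q = c.Q := cj_eq_self_of_mem_normalizer (h.GQ hg)

theorem conj_V {g : Γ} (hg : g ∈ c.G) : cj g c.V = c.V := cj_eq_self_of_mem_normalizer (h.GV hg)

theorem Z_le_Zs : c.Z ≤ c.Zs := by
  intro z hz
  rw [h.Z_eq] at hz
  rw [h.Zs_eq]
  exact ⟨h.QS (h.VQ hz.1), centralizer_le (SetLike.coe_subset_coe.mpr h.SG) hz.2⟩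

theorem conj_Z {g : Γ} (hg : g ∈ c.G) : cj g c.Z = c.Z := by
  rw [h.Z_eq, cj_inf, cj_centralizer, h.conj_V hg, conj_G hg]

omit h in
theorem conj_S {g : Γ} (hg : g ∈ normalizer (c.S : Set Γ)) : cj g c.S = c.S :=
  cj_eq_self_of_mem_normalizer hg

theorem conj_Zs {g : Γ} (hg : g ∈ normalizer (c.S : Set Γ)) : cj g c.Zs = c.Zs := by
  rw [h.Zs_eq, cj_inf, cj_centralizer, conj_S hg]

theorem fixed_eq : c.V ⊓ centralizer (c.S : Set Γ) = c.Zs := by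
  rw [h.Zs_eq]
  exact le_antisymm (inf_le_inf_right _ (h.VQ.trans h.QS))
    (le_inf (h.Zs_eq ▸ h.ZsV) inf_le_right)

theorem V_comm {v w : Γ} (hv : v ∈ c.V) (hw : w ∈ c.V) : v * w = w * v :=
  PGroup.mul_comm_of_isMulCommutative h.elem.1 hv hw

theorem conjV {g v : Γ} (hg : g ∈ c.G) (hv : v ∈ c.V) : g * v * g⁻¹ ∈ c.V :=
  (mem_normalizer_iff.mp (h.GV hg) v).mp hv

theorem Z_central {z g : Γ} (hz : z ∈ c.Z) (hg : g ∈ c.G) : g * z * g⁻¹ = z := by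
  rw [(h.Z_eq ▸ hz : z ∈ c.V ⊓ centralizer (c.G : Set Γ)).2 g hg, mul_inv_cancel_right]

theorem Zs_central {z s : Γ} (hz : z ∈ c.Zs) (hs : s ∈ c.S) : s * z * s⁻¹ = z := by
  rw [(h.Zs_eq ▸ hz : z ∈ c.S ⊓ centralizer (c.S : Set Γ)).2 s hs, mul_inv_cancel_right]

theorem gen : ∃ x ∈ c.G, cj x c.Zs ≠ c.Zs ∧ c.S ⊔ cj x c.S = c.G := by
  obtain ⟨x, hx, hne⟩ := h.moving
  exact ⟨x, hx, hne, ((h.dich x hx).resolve_left hne).1⟩

theorem card_ratio [Finite Γ] {n : ℕ}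
    (hn : n * Nat.card ↥c.Q = Nat.card ↥c.S) :
    Nat.card ↥c.V = n * Nat.card ↥c.Zs ∧ Nat.card ↥c.Zs = n * Nat.card ↥c.Z := by
  have hpos : 0 < Nat.card ↥c.Q := Nat.card_pos
  exact ⟨Nat.eq_of_mul_eq_mul_right hpos (by rw [h.cardV, ← hn]; ring),
    Nat.eq_of_mul_eq_mul_right hpos (by rw [h.cardZs, ← hn]; ring)⟩

/-- For `a ∈ S ∖ Q` the commutator map `V → Z(S) / Z` is onto. -/
theorem comm_cover [Finite Γ] {a z : Γ} (ha : a ∈ c.S) (haQ : a ∉ c.Q) (hz : z ∈ c.Zs) :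
    ∃ v ∈ c.V, (a * v * a⁻¹ * v⁻¹)⁻¹ * z ∈ c.Z := by
  have hn : (c.Z.subgroupOf c.Zs).Normal := by
    refine ⟨fun y hy g => mem_subgroupOf.mpr ?_⟩
    show (g : Γ) * y * (g : Γ)⁻¹ ∈ c.Z
    rw [h.Z_central (mem_subgroupOf.mp hy) (h.SG (h.QS (h.VQ (h.ZsV g.2))))]
    exact mem_subgroupOf.mp hy
  let k : ↥c.V → ↥c.Zs := fun v => ⟨_, h.quad a ha v v.2⟩
  let f : ↥c.V →* ↥c.Zs ⧸ c.Z.subgroupOf c.Zs :=
    MonoidHom.mk' (fun v => QuotientGroup.mk (k v)) fun v w => by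
      rw [← QuotientGroup.mk_mul]
      congr 1
      refine Subtype.ext ?_
      show a * (v * w : Γ) * a⁻¹ * (v * w : Γ)⁻¹ =
        (a * v * a⁻¹ * (v : Γ)⁻¹) * (a * w * a⁻¹ * (w : Γ)⁻¹)
      calc a * (v * w : Γ) * a⁻¹ * (v * w : Γ)⁻¹
          = a * v * a⁻¹ * ((a * w * a⁻¹ * (w : Γ)⁻¹) * (v : Γ)⁻¹) := by group
        _ = a * v * a⁻¹ * ((v : Γ)⁻¹ * (a * w * a⁻¹ * (w : Γ)⁻¹)) := by
          rw [h.V_comm (h.ZsV (h.quad a ha w w.2)) (inv_mem v.2)]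
        _ = _ := by group
  have hker : f.ker = c.Zs.subgroupOf c.V := by
    ext v
    rw [MonoidHom.mem_ker, mem_subgroupOf]
    refine (QuotientGroup.eq_one_iff _).trans ⟨fun hv => h.sharp a ha haQ v v.2 (mem_subgroupOf.mp hv),
      fun hv => mem_subgroupOf.mpr ?_⟩
    show a * v * a⁻¹ * (v : Γ)⁻¹ ∈ c.Z
    rw [h.Zs_central hv ha, mul_inv_cancel]
    exact one_mem _
  have h1 := f.ker.card_mul_index
  rw [index_ker, hker, Nat.card_congr (subgroupOfEquivOfLe h.ZsV).toEquiv] at h1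
  have h2 := card_eq_card_quotient_mul_card_subgroup (c.Z.subgroupOf c.Zs)
  rw [Nat.card_congr (subgroupOfEquivOfLe h.Z_le_Zs).toEquiv] at h2
  have htop : f.range = ⊤ := by
    refine Subgroup.eq_top_of_card_eq _ (Nat.eq_of_mul_eq_mul_left
      (Nat.mul_pos (Nat.card_pos (α := ↥c.Zs)) (Nat.mul_pos (Nat.card_pos (α := ↥c.Q))
        (Nat.card_pos (α := ↥c.Z)))) ?_)
    have e1 := h.cardV
    have e2 := h.cardZs
    rw [← h1] at e1
    calc Nat.card ↥c.Zs * (Nat.card ↥c.Q * Nat.card ↥c.Z) * Nat.card ↥f.range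
        = (Nat.card ↥c.Zs * Nat.card ↥f.range * Nat.card ↥c.Q) * Nat.card ↥c.Z := by ring
      _ = Nat.card ↥c.Zs * (Nat.card ↥c.S * Nat.card ↥c.Z) := by rw [e1]; ring
      _ = Nat.card ↥c.Zs * (Nat.card ↥c.Zs * Nat.card ↥c.Q) := by rw [e2]
      _ = _ := by rw [h2]; ring
  have hmem : (QuotientGroup.mk (⟨z, hz⟩ : ↥c.Zs) : ↥c.Zs ⧸ c.Z.subgroupOf c.Zs) ∈ f.range :=
    htop ▸ mem_top _
  obtain ⟨v, hv⟩ := hmem
  have hv' : (k v)⁻¹ * ⟨z, hz⟩ ∈ c.Z.subgroupOf c.Zs := QuotientGroup.eq.mp hv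
  exact ⟨v, v.2, mem_subgroupOf.mp hv'⟩

/-- For `v ∈ V ∖ Z(S)` the commutator map `S → Z(S) / Z` is onto. -/
theorem elem_cover [Finite Γ] {v z : Γ} (hv : v ∈ c.V) (hvZ : v ∉ c.Zs) (hz : z ∈ c.Zs) :
    ∃ a ∈ c.S, (a * v * a⁻¹ * v⁻¹)⁻¹ * z ∈ c.Z :=
  elem_cover_aux h.QS h.Z_le_Zs h.ZsV (fun _ ha _ hb => h.V_comm ha hb) h.QV
    (fun _ hz _ ha => h.Zs_central hz ha) h.quad h.sharp h.cardZs hv hvZ hz

/-- A translate of `V` inside `S` that moves `V`, with `V` inside its Sylow subgroup, covers `S / Q`. -/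
theorem cover [Finite Γ] {e : Γ} (hle : cj e c.V ≤ c.S) (hle' : c.V ≤ cj e c.S)
    (hne : ¬ c.V ≤ centralizer (cj e c.V : Set Γ)) :
    cj e c.V ⊔ c.Q = c.S ∧ cj e c.V ⊓ c.Q = cj e c.Zs := by
  have he := h.conj e
  have hQn : cj e c.V ≤ normalizer (c.Q : Set Γ) := hle.trans (h.SG.trans h.GQ)
  have hinf : cj e c.V ⊓ c.Q = cj e c.Zs := by
    refine le_antisymm (fun x hx => ?_) fun x hx => ⟨he.ZsV hx, h.centV ⟨hle (he.ZsV hx), ?_⟩⟩
    · obtain ⟨v, hv, hvne⟩ : ∃ v ∈ c.V, v ∉ cj e c.Q := by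
        by_contra hc
        push Not at hc
        exact hne fun v hv => he.QV (hc v hv)
      refine he.sharp v (hle' hv) hvne x hx.1 ?_
      rw [← h.QV hx.2 v hv |>.symm, mul_inv_cancel_right, mul_inv_cancel]
      exact one_mem _
    · have hx' := (he.Zs_eq ▸ hx : x ∈ cj e c.S ⊓ centralizer (cj e c.S : Set Γ)).2
      exact fun v hv => hx' v (hle' hv)
  refine ⟨eq_of_le_of_card_ge (sup_le hle h.QS) ?_, hinf⟩
  have h1 := Offender.card_sup_mul_card_inf hQn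
  rw [hinf, card_cj, card_cj] at h1
  refine (Nat.le_of_mul_le_mul_right ?_ (Nat.card_pos (α := ↥c.Zs)))
  rw [h1, h.cardV]

end Base

end Cfsg.Agent.PushingUp
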